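import Mathlib
import Cfsg.Prelude.Def_Solvable
import Cfsg.Agent.Lib.helper1.ThompsonFpf
import Cfsg.Agent.Lib.helper1.Frob2
import Cfsg.Agent.Lib.helper75.FpfRank
import Cfsg.Agent.Lib.helper75.FrobKernel
import Cfsg.Agent.Lib.helper12.Conj

/-!
Tools around Frobenius groups (helper12).

* `isNilpotent_of_fpf_conj` : Thompson's theorem in conjugation form: a normal subgroup on which an
  element of prime order acts fixed-point-freely by conjugation is nilpotent.
* `frob_of_fpf_complement` : a complement `C ≠ ⊥` of a normal subgroup `N ≠ ⊥` acting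
  fixed-point-freely on `N` is a Frobenius complement and its Frobenius kernel is `N`.
* `frob_centralizer_le_kernel` : in a Frobenius group the centralizer of a nonidentity element of
  the kernel lies in the kernel.
-/

set_option autoImplicit false

namespace Cfsg.Agent.Lib.helper12

open Pointwise

/-- Thompson: a normal subgroup on which an element of prime order acts fixed-point-freely by
conjugation is nilpotent. -/
theorem isNilpotent_of_fpf_conj {G : Type*} [Group G] [Finite G] (N : Subgroup G) [N.Normal]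
    (y : G) (r : ℕ) (hr : r.Prime) (hy : y ^ r = 1)
    (hfpf : ∀ n ∈ N, y * n = n * y → n = 1) : Group.IsNilpotent N := by
  have hφ : ∀ n : ↥N, (MulAut.conjNormal y : ↥N ≃* ↥N) n = n → n = 1 := by
    intro n hn
    apply Subtype.ext
    apply hfpf n n.2
    have h1 : y * (n : G) * y⁻¹ = n := by
      have := congrArg Subtype.val hn
      simpa [MulAut.conjNormal_apply] using this
    calc y * (n : G) = y * n * y⁻¹ * y := by group
      _ = n * y := by rw [h1]
  have h2 : ∀ (i : ℕ) (n : ↥N),
      (((⇑(MulAut.conjNormal y : ↥N ≃* ↥N))^[i] n : ↥N) : G) = y ^ i * n * (y ^ i)⁻¹ := by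
    intro i
    induction i with
    | zero => intro n; simp
    | succ i ih =>
      intro n
      rw [Function.iterate_succ_apply', MulAut.conjNormal_apply, ih, pow_succ']
      group
  have hφr : ∀ n : ↥N, (⇑(MulAut.conjNormal y : ↥N ≃* ↥N))^[r] n = n := by
    intro n
    apply Subtype.ext
    rw [h2, hy]
    simp
  exact Cfsg.Agent.Lib.helper1.nilpotent_of_fpf_prime_aux r hr _ ↥N rfl _ hφ hφr

/-- The fixed-point-free condition in centralizer form. -/
theorem inf_centralizer_eq_bot_of_fpf {G : Type*} [Group G] (N C : Subgroup G)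
    (hfpf : ∀ h ∈ C, h ≠ 1 → ∀ n ∈ N, h * n = n * h → n = 1) :
    ∀ h ∈ C, h ≠ 1 → N ⊓ Subgroup.centralizer {h} = ⊥ := by
  intro h hh h1
  rw [Subgroup.eq_bot_iff_forall]
  intro n hn
  obtain ⟨hnN, hnC⟩ := Subgroup.mem_inf.mp hn
  rw [Subgroup.mem_centralizer_iff] at hnC
  exact hfpf h hh h1 n hnN (hnC h rfl)

/-- A complement `C ≠ ⊥` of a normal subgroup `N ≠ ⊥` acting fixed-point-freely on `N` is a
Frobenius complement, and its Frobenius kernel is `N`. -/
theorem frob_of_fpf_complement {G : Type*} [Group G] [Finite G] (N C : Subgroup G) [hNn : N.Normal]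
    (hc : Subgroup.IsComplement' N C) (hN : N ≠ ⊥) (hC : C ≠ ⊥)
    (hfpf : ∀ h ∈ C, h ≠ 1 → ∀ n ∈ N, h * n = n * h → n = 1) :
    Cfsg.IsFrobeniusComplement C ∧ Cfsg.frobeniusKernel C = (N : Set G) := by
  have hF := Cfsg.Agent.Lib.helper75.isFrobeniusComplement_of_fpf_complement N C hc hN hC
    (inf_centralizer_eq_bot_of_fpf N C hfpf)
  refine ⟨hF, ?_⟩
  have hdisj : ∀ x : G, x ∈ N → x ∈ C → x = 1 := by
    intro x hxN hxC
    have := hc.disjoint
    rw [Subgroup.disjoint_def] at this
    exact this hxN hxC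
  have hsub : (N : Set G) ⊆ Cfsg.frobeniusKernel C := by
    intro x hx
    by_cases hx1 : x = 1
    · exact Or.inl hx1
    · right
      intro g hg
      rw [mem_conj_smul_iff] at hg
      have h2 : g⁻¹ * x * g ∈ N := by simpa using hNn.conj_mem x hx g⁻¹
      have h3 := hdisj _ h2 hg
      apply hx1
      calc x = g * (g⁻¹ * x * g) * g⁻¹ := by group
        _ = 1 := by rw [h3]; group
  have hcard : Nat.card (Cfsg.frobeniusKernel C) = Nat.card N := by
    rw [Cfsg.Agent.Lib.helper75.frob_card_kernel C hF, hc.index_eq_card]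
  refine (Set.eq_of_subset_of_ncard_le hsub ?_ (Set.toFinite _)).symm
  rw [← Nat.card_coe_set_eq, ← Nat.card_coe_set_eq, hcard]
  exact le_of_eq rfl

/-- In a Frobenius group the centralizer of a nonidentity element of the kernel lies in the
kernel. -/
theorem frob_centralizer_le_kernel {G : Type*} [Group G] [Finite G] (C N : Subgroup G)
    (hC : Cfsg.IsFrobeniusComplement C) (hN : Cfsg.frobeniusKernel C = (N : Set G)) {n c : G}
    (hn : n ∈ N) (hn1 : n ≠ 1) (hcomm : c * n = n * c) : c ∈ N := by
  by_contra hcN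
  have hc' : c ∉ Cfsg.frobeniusKernel C := by rw [hN]; exact hcN
  have hnk : n ∈ Cfsg.frobeniusKernel C := by rw [hN]; exact hn
  simp only [Cfsg.frobeniusKernel, Set.mem_setOf_eq, not_or, not_forall, not_not] at hc'
  obtain ⟨hc1, g, hg⟩ := hc'
  have hC' := Cfsg.Agent.Lib.helper1.frobComp_conj C hC g
  have hnC' : n ∉ MulAut.conj g • C := by
    rcases hnk with h | h
    · exact absurd h hn1
    · exact h g
  have hTI := hC'.2.2 n hnC'
  have hmem : c ∈ (MulAut.conj g • C) ⊓ (MulAut.conj n • (MulAut.conj g • C)) := by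
    refine Subgroup.mem_inf.mpr ⟨hg, ?_⟩
    rw [mem_conj_smul_iff]
    have h3 : n⁻¹ * c * n = c := by
      calc n⁻¹ * c * n = n⁻¹ * (c * n) := by group
        _ = c := by rw [hcomm]; group
    rw [h3]; exact hg
  rw [hTI, Subgroup.mem_bot] at hmem
  exact hc1 hmem

end Cfsg.Agent.Lib.helper12
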