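import Mathlib
import Cfsg.Agent.Lib.helper12.Conj
import Cfsg.Agent.Lib.helper12.Fin

/-!
Fixed points of Frobenius groups of operators on finite abelian groups (helper12).

Elementary route to the Frobenius–Wielandt fixed point formula: no representation theory, only a
Vandermonde determinant over a commutative ring of operators and counting by pairs of injections.
-/

set_option autoImplicit false

namespace Cfsg.Agent.Lib.helper12

open scoped BigOperators Pointwise commutatorElement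

theorem ff_cramer {S N : Type*} [CommRing S] [AddCommGroup N] [Module S N] {n : ℕ}
    (A : Matrix (Fin n) (Fin n) S) (v : Fin n → N)
    (h : ∀ i, ∑ k, A i k • v k = 0) (k : Fin n) : A.det • v k = 0 := by
  have h1 : ∑ i, A.adjugate k i • (∑ j, A i j • v j) = 0 := by
    simp [h]
  have h2 : ∑ i, A.adjugate k i • (∑ j, A i j • v j) = ∑ j, (A.adjugate * A) k j • v j := by
    simp only [Finset.smul_sum, smul_smul, Matrix.mul_apply, Finset.sum_smul]
    rw [Finset.sum_comm]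
  rw [h2, Matrix.adjugate_mul] at h1
  simpa [Matrix.smul_apply, Matrix.one_apply, ite_smul] using h1

theorem ff_cramer' {S N : Type*} [CommRing S] [AddCommGroup N] [Module S N] {n : ℕ}
    (A : Matrix (Fin n) (Fin n) S) (v : Fin n → N)
    (h : ∀ k, ∑ i, A i k • v i = 0) (i : Fin n) : A.det • v i = 0 := by
  have := ff_cramer A.transpose v (by simpa [Matrix.transpose_apply] using h) i
  simpa [Matrix.det_transpose] using this

open scoped IsMulCommutative in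
/-- Vandermonde: for pairwise commuting endomorphisms with injective differences, both the row
system and the column system of the Vandermonde matrix have only the trivial solution. -/
theorem ff_vdm {N : Type*} [AddCommGroup N] {n : ℕ} (x : Fin n → AddMonoid.End N)
    (hcomm : ∀ i j, x i * x j = x j * x i)
    (hinj : ∀ i j, i ≠ j → ∀ m : N, x i m = x j m → m = 0) :
    (∀ c : Fin n → N, (∀ i, ∑ k : Fin n, ((x i) ^ (k : ℕ)) (c k) = 0) → ∀ k, c k = 0) ∧
    (∀ c : Fin n → N, (∀ k : Fin n, ∑ i, ((x i) ^ (k : ℕ)) (c i) = 0) → ∀ i, c i = 0) := by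
  classical
  have hcomm' : ∀ a ∈ Set.range x, ∀ b ∈ Set.range x, a * b = b * a := by
    rintro _ ⟨i, rfl⟩ _ ⟨j, rfl⟩
    exact hcomm i j
  have := Subring.isMulCommutative_closure hcomm'
  let xs : Fin n → Subring.closure (Set.range x) := fun i => ⟨x i, Subring.subset_closure ⟨i, rfl⟩⟩
  have hsm : ∀ (s : Subring.closure (Set.range x)) (m : N), s • m = (s : AddMonoid.End N) m := by
    intro s m
    rfl
  have hdetinj : ∀ m : N, (Matrix.vandermonde xs).det • m = 0 → m = 0 := by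
    rw [Matrix.det_vandermonde]
    refine Finset.prod_induction _ (fun s : Subring.closure (Set.range x) => ∀ m : N, s • m = 0 → m = 0)
      ?_ ?_ ?_
    · intro a b ha hb m hm
      rw [mul_smul] at hm
      exact hb m (ha _ hm)
    · intro m hm
      simpa using hm
    · intro i _
      refine Finset.prod_induction _ (fun s : Subring.closure (Set.range x) => ∀ m : N, s • m = 0 → m = 0)
        ?_ ?_ ?_
      · intro a b ha hb m hm
        rw [mul_smul] at hm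
        exact hb m (ha _ hm)
      · intro m hm
        simpa using hm
      · intro j hj m hm
        have hne : j ≠ i := (Finset.mem_Ioi.mp hj).ne'
        rw [hsm] at hm
        have h2 : ((xs j - xs i : Subring.closure (Set.range x)) : AddMonoid.End N) = x j - x i := rfl
        rw [h2] at hm
        have h3 : (x j - x i) m = x j m - x i m := rfl
        rw [h3] at hm
        exact hinj j i hne m (sub_eq_zero.mp hm)
  constructor
  · intro c h k
    apply hdetinj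
    apply ff_cramer (Matrix.vandermonde xs) c
    intro i
    rw [← h i]
    refine Finset.sum_congr rfl (fun k _ => ?_)
    rw [Matrix.vandermonde_apply, hsm]
    rfl
  · intro c h i
    apply hdetinj
    apply ff_cramer' (Matrix.vandermonde xs) c
    intro k
    rw [← h k]
    refine Finset.sum_congr rfl (fun i _ => ?_)
    rw [Matrix.vandermonde_apply, hsm]
    rfl

section Core

variable {G M : Type*} [Group G] [AddCommGroup M] [DistribMulAction G M]

/-- Fixed points of the subgroup `S` inside the additive subgroup `W`. -/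
def ffFix (S : Subgroup G) (W : AddSubgroup M) : AddSubgroup M where
  carrier := {w | w ∈ W ∧ ∀ s ∈ S, s • w = w}
  zero_mem' := ⟨W.zero_mem, fun s _ => smul_zero s⟩
  add_mem' := fun {a b} ha hb =>
    ⟨W.add_mem ha.1 hb.1, fun s hs => by rw [smul_add, ha.2 s hs, hb.2 s hs]⟩
  neg_mem' := fun {a} ha => ⟨W.neg_mem ha.1, fun s hs => by rw [smul_neg, ha.2 s hs]⟩

theorem mem_ffFix {S : Subgroup G} {W : AddSubgroup M} {w : M} :
    w ∈ ffFix S W ↔ w ∈ W ∧ ∀ s ∈ S, s • w = w := Iff.rfl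

theorem ffFix_le (S : Subgroup G) (W : AddSubgroup M) : ffFix S W ≤ W := fun _ h => h.1

/-- Counting by a Vandermonde system: if the conjugates `e u e⁻¹` (`e ∈ F`) act on `W` by commuting
operators whose pairwise differences are injective, then `|W| = |C_W(F)| ^ |F|`. -/
theorem ff_vdm_span [Finite M] (W : AddSubgroup M) (F : Subgroup G) [Finite F] (u : G)
    (hFW : ∀ e ∈ F, ∀ w ∈ W, e • w ∈ W) (huW : ∀ w ∈ W, u • w ∈ W)
    (hcomm : ∀ e ∈ F, ∀ f ∈ F, ∀ w ∈ W,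
      (e * u * e⁻¹) • (f * u * f⁻¹) • w = (f * u * f⁻¹) • (e * u * e⁻¹) • w)
    (hinj : ∀ e ∈ F, ∀ f ∈ F, e ≠ f → ∀ w ∈ W, (e * u * e⁻¹) • w = (f * u * f⁻¹) • w → w = 0) :
    Nat.card W = Nat.card (ffFix F W) ^ Nat.card F ∧
      ∀ w ∈ W, ∃ c : Fin (Nat.card F) → M, (∀ k, c k ∈ ffFix F W) ∧
        w = ∑ k : Fin (Nat.card F), (u ^ (k : ℕ)) • c k := by
  classical
  obtain ⟨n, hn⟩ : ∃ n, n = Nat.card F := ⟨_, rfl⟩
  subst hn
  have σ : Fin (Nat.card F) ≃ F := (Finite.equivFin F).symm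
  have hnpos : 0 < Nat.card F := Nat.card_pos
  let y : Fin (Nat.card F) → G := fun i => (σ i : G) * u * (σ i : G)⁻¹
  have hyW : ∀ i, ∀ w ∈ W, y i • w ∈ W := by
    intro i w hw
    have h1 : (σ i : G)⁻¹ • w ∈ W := hFW _ (F.inv_mem (σ i).2) w hw
    have h2 := hFW _ (σ i).2 _ (huW _ h1)
    simpa [y, mul_smul] using h2
  have hupow : ∀ (k : ℕ), ∀ w ∈ W, (u ^ k) • w ∈ W := by
    intro k
    induction k with
    | zero => intro w hw; simpa using hw
    | succ k ih => intro w hw; rw [pow_succ, mul_smul]; exact ih _ (huW w hw)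
  let x : Fin (Nat.card F) → AddMonoid.End W := fun i =>
    AddMonoidHom.mk' (fun w => ⟨y i • (w : M), hyW i w w.2⟩) (by
      intro a b
      apply Subtype.ext
      simp [smul_add])
  have hx1 : ∀ i (w : W), ((x i w : W) : M) = y i • (w : M) := fun i w => rfl
  have hxpow : ∀ i (k : ℕ) (w : W), ((((x i) ^ k) w : W) : M) = (y i ^ k) • (w : M) := by
    intro i k
    induction k with
    | zero => intro w; simp
    | succ k ih =>
      intro w
      have h1 : ((x i) ^ (k + 1)) w = ((x i) ^ k) (x i w) := by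
        rw [pow_succ]; rfl
      rw [h1, ih, hx1, pow_succ]
      exact (mul_smul _ _ _).symm
  have hxc : ∀ i j, x i * x j = x j * x i := by
    intro i j
    ext w
    have h1 : ((x i * x j) w : W) = x i (x j w) := rfl
    have h2 : ((x j * x i) w : W) = x j (x i w) := rfl
    rw [h1, h2, hx1, hx1, hx1, hx1]
    exact hcomm _ (σ i).2 _ (σ j).2 _ w.2
  have hxi : ∀ i j, i ≠ j → ∀ m : W, x i m = x j m → m = 0 := by
    intro i j hij m hm
    have h1 : y i • (m : M) = y j • (m : M) := by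
      have := congrArg Subtype.val hm
      simpa [hx1] using this
    have hne : (σ i : G) ≠ (σ j : G) := by
      intro h
      exact hij (σ.injective (Subtype.ext h))
    have := hinj _ (σ i).2 _ (σ j).2 hne _ m.2 h1
    exact Subtype.ext this
  obtain ⟨hV1, hV2⟩ := ff_vdm x hxc hxi
  -- key identity
  have hkey : ∀ (i : Fin (Nat.card F)) (k : ℕ) (z : M), (σ i : G) • (u ^ k) • z = (y i ^ k) • (σ i : G) • z := by
    intro i k z
    rw [← mul_smul, ← mul_smul]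
    congr 1
    simp only [y]
    rw [conj_pow]
    group
  -- first injection
  have hΦmem : ∀ c : Fin (Nat.card F) → ffFix F W, ∑ k : Fin (Nat.card F), (u ^ (k : ℕ)) • ((c k : M)) ∈ W :=
    fun c => W.sum_mem (fun k _ => hupow _ _ (c k).2.1)
  let Φ : (Fin (Nat.card F) → ffFix F W) → W := fun c => ⟨∑ k : Fin (Nat.card F), (u ^ (k : ℕ)) • ((c k : M)), hΦmem c⟩
  have hΦ : Function.Injective Φ := by
    intro c c' hcc
    have h0 : ∑ k : Fin (Nat.card F), (u ^ (k : ℕ)) • ((c k : M)) = ∑ k : Fin (Nat.card F), (u ^ (k : ℕ)) • ((c' k : M)) :=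
      congrArg Subtype.val hcc
    let d : Fin (Nat.card F) → W := fun k => ⟨(c k : M) - (c' k : M), W.sub_mem (c k).2.1 (c' k).2.1⟩
    have hd : ∀ i, ∑ k : Fin (Nat.card F), ((x i) ^ (k : ℕ)) (d k) = 0 := by
      intro i
      apply Subtype.ext
      rw [AddSubgroup.val_finsetSum]
      simp only [hxpow, d, AddSubgroup.coe_zero]
      have h1 := congrArg (fun z => (σ i : G) • z) h0
      simp only [Finset.smul_sum, hkey] at h1
      have h2 : ∀ k : Fin (Nat.card F), (σ i : G) • (c k : M) = (c k : M) := fun k => (c k).2.2 _ (σ i).2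
      have h3 : ∀ k : Fin (Nat.card F), (σ i : G) • (c' k : M) = (c' k : M) := fun k => (c' k).2.2 _ (σ i).2
      simp only [h2, h3] at h1
      simp only [smul_sub, Finset.sum_sub_distrib]
      rw [h1, sub_self]
    funext k
    have := hV1 d hd k
    have h4 : (c k : M) - (c' k : M) = 0 := congrArg Subtype.val this
    exact Subtype.ext (sub_eq_zero.mp h4)
  -- second injection
  have hΨmem : ∀ (w : W) (k : Fin (Nat.card F)), ∑ i : Fin (Nat.card F), (σ i : G) • (u ^ (k : ℕ)) • (w : M) ∈ ffFix F W := by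
    intro w k
    refine ⟨W.sum_mem (fun i _ => hFW _ (σ i).2 _ (hupow _ _ w.2)), ?_⟩
    intro e he
    rw [Finset.smul_sum]
    let τ : Fin (Nat.card F) ≃ Fin (Nat.card F) := σ.trans ((Equiv.mulLeft (⟨e, he⟩ : F)).trans σ.symm)
    have hτ : ∀ i, (σ (τ i) : G) = e * (σ i : G) := by
      intro i
      simp [τ]
    rw [← Equiv.sum_comp τ (fun i => (σ i : G) • (u ^ (k : ℕ)) • (w : M))]
    refine Finset.sum_congr rfl (fun i _ => ?_)
    rw [hτ, mul_smul]
  let Ψ : W → (Fin (Nat.card F) → ffFix F W) := fun w k => ⟨_, hΨmem w k⟩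
  have hΨ : Function.Injective Ψ := by
    intro w w' hww
    have h0 : ∀ k : Fin (Nat.card F), ∑ i : Fin (Nat.card F), (σ i : G) • (u ^ (k : ℕ)) • (w : M) =
        ∑ i : Fin (Nat.card F), (σ i : G) • (u ^ (k : ℕ)) • (w' : M) := by
      intro k
      exact congrArg Subtype.val (congrFun hww k)
    let c : Fin (Nat.card F) → W := fun i => ⟨(σ i : G) • ((w : M) - (w' : M)),
      hFW _ (σ i).2 _ (W.sub_mem w.2 w'.2)⟩
    have hc : ∀ k : Fin (Nat.card F), ∑ i, ((x i) ^ (k : ℕ)) (c i) = 0 := by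
      intro k
      apply Subtype.ext
      rw [AddSubgroup.val_finsetSum]
      simp only [hxpow, c, AddSubgroup.coe_zero]
      have h1 := h0 k
      simp only [hkey] at h1
      simp only [smul_sub, Finset.sum_sub_distrib]
      rw [h1, sub_self]
    have h5 := hV2 c hc ⟨0, hnpos⟩
    have h6 : (σ ⟨0, hnpos⟩ : G) • ((w : M) - (w' : M)) = 0 := congrArg Subtype.val h5
    rw [smul_eq_zero_iff_eq] at h6
    exact Subtype.ext (sub_eq_zero.mp h6)
  have hc1 : Nat.card (Fin (Nat.card F) → ffFix F W) = Nat.card (ffFix F W) ^ Nat.card F := by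
    rw [Nat.card_fun, Nat.card_fin]
  have h1 := Nat.card_le_card_of_injective Φ hΦ
  have h2 := Nat.card_le_card_of_injective Ψ hΨ
  refine ⟨by rw [← hc1]; exact le_antisymm h2 h1, ?_⟩
  intro w hw
  obtain ⟨c, hc⟩ := (hΦ.bijective_of_nat_card_le h2).2 ⟨w, hw⟩
  exact ⟨fun k => (c k : M), fun k => (c k).2, (congrArg Subtype.val hc).symm⟩

/-- Counting by a Vandermonde system: if the conjugates `e u e⁻¹` (`e ∈ F`) act on `W` by commuting
operators whose pairwise differences are injective, then `|W| = |C_W(F)| ^ |F|`. -/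
theorem ff_vdm_count [Finite M] (W : AddSubgroup M) (F : Subgroup G) [Finite F] (u : G)
    (hFW : ∀ e ∈ F, ∀ w ∈ W, e • w ∈ W) (huW : ∀ w ∈ W, u • w ∈ W)
    (hcomm : ∀ e ∈ F, ∀ f ∈ F, ∀ w ∈ W,
      (e * u * e⁻¹) • (f * u * f⁻¹) • w = (f * u * f⁻¹) • (e * u * e⁻¹) • w)
    (hinj : ∀ e ∈ F, ∀ f ∈ F, e ≠ f → ∀ w ∈ W, (e * u * e⁻¹) • w = (f * u * f⁻¹) • w → w = 0) :
    Nat.card W = Nat.card (ffFix F W) ^ Nat.card F :=
  (ff_vdm_span W F u hFW huW hcomm hinj).1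


/-! ### Coprime division -/

theorem ff_eq_zero_of_nsmul [Finite M] (W : AddSubgroup M) (m : ℕ) (hm : (Nat.card W).Coprime m)
    {w : M} (hw : w ∈ W) (h : m • w = 0) : w = 0 := by
  have h1 : addOrderOf (⟨w, hw⟩ : W) ∣ Nat.card W := addOrderOf_dvd_natCard _
  have h2 : addOrderOf (⟨w, hw⟩ : W) ∣ m := by
    apply addOrderOf_dvd_of_nsmul_eq_zero
    apply Subtype.ext
    simpa using h
  have h3 : addOrderOf (⟨w, hw⟩ : W) = 1 := Nat.eq_one_of_dvd_coprimes hm h1 h2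
  have h4 := AddMonoid.addOrderOf_eq_one_iff.mp h3
  exact congrArg Subtype.val h4

theorem ff_exists_nsmul [Finite M] (W : AddSubgroup M) (m : ℕ) (hm : (Nat.card W).Coprime m)
    {w : M} (hw : w ∈ W) : ∃ v ∈ W, m • v = w := by
  have hinj : Function.Injective (fun v : W => m • v) := by
    intro a b hab
    have h1 : m • ((a : M) - (b : M)) = 0 := by
      have h2 : m • (a : M) = m • (b : M) := by
        have := congrArg Subtype.val hab
        simpa using this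
      rw [smul_sub, h2, sub_self]
    have h0 := ff_eq_zero_of_nsmul W m hm (W.sub_mem a.2 b.2) h1
    exact Subtype.ext (sub_eq_zero.mp h0)
  obtain ⟨v, hv⟩ := (Finite.injective_iff_surjective.mp hinj) ⟨w, hw⟩
  refine ⟨v.1, v.2, ?_⟩
  have := congrArg Subtype.val hv
  simpa using this

/-! ### Decompositions -/

theorem ff_card_decomp [Finite M] (A B W : AddSubgroup M) (hA : A ≤ W) (hB : B ≤ W)
    (hdisj : ∀ a ∈ A, ∀ b ∈ B, a + b = 0 → a = 0)
    (hsum : ∀ w ∈ W, ∃ a ∈ A, ∃ b ∈ B, w = a + b) :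
    Nat.card W = Nat.card A * Nat.card B := by
  rw [← Nat.card_prod]
  symm
  apply Nat.card_congr
  refine Equiv.ofBijective
    (fun p : A × B => (⟨(p.1 : M) + (p.2 : M), W.add_mem (hA p.1.2) (hB p.2.2)⟩ : W)) ⟨?_, ?_⟩
  · rintro ⟨a, b⟩ ⟨a', b'⟩ h
    have h1 : (a : M) + b = a' + b' := congrArg Subtype.val h
    have h2 : ((a : M) - a') + ((b : M) - b') = 0 := by rw [sub_add_sub_comm, h1, sub_self]
    have h3 := hdisj _ (A.sub_mem a.2 a'.2) _ (B.sub_mem b.2 b'.2) h2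
    have h4 : (a : M) = a' := sub_eq_zero.mp h3
    have h5 : (b : M) = b' := by rw [h4] at h1; exact add_left_cancel h1
    exact Prod.ext (Subtype.ext h4) (Subtype.ext h5)
  · rintro ⟨w, hw⟩
    obtain ⟨a, ha, b, hb, rfl⟩ := hsum w hw
    exact ⟨(⟨a, ha⟩, ⟨b, hb⟩), rfl⟩

theorem ff_fix_card_decomp [Finite M] (S : Subgroup G) (A B W : AddSubgroup M) (hA : A ≤ W)
    (hB : B ≤ W) (hdisj : ∀ a ∈ A, ∀ b ∈ B, a + b = 0 → a = 0)
    (hsum : ∀ w ∈ W, ∃ a ∈ A, ∃ b ∈ B, w = a + b)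
    (hAS : ∀ s ∈ S, ∀ a ∈ A, s • a ∈ A) (hBS : ∀ s ∈ S, ∀ b ∈ B, s • b ∈ B) :
    Nat.card (ffFix S W) = Nat.card (ffFix S A) * Nat.card (ffFix S B) := by
  apply ff_card_decomp
  · exact fun w hw => ⟨hA hw.1, hw.2⟩
  · exact fun w hw => ⟨hB hw.1, hw.2⟩
  · exact fun a ha b hb h => hdisj a ha.1 b hb.1 h
  · intro w hw
    obtain ⟨a, ha, b, hb, rfl⟩ := hsum w hw.1
    have key : ∀ s ∈ S, s • a = a := by
      intro s hs
      have h1 := hw.2 s hs
      rw [smul_add] at h1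
      have h2 : (s • a - a) + (s • b - b) = 0 := by rw [sub_add_sub_comm, h1, sub_self]
      exact sub_eq_zero.mp
        (hdisj _ (A.sub_mem (hAS s hs a ha) ha) _ (B.sub_mem (hBS s hs b hb) hb) h2)
    refine ⟨a, ⟨ha, key⟩, b, ⟨hb, ?_⟩, rfl⟩
    intro s hs
    have h1 := hw.2 s hs
    rw [smul_add, key s hs] at h1
    exact add_left_cancel h1

/-- The induction step: the fixed point count is multiplicative over invariant decompositions. -/
theorem ff_step [Finite M] (E : Subgroup G) (A B W : AddSubgroup M) (k : ℕ) (hA : A ≤ W)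
    (hB : B ≤ W) (hdisj : ∀ a ∈ A, ∀ b ∈ B, a + b = 0 → a = 0)
    (hsum : ∀ w ∈ W, ∃ a ∈ A, ∃ b ∈ B, w = a + b)
    (hAE : ∀ s ∈ E, ∀ a ∈ A, s • a ∈ A) (hBE : ∀ s ∈ E, ∀ b ∈ B, s • b ∈ B)
    (h1 : Nat.card A = Nat.card (ffFix E A) ^ k) (h2 : Nat.card B = Nat.card (ffFix E B) ^ k) :
    Nat.card W = Nat.card (ffFix E W) ^ k := by
  rw [ff_card_decomp A B W hA hB hdisj hsum,
    ff_fix_card_decomp E A B W hA hB hdisj hsum hAE hBE, mul_pow, ← h1, ← h2]

/-- The `m`-eigenspace of the operator `Θ` inside `W`. -/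
def ffEig (W : AddSubgroup M) (Θ : M →+ M) (m : ℕ) : AddSubgroup M where
  carrier := {w | w ∈ W ∧ Θ w = m • w}
  zero_mem' := ⟨W.zero_mem, by simp⟩
  add_mem' := fun {a b} ha hb => ⟨W.add_mem ha.1 hb.1, by rw [map_add, ha.2, hb.2, smul_add]⟩
  neg_mem' := fun {a} ha => ⟨W.neg_mem ha.1, by rw [map_neg, ha.2, smul_neg]⟩

/-- The kernel of the operator `Θ` inside `W`. -/
def ffKer (W : AddSubgroup M) (Θ : M →+ M) : AddSubgroup M where
  carrier := {w | w ∈ W ∧ Θ w = 0}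
  zero_mem' := ⟨W.zero_mem, by simp⟩
  add_mem' := fun {a b} ha hb => ⟨W.add_mem ha.1 hb.1, by rw [map_add, ha.2, hb.2, add_zero]⟩
  neg_mem' := fun {a} ha => ⟨W.neg_mem ha.1, by rw [map_neg, ha.2, neg_zero]⟩

theorem mem_ffEig {W : AddSubgroup M} {Θ : M →+ M} {m : ℕ} {w : M} :
    w ∈ ffEig W Θ m ↔ w ∈ W ∧ Θ w = m • w := Iff.rfl

theorem mem_ffKer {W : AddSubgroup M} {Θ : M →+ M} {w : M} :
    w ∈ ffKer W Θ ↔ w ∈ W ∧ Θ w = 0 := Iff.rfl

theorem ffEig_le (W : AddSubgroup M) (Θ : M →+ M) (m : ℕ) : ffEig W Θ m ≤ W := fun _ h => h.1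

theorem ffKer_le (W : AddSubgroup M) (Θ : M →+ M) : ffKer W Θ ≤ W := fun _ h => h.1

theorem ff_eig_ker_disj [Finite M] (W : AddSubgroup M) (Θ : M →+ M) (m : ℕ)
    (hm : (Nat.card W).Coprime m) :
    ∀ a ∈ ffEig W Θ m, ∀ b ∈ ffKer W Θ, a + b = 0 → a = 0 := by
  intro a ha b hb hab
  have h1 : Θ (a + b) = 0 := by rw [hab, map_zero]
  rw [map_add, ha.2, hb.2, add_zero] at h1
  exact ff_eq_zero_of_nsmul W m hm ha.1 h1

theorem ff_eig_ker_sum [Finite M] (W : AddSubgroup M) (Θ : M →+ M) (m : ℕ)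
    (hm : (Nat.card W).Coprime m) (hΘW : ∀ w ∈ W, Θ w ∈ W)
    (hΘ : ∀ w ∈ W, Θ (Θ w) = m • Θ w) :
    ∀ w ∈ W, ∃ a ∈ ffEig W Θ m, ∃ b ∈ ffKer W Θ, w = a + b := by
  intro w hw
  obtain ⟨v, hv, hmv⟩ := ff_exists_nsmul W m hm hw
  refine ⟨Θ v, ⟨hΘW v hv, hΘ v hv⟩, w - Θ v, ⟨W.sub_mem hw (hΘW v hv), ?_⟩, by abel⟩
  rw [map_sub, hΘ v hv, ← hmv, map_nsmul, sub_self]

theorem ff_eig_inv (S : Subgroup G) (W : AddSubgroup M) (Θ : M →+ M) (m : ℕ)
    (hSW : ∀ s ∈ S, ∀ w ∈ W, s • w ∈ W) (hΘS : ∀ s ∈ S, ∀ w ∈ W, Θ (s • w) = s • Θ w) :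
    ∀ s ∈ S, ∀ w ∈ ffEig W Θ m, s • w ∈ ffEig W Θ m := by
  intro s hs w hw
  refine ⟨hSW s hs w hw.1, ?_⟩
  rw [hΘS s hs w hw.1, hw.2, smul_comm]

theorem ff_ker_inv (S : Subgroup G) (W : AddSubgroup M) (Θ : M →+ M)
    (hSW : ∀ s ∈ S, ∀ w ∈ W, s • w ∈ W) (hΘS : ∀ s ∈ S, ∀ w ∈ W, Θ (s • w) = s • Θ w) :
    ∀ s ∈ S, ∀ w ∈ ffKer W Θ, s • w ∈ ffKer W Θ := by
  intro s hs w hw
  refine ⟨hSW s hs w hw.1, ?_⟩
  rw [hΘS s hs w hw.1, hw.2, smul_zero]

/-! ### Trace operators -/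

section Trace

variable [Fintype G]

open Classical in
/-- The elements of a subgroup as a finset. -/
noncomputable def ffS (Q : Subgroup G) : Finset G := Finset.univ.filter (fun a => a ∈ Q)

theorem mem_ffS {Q : Subgroup G} {a : G} : a ∈ ffS Q ↔ a ∈ Q := by
  classical
  simp [ffS]

theorem card_ffS (Q : Subgroup G) : (ffS Q).card = Nat.card Q := by
  classical
  rw [Nat.card_eq_fintype_card, Fintype.card_subtype]
  rfl

/-- The trace (norm) operator of a subgroup. -/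
noncomputable def ffTr (Q : Subgroup G) : M →+ M :=
  ∑ a ∈ ffS Q, DistribSMul.toAddMonoidHom M a

theorem ffTr_apply (Q : Subgroup G) (w : M) : ffTr Q w = ∑ a ∈ ffS Q, a • w := by
  simp [ffTr]

theorem ffTr_mem (Q : Subgroup G) (W : AddSubgroup M) (hQW : ∀ a ∈ Q, ∀ w ∈ W, a • w ∈ W)
    {w : M} (hw : w ∈ W) : ffTr Q w ∈ W := by
  rw [ffTr_apply]
  exact W.sum_mem (fun a ha => hQW a (mem_ffS.mp ha) w hw)

theorem ffTr_smul_left (Q : Subgroup G) {b : G} (hb : b ∈ Q) (w : M) :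
    b • ffTr Q w = ffTr Q w := by
  rw [ffTr_apply, Finset.smul_sum]
  refine Finset.sum_equiv (Equiv.mulLeft b) ?_ ?_
  · intro a
    simp only [mem_ffS, Equiv.coe_mulLeft]
    exact (Subgroup.mul_mem_cancel_left Q hb).symm
  · intro a _
    simp [mul_smul]

theorem ffTr_of_fixed (Q : Subgroup G) {w : M} (hw : ∀ a ∈ Q, a • w = w) :
    ffTr Q w = Nat.card Q • w := by
  rw [ffTr_apply, ← card_ffS, ← Finset.sum_const]
  exact Finset.sum_congr rfl (fun a ha => hw a (mem_ffS.mp ha))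

theorem ffTr_conj (Q : Subgroup G) {g : G} (hg : g ∈ Subgroup.normalizer (Q : Set G)) (w : M) :
    ffTr Q (g • w) = g • ffTr Q w := by
  rw [ffTr_apply, ffTr_apply, Finset.smul_sum]
  refine Finset.sum_equiv (MulAut.conj g⁻¹).toEquiv ?_ ?_
  · intro a
    simp only [mem_ffS, MulEquiv.toEquiv_eq_coe, MulEquiv.coe_toEquiv, MulAut.conj_apply, inv_inv]
    have h := (Subgroup.mem_normalizer_iff.mp hg) (g⁻¹ * a * g)
    rw [h]
    have : g * (g⁻¹ * a * g) * g⁻¹ = a := by group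
    rw [this]
  · intro a _
    simp only [MulEquiv.toEquiv_eq_coe, MulEquiv.coe_toEquiv, MulAut.conj_apply, inv_inv]
    rw [← mul_smul, ← mul_smul]
    congr 1
    group

theorem ffTr_comm (Q : Subgroup G) (c : G) (w : M) (h : ∀ a ∈ Q, a • c • w = c • a • w) :
    ffTr Q (c • w) = c • ffTr Q w := by
  rw [ffTr_apply, ffTr_apply, Finset.smul_sum]
  exact Finset.sum_congr rfl (fun a ha => h a (mem_ffS.mp ha))

end Trace


/-! ### The main step -/

/-- The setting of the main step: `Q` acts on `W` by commuting operators, `E` normalizes `Q` and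
acts fixed-point-freely on it, and `Q₁ ≤ Q` is maximal subject to having nonzero fixed points
on `W`. -/
structure FFSetup (Q E Q₁ : Subgroup G) (W : AddSubgroup M) : Prop where
  hQE : ∀ e ∈ E, ∀ a ∈ Q, e * a * e⁻¹ ∈ Q
  hfpf : ∀ e ∈ E, e ≠ 1 → ∀ a ∈ Q, e * a = a * e → a = 1
  hQW : ∀ a ∈ Q, ∀ w ∈ W, a • w ∈ W
  hEW : ∀ e ∈ E, ∀ w ∈ W, e • w ∈ W
  hcomm : ∀ a ∈ Q, ∀ b ∈ Q, ∀ w ∈ W, a • b • w = b • a • w
  hQ₁ : Q₁ ≤ Q
  hmax : ∀ Q' : Subgroup G, Q₁ ≤ Q' → Q' ≤ Q → ffFix Q' W ≠ ⊥ → Q' = Q₁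

variable {Q E Q₁ : Subgroup G} {W : AddSubgroup M}

theorem FFSetup.maxjoin (h : FFSetup Q E Q₁ W) {Q'' : Subgroup G} (hQ'' : Q'' ≤ Q) {w : M}
    (hw : w ∈ ffFix Q₁ W) (hw0 : w ≠ 0) (hfix : ∀ g ∈ Q'', g • w = w) : Q'' ≤ Q₁ := by
  have h1 : ffFix (Q₁ ⊔ Q'') W ≠ ⊥ := by
    intro hbot
    have : w ∈ ffFix (Q₁ ⊔ Q'') W := by
      refine ⟨hw.1, ?_⟩
      have hle : Q₁ ⊔ Q'' ≤ MulAction.stabilizer G w := by
        apply sup_le
        · intro g hg; exact MulAction.mem_stabilizer_iff.mpr (hw.2 g hg)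
        · intro g hg; exact MulAction.mem_stabilizer_iff.mpr (hfix g hg)
      intro s hs
      exact MulAction.mem_stabilizer_iff.mp (hle hs)
    rw [hbot] at this
    exact hw0 (AddSubgroup.mem_bot.mp this)
  have h2 := h.hmax (Q₁ ⊔ Q'') le_sup_left (sup_le h.hQ₁ hQ'') h1
  rw [← h2]
  exact le_sup_right

theorem FFSetup.fix_inv_Q (h : FFSetup Q E Q₁ W) {a : G} (ha : a ∈ Q) {w : M}
    (hw : w ∈ ffFix Q₁ W) : a • w ∈ ffFix Q₁ W := by
  refine ⟨h.hQW a ha w hw.1, fun b hb => ?_⟩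
  rw [h.hcomm b (h.hQ₁ hb) a ha w hw.1, hw.2 b hb]

theorem FFSetup.fix_inv_N (h : FFSetup Q E Q₁ W) {g : G} (hgE : g ∈ E)
    (hgN : g ∈ Subgroup.normalizer (Q₁ : Set G)) {w : M} (hw : w ∈ ffFix Q₁ W) :
    g • w ∈ ffFix Q₁ W := by
  refine ⟨h.hEW g hgE w hw.1, fun b hb => ?_⟩
  have h1 : g⁻¹ * b * g ∈ Q₁ := by
    have := (Subgroup.mem_normalizer_iff.mp hgN) (g⁻¹ * b * g)
    rw [this]
    have h2 : g * (g⁻¹ * b * g) * g⁻¹ = b := by group
    rw [h2]; exact hb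
  calc b • g • w = g • (g⁻¹ * b * g) • w := by
        rw [← mul_smul, ← mul_smul]; congr 1; group
    _ = g • w := by rw [hw.2 _ h1]

section Trace2

variable [Fintype G]

theorem FFSetup.tr_mem_fix (h : FFSetup Q E Q₁ W) {w : M} (hw : w ∈ W) :
    ffTr Q₁ w ∈ ffFix Q₁ W :=
  ⟨ffTr_mem Q₁ W (fun a ha => h.hQW a (h.hQ₁ ha)) hw, fun _ hb => ffTr_smul_left Q₁ hb _⟩

theorem FFSetup.six (h : FFSetup Q E Q₁ W) {e : G} (he : e ∈ E)
    (heN : e ∉ Subgroup.normalizer (Q₁ : Set G)) {w : M} (hw : w ∈ ffFix Q₁ W) :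
    ffTr Q₁ (e • w) = 0 := by
  by_contra hx
  have hew : e • w ∈ W := h.hEW e he w hw.1
  have hxW₁ : ffTr Q₁ (e • w) ∈ ffFix Q₁ W := h.tr_mem_fix hew
  have hgQ : ∀ g ∈ MulAut.conj e • Q₁, g ∈ Q := by
    intro g hg
    rw [mem_conj_smul_iff] at hg
    have := h.hQE e he _ (h.hQ₁ hg)
    have h2 : e * (e⁻¹ * g * e) * e⁻¹ = g := by group
    rwa [h2] at this
  have hle : MulAut.conj e • Q₁ ≤ Q₁ := by
    apply h.maxjoin hgQ hxW₁ hx
    intro g hg
    have hgQ' := hgQ g hg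
    rw [mem_conj_smul_iff] at hg
    rw [← ffTr_comm Q₁ g (e • w) (fun a ha => h.hcomm a (h.hQ₁ ha) g hgQ' _ hew)]
    congr 1
    calc g • e • w = e • (e⁻¹ * g * e) • w := by
          rw [← mul_smul, ← mul_smul]; congr 1; group
      _ = e • w := by rw [hw.2 _ hg]
  exact heN (mem_normalizer_of_conj_smul_le hle)

/-- The averaged trace operator `Θ = ∑_{e ∈ E} e T_{Q₁} e⁻¹`. -/
noncomputable def ffTh (E Q₁ : Subgroup G) : M →+ M :=
  ∑ e ∈ ffS E, (DistribSMul.toAddMonoidHom M e).comp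
    ((ffTr Q₁).comp (DistribSMul.toAddMonoidHom M e⁻¹))

theorem ffTh_apply (E Q₁ : Subgroup G) (w : M) :
    ffTh E Q₁ w = ∑ e ∈ ffS E, e • ffTr Q₁ (e⁻¹ • w) := by
  simp [ffTh]

theorem ffTh_smul (E Q₁ : Subgroup G) {g : G} (hg : g ∈ E) (w : M) :
    ffTh E Q₁ (g • w) = g • ffTh E Q₁ w := by
  rw [ffTh_apply, ffTh_apply, Finset.smul_sum]
  refine Finset.sum_equiv (Equiv.mulLeft g⁻¹) ?_ ?_
  · intro a
    simp only [mem_ffS, Equiv.coe_mulLeft]
    exact (Subgroup.mul_mem_cancel_left E (E.inv_mem hg)).symm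
  · intro a _
    simp only [Equiv.coe_mulLeft]
    have h1 : (g⁻¹ * a)⁻¹ • w = a⁻¹ • g • w := by
      rw [← mul_smul]; congr 1; group
    rw [h1, ← mul_smul g (g⁻¹ * a), mul_inv_cancel_left]

/-- The eigenvalue of `Θ` on the fixed points of `Q₁`. -/
noncomputable def ffm (E Q₁ : Subgroup G) : ℕ :=
  Nat.card (E ⊓ Subgroup.normalizer (Q₁ : Set G) : Subgroup G) * Nat.card Q₁

theorem FFSetup.th_mem (h : FFSetup Q E Q₁ W) {w : M} (hw : w ∈ W) : ffTh E Q₁ w ∈ W := by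
  rw [ffTh_apply]
  refine W.sum_mem (fun e he => ?_)
  have heE := mem_ffS.mp he
  exact h.hEW e heE _ (h.tr_mem_fix (h.hEW _ (E.inv_mem heE) w hw)).1

open Classical in
theorem FFSetup.sum_ite (_h : FFSetup Q E Q₁ W) (w : M) :
    (∑ e ∈ ffS E, if e ∈ Subgroup.normalizer (Q₁ : Set G) then Nat.card Q₁ • w else 0) =
      ffm E Q₁ • w := by
  classical
  rw [Finset.sum_ite, Finset.sum_const_zero, add_zero, Finset.sum_const]
  have h3 : (ffS E).filter (fun e => e ∈ Subgroup.normalizer (Q₁ : Set G)) =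
      ffS (E ⊓ Subgroup.normalizer (Q₁ : Set G)) := by
    ext e; simp [mem_ffS, Subgroup.mem_inf]
  rw [h3, card_ffS, ffm, mul_smul]

theorem FFSetup.th_fix (h : FFSetup Q E Q₁ W) {w : M} (hw : w ∈ ffFix Q₁ W) :
    ffTh E Q₁ w = ffm E Q₁ • w := by
  classical
  rw [ffTh_apply, ← h.sum_ite]
  refine Finset.sum_congr rfl (fun e he => ?_)
  have heE := mem_ffS.mp he
  split_ifs with hN
  · have hN' : e⁻¹ ∈ Subgroup.normalizer (Q₁ : Set G) := inv_mem hN
    have h2 := h.fix_inv_N (E.inv_mem heE) hN' hw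
    rw [ffTr_of_fixed Q₁ h2.2, smul_comm, smul_inv_smul]
  · have hN' : e⁻¹ ∉ Subgroup.normalizer (Q₁ : Set G) := fun hc => hN (by simpa using inv_mem hc)
    rw [h.six (E.inv_mem heE) hN' hw, smul_zero]

theorem FFSetup.th_comm_Q (h : FFSetup Q E Q₁ W) {b : G} (hb : b ∈ Q) {w : M} (hw : w ∈ W) :
    ffTh E Q₁ (b • w) = b • ffTh E Q₁ w := by
  rw [ffTh_apply, ffTh_apply, Finset.smul_sum]
  refine Finset.sum_congr rfl (fun e he => ?_)
  have heE := mem_ffS.mp he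
  have hc : e⁻¹ * b * e ∈ Q := by
    have := h.hQE e⁻¹ (E.inv_mem heE) b hb
    simpa using this
  have hz : e⁻¹ • w ∈ W := h.hEW _ (E.inv_mem heE) w hw
  have h1 : e⁻¹ • b • w = (e⁻¹ * b * e) • e⁻¹ • w := by
    rw [← mul_smul, ← mul_smul]; congr 1; group
  rw [h1, ffTr_comm Q₁ _ _ (fun a ha => h.hcomm a (h.hQ₁ ha) _ hc _ hz), ← mul_smul, ← mul_smul]
  congr 1
  group

theorem FFSetup.th_th (h : FFSetup Q E Q₁ W) {w : M} (hw : w ∈ W) :
    ffTh E Q₁ (ffTh E Q₁ w) = ffm E Q₁ • ffTh E Q₁ w := by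
  have h0 := ffTh_apply E Q₁ w
  rw [h0, map_sum, Finset.smul_sum]
  refine Finset.sum_congr rfl (fun e he => ?_)
  have heE := mem_ffS.mp he
  rw [ffTh_smul E Q₁ heE, h.th_fix (h.tr_mem_fix (h.hEW _ (E.inv_mem heE) w hw)), smul_comm]


theorem FFSetup.cop (h : FFSetup Q E Q₁ W) (hcQ : (Nat.card W).Coprime (Nat.card Q))
    (hcE : (Nat.card W).Coprime (Nat.card E)) : (Nat.card W).Coprime (ffm E Q₁) := by
  unfold ffm
  apply Nat.Coprime.mul_right
  · exact Nat.Coprime.coprime_dvd_right (Subgroup.card_dvd_of_le inf_le_left) hcE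
  · exact Nat.Coprime.coprime_dvd_right (Subgroup.card_dvd_of_le h.hQ₁) hcQ

theorem FFSetup.tr_trE (h : FFSetup Q E Q₁ W) {w : M}
    (hw : w ∈ ffFix (E ⊓ Subgroup.normalizer (Q₁ : Set G)) (ffFix Q₁ W)) :
    ffTr Q₁ (ffTr E w) = ffm E Q₁ • w := by
  classical
  rw [ffTr_apply E, map_sum, ← h.sum_ite]
  refine Finset.sum_congr rfl (fun e he => ?_)
  have heE := mem_ffS.mp he
  split_ifs with hN
  · rw [hw.2 e ⟨heE, hN⟩, ffTr_of_fixed Q₁ hw.1.2]
  · exact h.six heE hN hw.1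

variable [Finite M]

theorem FFSetup.fix_count (h : FFSetup Q E Q₁ W) (hm : (Nat.card W).Coprime (ffm E Q₁)) :
    Nat.card (ffFix E (ffEig W (ffTh E Q₁) (ffm E Q₁))) =
      Nat.card (ffFix (E ⊓ Subgroup.normalizer (Q₁ : Set G)) (ffFix Q₁ W)) := by
  apply le_antisymm
  · have hβ : ∀ v : ffFix E (ffEig W (ffTh E Q₁) (ffm E Q₁)),
        ffTr Q₁ (v : M) ∈ ffFix (E ⊓ Subgroup.normalizer (Q₁ : Set G)) (ffFix Q₁ W) := by
      intro v
      refine ⟨h.tr_mem_fix v.2.1.1, fun e he => ?_⟩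
      rw [← ffTr_conj Q₁ he.2, v.2.2 e he.1]
    apply Nat.card_le_card_of_injective
      (fun v => (⟨_, hβ v⟩ : ffFix (E ⊓ Subgroup.normalizer (Q₁ : Set G)) (ffFix Q₁ W)))
    intro v v' hvv
    have h1 : ffTr Q₁ (v : M) = ffTr Q₁ (v' : M) := congrArg Subtype.val hvv
    have hd : ((v : M) - v') ∈ ffFix E (ffEig W (ffTh E Q₁) (ffm E Q₁)) :=
      AddSubgroup.sub_mem _ v.2 v'.2
    have h2 : ffTr Q₁ ((v : M) - v') = 0 := by rw [map_sub, h1, sub_self]
    have h3 : ffm E Q₁ • ((v : M) - v') = 0 := by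
      rw [← hd.1.2, ffTh_apply]
      apply Finset.sum_eq_zero
      intro e he
      rw [hd.2 _ (E.inv_mem (mem_ffS.mp he)), h2, smul_zero]
    have h4 := ff_eq_zero_of_nsmul W _ hm hd.1.1 h3
    exact Subtype.ext (sub_eq_zero.mp h4)
  · have hα : ∀ w : ffFix (E ⊓ Subgroup.normalizer (Q₁ : Set G)) (ffFix Q₁ W),
        ffTr E (w : M) ∈ ffFix E (ffEig W (ffTh E Q₁) (ffm E Q₁)) := by
      intro w
      refine ⟨?_, fun e he => ffTr_smul_left E he _⟩
      rw [ffTr_apply]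
      refine AddSubgroup.sum_mem _ (fun e he => ?_)
      have heE := mem_ffS.mp he
      exact ⟨h.hEW e heE _ w.2.1.1, by rw [ffTh_smul E Q₁ heE, h.th_fix w.2.1, smul_comm]⟩
    apply Nat.card_le_card_of_injective
      (fun w => (⟨_, hα w⟩ : ffFix E (ffEig W (ffTh E Q₁) (ffm E Q₁))))
    intro w w' hww
    have h1 : ffTr E (w : M) = ffTr E (w' : M) := congrArg Subtype.val hww
    have h2 : ffm E Q₁ • ((w : M) - w') = 0 := by
      rw [smul_sub, ← h.tr_trE w.2, ← h.tr_trE w'.2, h1, sub_self]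
    have h4 := ff_eq_zero_of_nsmul W _ hm (W.sub_mem w.2.1.1 w'.2.1.1) h2
    exact Subtype.ext (sub_eq_zero.mp h4)

theorem FFSetup.orbit_count (h : FFSetup Q E Q₁ W) (hm : (Nat.card W).Coprime (ffm E Q₁)) :
    ∃ k : ℕ, k * Nat.card (E ⊓ Subgroup.normalizer (Q₁ : Set G) : Subgroup G) = Nat.card E ∧
      Nat.card (ffEig W (ffTh E Q₁) (ffm E Q₁)) = Nat.card (ffFix Q₁ W) ^ k := by
  classical
  obtain ⟨S, hS, -⟩ := Subgroup.exists_isComplement_left
    ((E ⊓ Subgroup.normalizer (Q₁ : Set G)).subgroupOf E) 1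
  have hk : Nat.card S * Nat.card (E ⊓ Subgroup.normalizer (Q₁ : Set G) : Subgroup G) =
      Nat.card E := by
    rw [← hS.card_mul_card]
    congr 1
    exact (Nat.card_congr (Subgroup.subgroupOfEquivOfLe inf_le_left).toEquiv).symm
  refine ⟨Nat.card S, hk, ?_⟩
  haveI : Fintype S := Fintype.ofFinite S
  have hS1 : ∀ e : E, ∃ s : S, ∃ e₁ : G, e₁ ∈ E ⊓ Subgroup.normalizer (Q₁ : Set G) ∧
      (e : G) = ((s : E) : G) * e₁ := by
    intro e
    obtain ⟨⟨s, e₁⟩, hse⟩ := hS.2 e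
    refine ⟨s, ((e₁ : E) : G), Subgroup.mem_subgroupOf.mp e₁.2, ?_⟩
    have := congrArg Subtype.val hse
    simpa using this.symm
  have hS2 : ∀ s s' : S, ((s : E) : G)⁻¹ * ((s' : E) : G) ∈ Subgroup.normalizer (Q₁ : Set G) →
      s = s' := by
    intro s s' hN
    have hmem : (s : E)⁻¹ * (s' : E) ∈ (E ⊓ Subgroup.normalizer (Q₁ : Set G)).subgroupOf E := by
      rw [Subgroup.mem_subgroupOf]
      exact ⟨(E.mul_mem (E.inv_mem (s : E).2) (s' : E).2), by simpa using hN⟩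
    have := @hS.1 (s, ⟨_, hmem⟩) (s', 1) (by simp)
    exact (Prod.ext_iff.mp this).1
  rw [← Nat.card_fun]
  apply le_antisymm
  · have hΞ' : ∀ (v : ffEig W (ffTh E Q₁) (ffm E Q₁)) (s : S),
        ffTr Q₁ (((s : E) : G)⁻¹ • (v : M)) ∈ ffFix Q₁ W :=
      fun v s => h.tr_mem_fix (h.hEW _ (E.inv_mem (s : E).2) _ v.2.1)
    apply Nat.card_le_card_of_injective (fun v s => (⟨_, hΞ' v s⟩ : ffFix Q₁ W))
    intro v v' hvv
    have h1 : ∀ s : S, ffTr Q₁ (((s : E) : G)⁻¹ • (v : M)) =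
        ffTr Q₁ (((s : E) : G)⁻¹ • (v' : M)) :=
      fun s => congrArg Subtype.val (congrFun hvv s)
    have hd : ((v : M) - v') ∈ ffEig W (ffTh E Q₁) (ffm E Q₁) := AddSubgroup.sub_mem _ v.2 v'.2
    have h2 : ∀ s : S, ffTr Q₁ (((s : E) : G)⁻¹ • ((v : M) - v')) = 0 := by
      intro s; rw [smul_sub, map_sub, h1 s, sub_self]
    have h3 : ffm E Q₁ • ((v : M) - v') = 0 := by
      rw [← hd.2, ffTh_apply]
      apply Finset.sum_eq_zero
      intro e he
      obtain ⟨s, e₁, he₁, hse⟩ := hS1 ⟨e, mem_ffS.mp he⟩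
      have hse' : e = ((s : E) : G) * e₁ := hse
      have h4 : e⁻¹ • ((v : M) - v') = e₁⁻¹ • ((s : E) : G)⁻¹ • ((v : M) - v') := by
        rw [hse', mul_inv_rev, mul_smul]
      rw [h4, ffTr_conj Q₁ (inv_mem he₁.2), h2 s, smul_zero, smul_zero]
    have h5 := ff_eq_zero_of_nsmul W _ hm hd.1 h3
    exact Subtype.ext (sub_eq_zero.mp h5)
  · have hΞ : ∀ f : S → ffFix Q₁ W,
        ∑ s : S, ((s : E) : G) • ((f s : M)) ∈ ffEig W (ffTh E Q₁) (ffm E Q₁) := by
      intro f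
      refine AddSubgroup.sum_mem _ (fun s _ => ?_)
      exact ⟨h.hEW _ (s : E).2 _ (f s).2.1,
        by rw [ffTh_smul E Q₁ (s : E).2, h.th_fix (f s).2, smul_comm]⟩
    apply Nat.card_le_card_of_injective
      (fun f => (⟨_, hΞ f⟩ : ffEig W (ffTh E Q₁) (ffm E Q₁)))
    intro f f' hff
    have h1 : ∑ s : S, ((s : E) : G) • ((f s : M)) = ∑ s : S, ((s : E) : G) • ((f' s : M)) :=
      congrArg Subtype.val hff
    funext s₀
    have h2 : ∑ s : S, ((s : E) : G) • ((f s : M) - (f' s : M)) = 0 := by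
      simp only [smul_sub, Finset.sum_sub_distrib]; rw [h1, sub_self]
    have h3 : ffTr Q₁ (((s₀ : E) : G)⁻¹ • ∑ s : S, ((s : E) : G) • ((f s : M) - (f' s : M))) = 0 := by
      rw [h2, smul_zero, map_zero]
    rw [Finset.smul_sum, map_sum, Finset.sum_eq_single s₀] at h3
    · rw [inv_smul_smul, ffTr_of_fixed Q₁ (AddSubgroup.sub_mem _ (f s₀).2 (f' s₀).2).2] at h3
      have hcQ₁ : (Nat.card W).Coprime (Nat.card Q₁) := by
        unfold ffm at hm
        exact Nat.Coprime.coprime_mul_left_right hm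
      have h4 := ff_eq_zero_of_nsmul W _ hcQ₁ (W.sub_mem (f s₀).2.1 (f' s₀).2.1) h3
      exact Subtype.ext (sub_eq_zero.mp h4)
    · intro s _ hs
      rw [← mul_smul]
      apply h.six (E.mul_mem (E.inv_mem (s₀ : E).2) (s : E).2)
      · intro hN; exact hs (hS2 s₀ s hN).symm
      · exact AddSubgroup.sub_mem _ (f s).2 (f' s).2
    · intro hs; exact absurd (Finset.mem_univ _) hs

theorem FFSetup.fpf_mem (h : FFSetup Q E Q₁ W) {g : G} (hgE : g ∈ E) (hg1 : g ≠ 1)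
    (hgN : g ∈ Subgroup.normalizer (Q₁ : Set G)) {u : G} (hu : u ∈ Q)
    (hc : u⁻¹ * g * u * g⁻¹ ∈ Q₁) : u ∈ Q₁ := by
  have hconj : ∀ a ∈ Q₁, g * a * g⁻¹ ∈ Q₁ :=
    fun a ha => (Subgroup.mem_normalizer_iff.mp hgN a).mp ha
  have key : ∀ (x : G) (a : Q₁), x ∈ Q → (a : G)⁻¹ * (g * a * g⁻¹) = x⁻¹ * g * x * g⁻¹ →
      x = a := by
    intro x a hx h1
    have h3 : x * (a : G)⁻¹ * g * a = g * x := by
      calc x * (a : G)⁻¹ * g * a = x * ((a : G)⁻¹ * (g * a * g⁻¹)) * g := by group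
        _ = x * (x⁻¹ * g * x * g⁻¹) * g := by rw [h1]
        _ = g * x := by group
    have h2 : g * (x * (a : G)⁻¹) = (x * (a : G)⁻¹) * g := by
      calc g * (x * (a : G)⁻¹) = (g * x) * (a : G)⁻¹ := by group
        _ = (x * (a : G)⁻¹ * g * a) * (a : G)⁻¹ := by rw [h3]
        _ = (x * (a : G)⁻¹) * g := by group
    have h4 := h.hfpf g hgE hg1 _ (Q.mul_mem hx (Q.inv_mem (h.hQ₁ a.2))) h2
    exact mul_inv_eq_one.mp h4
  let c : Q₁ → Q₁ := fun a =>
    ⟨(a : G)⁻¹ * (g * a * g⁻¹), Q₁.mul_mem (Q₁.inv_mem a.2) (hconj a a.2)⟩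
  have hcinj : Function.Injective c := by
    intro a b hab
    have h1 : (a : G)⁻¹ * (g * a * g⁻¹) = (b : G)⁻¹ * (g * b * g⁻¹) := congrArg Subtype.val hab
    have h2 : (b : G)⁻¹ * (g * b * g⁻¹) = (b : G)⁻¹ * g * b * g⁻¹ := by group
    exact (Subtype.ext (key b a (h.hQ₁ b.2) (h1.trans h2))).symm
  obtain ⟨a, ha⟩ := (Finite.injective_iff_surjective.mp hcinj) ⟨u⁻¹ * g * u * g⁻¹, hc⟩
  have h1 : (a : G)⁻¹ * (g * a * g⁻¹) = u⁻¹ * g * u * g⁻¹ := congrArg Subtype.val ha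
  rw [key u a hu h1]
  exact a.2

theorem FFSetup.vdm_span (h : FFSetup Q E Q₁ W) {u : G} (hu : u ∈ Q) (huQ₁ : u ∉ Q₁) :
    Nat.card (ffFix Q₁ W) =
      Nat.card (ffFix (E ⊓ Subgroup.normalizer (Q₁ : Set G)) (ffFix Q₁ W)) ^
        Nat.card (E ⊓ Subgroup.normalizer (Q₁ : Set G) : Subgroup G) ∧
    ∀ w ∈ ffFix Q₁ W, ∃ c : Fin (Nat.card (E ⊓ Subgroup.normalizer (Q₁ : Set G) : Subgroup G)) → M,
      (∀ k, c k ∈ ffFix (E ⊓ Subgroup.normalizer (Q₁ : Set G)) (ffFix Q₁ W)) ∧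
        w = ∑ k : Fin (Nat.card (E ⊓ Subgroup.normalizer (Q₁ : Set G) : Subgroup G)),
          (u ^ (k : ℕ)) • c k := by
  apply ff_vdm_span (ffFix Q₁ W) (E ⊓ Subgroup.normalizer (Q₁ : Set G)) u
  · exact fun e he w hw => h.fix_inv_N he.1 he.2 hw
  · exact fun w hw => h.fix_inv_Q hu hw
  · exact fun e he f hf w hw => h.hcomm _ (h.hQE e he.1 u hu) _ (h.hQE f hf.1 u hu) w hw.1
  · intro e he f hf hef w hw hww
    by_contra hw0
    have hyQ : (f * u * f⁻¹)⁻¹ * (e * u * e⁻¹) ∈ Q :=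
      Q.mul_mem (Q.inv_mem (h.hQE f hf.1 u hu)) (h.hQE e he.1 u hu)
    have hyw : ((f * u * f⁻¹)⁻¹ * (e * u * e⁻¹)) • w = w := by
      rw [mul_smul, hww, inv_smul_smul]
    have hle : Subgroup.zpowers ((f * u * f⁻¹)⁻¹ * (e * u * e⁻¹)) ≤ Q₁ := by
      apply h.maxjoin ((Subgroup.zpowers_le).mpr hyQ) hw hw0
      intro g hg
      have hst : Subgroup.zpowers ((f * u * f⁻¹)⁻¹ * (e * u * e⁻¹)) ≤ MulAction.stabilizer G w :=
        (Subgroup.zpowers_le).mpr (MulAction.mem_stabilizer_iff.mpr hyw)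
      exact MulAction.mem_stabilizer_iff.mp (hst hg)
    have hyQ₁ := hle (Subgroup.mem_zpowers _)
    have hfN : f⁻¹ ∈ Subgroup.normalizer (Q₁ : Set G) := inv_mem hf.2
    have h1 := (Subgroup.mem_normalizer_iff.mp hfN _).mp hyQ₁
    have h2 : f⁻¹ * ((f * u * f⁻¹)⁻¹ * (e * u * e⁻¹)) * f⁻¹⁻¹ =
        u⁻¹ * (f⁻¹ * e) * u * (f⁻¹ * e)⁻¹ := by group
    rw [h2] at h1
    have hg1 : f⁻¹ * e ≠ 1 := by
      intro hc
      exact hef (inv_mul_eq_one.mp hc).symm
    exact huQ₁ (h.fpf_mem (E.mul_mem (E.inv_mem hf.1) he.1) hg1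
      (Subgroup.mul_mem _ hfN he.2) hu h1)

theorem FFSetup.vdm (h : FFSetup Q E Q₁ W) (hne : ffFix Q₁ W ≠ ⊥)
    (hfix : ∀ w ∈ W, (∀ a ∈ Q, a • w = w) → w = 0) :
    Nat.card (ffFix Q₁ W) =
      Nat.card (ffFix (E ⊓ Subgroup.normalizer (Q₁ : Set G)) (ffFix Q₁ W)) ^
        Nat.card (E ⊓ Subgroup.normalizer (Q₁ : Set G) : Subgroup G) := by
  have hlt : Q₁ < Q := by
    refine lt_of_le_of_ne h.hQ₁ ?_
    intro heq
    apply hne
    rw [eq_bot_iff]
    intro w hw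
    rw [heq] at hw
    exact hfix w hw.1 hw.2
  obtain ⟨u, hu, huQ₁⟩ := SetLike.exists_of_lt hlt
  exact (h.vdm_span hu huQ₁).1

end Trace2

/-- **Main step.** `Q` acts on `W` by commuting operators without nonzero fixed points, `E`
normalizes `Q` and acts fixed-point-freely on it, orders coprime: then `|W| = |C_W(E)| ^ |E|`. -/
theorem ff_mmt [Finite G] [Finite M] (Q E : Subgroup G)
    (hQE : ∀ e ∈ E, ∀ a ∈ Q, e * a * e⁻¹ ∈ Q)
    (hfpf : ∀ e ∈ E, e ≠ 1 → ∀ a ∈ Q, e * a = a * e → a = 1) :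
    ∀ (n : ℕ) (W : AddSubgroup M), Nat.card W = n →
      (∀ a ∈ Q, ∀ w ∈ W, a • w ∈ W) → (∀ e ∈ E, ∀ w ∈ W, e • w ∈ W) →
      (∀ a ∈ Q, ∀ b ∈ Q, ∀ w ∈ W, a • b • w = b • a • w) →
      (Nat.card W).Coprime (Nat.card Q) → (Nat.card W).Coprime (Nat.card E) →
      (∀ w ∈ W, (∀ a ∈ Q, a • w = w) → w = 0) →
      Nat.card W = Nat.card (ffFix E W) ^ Nat.card E := by
  haveI := Fintype.ofFinite G
  intro n
  induction n using Nat.strong_induction_on with
  | _ n ih =>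
  intro W hn hQW hEW hcomm hcQ hcE hfix
  by_cases hW : W = ⊥
  · subst hW
    have : ffFix E (⊥ : AddSubgroup M) = ⊥ := le_bot_iff.mp (ffFix_le E ⊥)
    rw [this]
    simp
  obtain ⟨Q₁, ⟨hQ₁Q, hQ₁ne⟩, hQ₁max⟩ := Set.exists_max_image
    {Q' : Subgroup G | Q' ≤ Q ∧ ffFix Q' W ≠ ⊥} (fun Q' => Nat.card Q') (Set.toFinite _)
    ⟨⊥, bot_le, by
      intro hbot
      apply hW
      rw [eq_bot_iff]
      intro w hw
      have : w ∈ ffFix (⊥ : Subgroup G) W :=
        ⟨hw, fun s hs => by rw [Subgroup.mem_bot.mp hs, one_smul]⟩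
      rw [hbot] at this
      exact this⟩
  have hS : FFSetup Q E Q₁ W :=
    { hQE := hQE, hfpf := hfpf, hQW := hQW, hEW := hEW, hcomm := hcomm, hQ₁ := hQ₁Q
      hmax := by
        intro Q' h1 h2 h3
        exact (Subgroup.eq_of_le_of_card_ge h1 (hQ₁max Q' ⟨h2, h3⟩)).symm }
  have hm := hS.cop hcQ hcE
  have hdisj := ff_eig_ker_disj W (ffTh E Q₁) (ffm E Q₁) hm
  have hsum := ff_eig_ker_sum W (ffTh E Q₁) (ffm E Q₁) hm (fun w hw => hS.th_mem hw)
    (fun w hw => hS.th_th hw)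
  have hAE := ff_eig_inv E W (ffTh E Q₁) (ffm E Q₁) hEW (fun s hs w _ => ffTh_smul E Q₁ hs w)
  have hBE := ff_ker_inv E W (ffTh E Q₁) hEW (fun s hs w _ => ffTh_smul E Q₁ hs w)
  have hBQ := ff_ker_inv Q W (ffTh E Q₁) hQW (fun s hs w hw => hS.th_comm_Q hs hw)
  apply ff_step E (ffEig W (ffTh E Q₁) (ffm E Q₁)) (ffKer W (ffTh E Q₁)) W (Nat.card E)
    (ffEig_le _ _ _) (ffKer_le _ _) hdisj hsum hAE hBE
  · obtain ⟨k, hk, hcard⟩ := hS.orbit_count hm
    rw [hcard, hS.fix_count hm, hS.vdm hQ₁ne hfix, ← pow_mul, mul_comm, hk]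
  · have hcardW := ff_card_decomp (ffEig W (ffTh E Q₁) (ffm E Q₁)) (ffKer W (ffTh E Q₁)) W
      (ffEig_le _ _ _) (ffKer_le _ _) hdisj hsum
    have hVO : 1 < Nat.card (ffEig W (ffTh E Q₁) (ffm E Q₁)) := by
      rw [AddSubgroup.one_lt_card_iff_ne_bot]
      intro hbot
      apply hQ₁ne
      rw [eq_bot_iff]
      intro w hw
      have : w ∈ ffEig W (ffTh E Q₁) (ffm E Q₁) := ⟨hw.1, hS.th_fix hw⟩
      rw [hbot] at this
      exact this
    have hlt : Nat.card (ffKer W (ffTh E Q₁)) < n := by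
      rw [← hn, hcardW]
      have hpos : 0 < Nat.card (ffKer W (ffTh E Q₁)) := Nat.card_pos
      nlinarith
    have hdvd : Nat.card (ffKer W (ffTh E Q₁)) ∣ Nat.card W := by
      rw [hcardW]; exact dvd_mul_left _ _
    exact ih _ hlt (ffKer W (ffTh E Q₁)) rfl hBQ hBE
      (fun a ha b hb w hw => hcomm a ha b hb w hw.1)
      (Nat.Coprime.coprime_dvd_left hdvd hcQ) (Nat.Coprime.coprime_dvd_left hdvd hcE)
      (fun w hw hfixw => hfix w hw.1 hfixw)


theorem FFSetup.fix_notin (h : FFSetup Q E Q₁ W) {y : G} (hy : y ∈ Q) (hyQ₁ : y ∉ Q₁) {w : M}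
    (hw : w ∈ ffFix Q₁ W) (hyw : y • w = w) : w = 0 := by
  by_contra hw0
  have hle : Subgroup.zpowers y ≤ Q₁ := by
    apply h.maxjoin ((Subgroup.zpowers_le).mpr hy) hw hw0
    intro g hg
    have hst : Subgroup.zpowers y ≤ MulAction.stabilizer G w :=
      (Subgroup.zpowers_le).mpr (MulAction.mem_stabilizer_iff.mpr hyw)
    exact MulAction.mem_stabilizer_iff.mp (hst hg)
  exact hyQ₁ (hle (Subgroup.mem_zpowers _))

theorem ff_exists_setup [Finite G] (Q E : Subgroup G) (W : AddSubgroup M) (hW : W ≠ ⊥)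
    (hQE : ∀ e ∈ E, ∀ a ∈ Q, e * a * e⁻¹ ∈ Q)
    (hfpf : ∀ e ∈ E, e ≠ 1 → ∀ a ∈ Q, e * a = a * e → a = 1)
    (hQW : ∀ a ∈ Q, ∀ w ∈ W, a • w ∈ W) (hEW : ∀ e ∈ E, ∀ w ∈ W, e • w ∈ W)
    (hcomm : ∀ a ∈ Q, ∀ b ∈ Q, ∀ w ∈ W, a • b • w = b • a • w) :
    ∃ Q₁ : Subgroup G, FFSetup Q E Q₁ W ∧ ffFix Q₁ W ≠ ⊥ := by
  obtain ⟨Q₁, ⟨hQ₁Q, hQ₁ne⟩, hQ₁max⟩ := Set.exists_max_image
    {Q' : Subgroup G | Q' ≤ Q ∧ ffFix Q' W ≠ ⊥} (fun Q' => Nat.card Q') (Set.toFinite _)
    ⟨⊥, bot_le, by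
      intro hbot
      apply hW
      rw [eq_bot_iff]
      intro w hw
      have : w ∈ ffFix (⊥ : Subgroup G) W :=
        ⟨hw, fun s hs => by rw [Subgroup.mem_bot.mp hs, one_smul]⟩
      rw [hbot] at this
      exact this⟩
  exact ⟨Q₁, { hQE := hQE, hfpf := hfpf, hQW := hQW, hEW := hEW, hcomm := hcomm, hQ₁ := hQ₁Q
               hmax := by
                intro Q' h1 h2 h3
                exact (Subgroup.eq_of_le_of_card_ge h1 (hQ₁max Q' ⟨h2, h3⟩)).symm }, hQ₁ne⟩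

/-! ### Nilpotent kernels -/

theorem ff_lcs_normalizer (U : Subgroup G) {g : G} (hg : g ∈ Subgroup.normalizer (U : Set G))
    (n : ℕ) : g ∈ Subgroup.normalizer (U.lowerCentralSeries n : Set G) := by
  rw [mem_normalizer_iff_conj_smul_eq] at hg ⊢
  have h1 : MulAut.conj g • U.lowerCentralSeries n =
      (MulAut.conj g • U).lowerCentralSeries n :=
    Subgroup.map_lowerCentralSeries U (MulDistribMulAction.toMonoidEnd (MulAut G) G (MulAut.conj g)) n
  rw [h1, hg]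

theorem ff_eig_tr_fixed [Fintype G] [Finite M] (Q : Subgroup G) (W : AddSubgroup M)
    (hQW : ∀ a ∈ Q, ∀ w ∈ W, a • w ∈ W) (hm : (Nat.card W).Coprime (Nat.card Q)) {w : M}
    (hw : w ∈ ffEig W (ffTr Q) (Nat.card Q)) : ∀ b ∈ Q, b • w = w := by
  intro b hb
  have h0 : Nat.card Q • (b • w) = b • (Nat.card Q • w) := (smul_comm b (Nat.card Q) w).symm
  have h1 : Nat.card Q • (b • w - w) = 0 := by
    rw [smul_sub, h0, ← hw.2, ffTr_smul_left Q hb, sub_self]
  exact sub_eq_zero.mp (ff_eq_zero_of_nsmul W _ hm (W.sub_mem (hQW b hb w hw.1) hw.1) h1)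

theorem ffFix_sup (U E : Subgroup G) (W : AddSubgroup M) :
    ffFix E (ffFix U W) = ffFix (U ⊔ E) W := by
  ext w
  constructor
  · intro hw
    refine ⟨hw.1.1, ?_⟩
    have hle : U ⊔ E ≤ MulAction.stabilizer G w := by
      apply sup_le
      · intro g hg; exact MulAction.mem_stabilizer_iff.mpr (hw.1.2 g hg)
      · intro g hg; exact MulAction.mem_stabilizer_iff.mpr (hw.2 g hg)
    intro s hs
    exact MulAction.mem_stabilizer_iff.mp (hle hs)
  · intro hw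
    exact ⟨⟨hw.1, fun s hs => hw.2 s (le_sup_left (a := U) (b := E) hs)⟩,
      fun s hs => hw.2 s (le_sup_right (a := U) (b := E) hs)⟩

/-- **Nilpotent kernel.** `E` acts fixed-point-freely on the nilpotent group `U`, and `U` has no
nonzero fixed points on `W`: then `|W| = |C_W(E)| ^ |E|`. -/
theorem ff_claimA [Finite G] [Finite M] (U E : Subgroup G)
    (hUE : ∀ e ∈ E, ∀ a ∈ U, e * a * e⁻¹ ∈ U)
    (hfpf : ∀ e ∈ E, e ≠ 1 → ∀ a ∈ U, e * a = a * e → a = 1)
    (hnil : Group.IsNilpotent U) :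
    ∀ (n : ℕ) (W : AddSubgroup M), Nat.card W = n →
      (∀ a ∈ U, ∀ w ∈ W, a • w ∈ W) → (∀ e ∈ E, ∀ w ∈ W, e • w ∈ W) →
      (Nat.card W).Coprime (Nat.card U) → (Nat.card W).Coprime (Nat.card E) →
      (∀ w ∈ W, (∀ a ∈ U, a • w = w) → w = 0) →
      Nat.card W = Nat.card (ffFix E W) ^ Nat.card E := by
  have := Fintype.ofFinite G
  have hEN : E ≤ Subgroup.normalizer (U : Set G) := Subgroup.le_normalizer_iff.mpr hUE
  obtain ⟨N, hN⟩ := (Subgroup.isNilpotent_iff_lowerCentralSeries U).mp hnil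
  intro n
  induction n using Nat.strong_induction_on with
  | _ n ih =>
  intro W hn hUW hEW hcU hcE hfix
  by_cases hW : W = ⊥
  · subst hW
    have : ffFix E (⊥ : AddSubgroup M) = ⊥ := le_bot_iff.mp (ffFix_le E ⊥)
    rw [this]
    simp
  -- the last term of the lower central series acting nontrivially
  have hpN : ∀ a ∈ U.lowerCentralSeries N, ∀ w ∈ W, a • w = w := by
    intro a ha w _
    rw [hN] at ha
    rw [Subgroup.mem_bot.mp ha, one_smul]
  have hp0 : ¬ ∀ a ∈ U.lowerCentralSeries 0, ∀ w ∈ W, a • w = w := by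
    intro hc
    apply hW
    rw [eq_bot_iff]
    intro w hw
    exact hfix w hw (fun a ha => hc a ha w hw)
  have hex : ∃ i, (¬ ∀ a ∈ U.lowerCentralSeries i, ∀ w ∈ W, a • w = w) ∧
      ∀ a ∈ U.lowerCentralSeries (i + 1), ∀ w ∈ W, a • w = w := by
    by_contra hcon
    have hall : ∀ i, ¬ ∀ a ∈ U.lowerCentralSeries i, ∀ w ∈ W, a • w = w := by
      intro i
      induction i with
      | zero => exact hp0
      | succ i ihi => exact fun hc => hcon ⟨i, ihi, hc⟩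
    exact hall N hpN
  obtain ⟨i, hpi, hpi1⟩ := hex
  have hQU : U.lowerCentralSeries i ≤ U := Subgroup.lowerCentralSeries_antitone U (Nat.zero_le i)
  have hQW : ∀ a ∈ U.lowerCentralSeries i, ∀ w ∈ W, a • w ∈ W := fun a ha => hUW a (hQU ha)
  have hcQ : (Nat.card W).Coprime (Nat.card (U.lowerCentralSeries i)) :=
    Nat.Coprime.coprime_dvd_right (Subgroup.card_dvd_of_le hQU) hcU
  have hcomm : ∀ a ∈ U.lowerCentralSeries i, ∀ b ∈ U.lowerCentralSeries i, ∀ w ∈ W,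
      a • b • w = b • a • w := by
    intro a ha b hb w hw
    have h1 : ⁅a, b⁆ ∈ U.lowerCentralSeries (i + 1) :=
      Subgroup.commutator_mem_commutator ha (hQU hb)
    have h2 := hpi1 _ h1 (b • a • w) (hUW b (hQU hb) _ (hUW a (hQU ha) w hw))
    calc a • b • w = ⁅a, b⁆ • b • a • w := by
          rw [← mul_smul, ← mul_smul, ← mul_smul, commutatorElement_def]; congr 1; group
      _ = b • a • w := h2
  have hΘW : ∀ w ∈ W, ffTr (U.lowerCentralSeries i) w ∈ W := fun w hw => ffTr_mem _ W hQW hw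
  have hΘ : ∀ w ∈ W, ffTr (U.lowerCentralSeries i) (ffTr (U.lowerCentralSeries i) w) =
      Nat.card (U.lowerCentralSeries i) • ffTr (U.lowerCentralSeries i) w :=
    fun w _ => ffTr_of_fixed _ (fun a ha => ffTr_smul_left _ ha w)
  have hdisj := ff_eig_ker_disj W (ffTr (U.lowerCentralSeries i))
    (Nat.card (U.lowerCentralSeries i)) hcQ
  have hsum := ff_eig_ker_sum W (ffTr (U.lowerCentralSeries i))
    (Nat.card (U.lowerCentralSeries i)) hcQ hΘW hΘ
  have hTE : ∀ s ∈ E, ∀ w ∈ W, ffTr (U.lowerCentralSeries i) (s • w) =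
      s • ffTr (U.lowerCentralSeries i) w :=
    fun s hs w _ => ffTr_conj _ (ff_lcs_normalizer U (hEN hs) i) w
  have hTU : ∀ s ∈ U, ∀ w ∈ W, ffTr (U.lowerCentralSeries i) (s • w) =
      s • ffTr (U.lowerCentralSeries i) w :=
    fun s hs w _ => ffTr_conj _ (ff_lcs_normalizer U (Subgroup.le_normalizer hs) i) w
  have hAE := ff_eig_inv E W _ (Nat.card (U.lowerCentralSeries i)) hEW hTE
  have hBE := ff_ker_inv E W _ hEW hTE
  have hAU := ff_eig_inv U W _ (Nat.card (U.lowerCentralSeries i)) hUW hTU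
  have hBU := ff_ker_inv U W _ hUW hTU
  have hcardW := ff_card_decomp _ _ W (ffEig_le _ _ _) (ffKer_le _ _) hdisj hsum
  apply ff_step E _ _ W (Nat.card E) (ffEig_le _ _ _) (ffKer_le _ _) hdisj hsum hAE hBE
  · -- the fixed points of `Q`: induction
    have hB : 1 < Nat.card (ffKer W (ffTr (U.lowerCentralSeries i))) := by
      rw [AddSubgroup.one_lt_card_iff_ne_bot]
      intro hbot
      apply hpi
      intro a ha w hw
      obtain ⟨x, hx, y, hy, rfl⟩ := hsum w hw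
      rw [hbot] at hy
      rw [AddSubgroup.mem_bot.mp hy, add_zero]
      exact ff_eig_tr_fixed _ W hQW hcQ hx a ha
    have hlt : Nat.card (ffEig W (ffTr (U.lowerCentralSeries i))
        (Nat.card (U.lowerCentralSeries i))) < n := by
      rw [← hn, hcardW]
      have hpos : 0 < Nat.card (ffEig W (ffTr (U.lowerCentralSeries i))
        (Nat.card (U.lowerCentralSeries i))) := Nat.card_pos
      nlinarith
    have hdvd : Nat.card (ffEig W (ffTr (U.lowerCentralSeries i))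
        (Nat.card (U.lowerCentralSeries i))) ∣ Nat.card W := by
      rw [hcardW]; exact dvd_mul_right _ _
    exact ih _ hlt _ rfl hAU hAE (Nat.Coprime.coprime_dvd_left hdvd hcU)
      (Nat.Coprime.coprime_dvd_left hdvd hcE) (fun w hw hfixw => hfix w hw.1 hfixw)
  · -- the kernel of the trace: main step
    have hdvd : Nat.card (ffKer W (ffTr (U.lowerCentralSeries i))) ∣ Nat.card W := by
      rw [hcardW]; exact dvd_mul_left _ _
    refine ff_mmt (U.lowerCentralSeries i) E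
      (fun e he a ha => (Subgroup.mem_normalizer_iff.mp (ff_lcs_normalizer U (hEN he) i) a).mp ha)
      (fun e he he1 a ha => hfpf e he he1 a (hQU ha)) _ _ rfl
      (fun a ha w hw => hBU a (hQU ha) w hw) hBE
      (fun a ha b hb w hw => hcomm a ha b hb w hw.1)
      (Nat.Coprime.coprime_dvd_left hdvd hcQ) (Nat.Coprime.coprime_dvd_left hdvd hcE) ?_
    intro w hw hfixw
    have h1 : ffTr (U.lowerCentralSeries i) w = Nat.card (U.lowerCentralSeries i) • w :=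
      ffTr_of_fixed _ hfixw
    rw [hw.2] at h1
    exact ff_eq_zero_of_nsmul W _ hcQ hw.1 h1.symm

/-- **Fixed point formula, abelian case.** -/
theorem ff_aat [Finite G] [Finite M] (U E : Subgroup G)
    (hUE : ∀ e ∈ E, ∀ a ∈ U, e * a * e⁻¹ ∈ U)
    (hfpf : ∀ e ∈ E, e ≠ 1 → ∀ a ∈ U, e * a = a * e → a = 1)
    (hnil : Group.IsNilpotent U)
    (hcU : (Nat.card M).Coprime (Nat.card U)) (hcE : (Nat.card M).Coprime (Nat.card E)) :
    Nat.card (ffFix (U ⊔ E) (⊤ : AddSubgroup M)) ^ Nat.card E * Nat.card M =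
      Nat.card (ffFix E (⊤ : AddSubgroup M)) ^ Nat.card E *
        Nat.card (ffFix U (⊤ : AddSubgroup M)) := by
  have := Fintype.ofFinite G
  have hEN : E ≤ Subgroup.normalizer (U : Set G) := Subgroup.le_normalizer_iff.mpr hUE
  have hcardtop : Nat.card (⊤ : AddSubgroup M) = Nat.card M := AddSubgroup.card_top
  have hcU' : (Nat.card (⊤ : AddSubgroup M)).Coprime (Nat.card U) := by rw [hcardtop]; exact hcU
  have hcE' : (Nat.card (⊤ : AddSubgroup M)).Coprime (Nat.card E) := by rw [hcardtop]; exact hcE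
  have hUW : ∀ a ∈ U, ∀ w ∈ (⊤ : AddSubgroup M), a • w ∈ (⊤ : AddSubgroup M) :=
    fun _ _ _ _ => AddSubgroup.mem_top _
  have hEW : ∀ a ∈ E, ∀ w ∈ (⊤ : AddSubgroup M), a • w ∈ (⊤ : AddSubgroup M) :=
    fun _ _ _ _ => AddSubgroup.mem_top _
  have hΘW : ∀ w ∈ (⊤ : AddSubgroup M), ffTr U w ∈ (⊤ : AddSubgroup M) :=
    fun _ _ => AddSubgroup.mem_top _
  have hΘ : ∀ w ∈ (⊤ : AddSubgroup M), ffTr U (ffTr U w) = Nat.card U • ffTr U w :=
    fun w _ => ffTr_of_fixed _ (fun a ha => ffTr_smul_left _ ha w)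
  have hdisj := ff_eig_ker_disj (⊤ : AddSubgroup M) (ffTr U) (Nat.card U) hcU'
  have hsum := ff_eig_ker_sum (⊤ : AddSubgroup M) (ffTr U) (Nat.card U) hcU' hΘW hΘ
  have hTE : ∀ s ∈ E, ∀ w ∈ (⊤ : AddSubgroup M), ffTr U (s • w) = s • ffTr U w :=
    fun s hs w _ => ffTr_conj _ (hEN hs) w
  have hTU : ∀ s ∈ U, ∀ w ∈ (⊤ : AddSubgroup M), ffTr U (s • w) = s • ffTr U w :=
    fun s hs w _ => ffTr_conj _ (Subgroup.le_normalizer hs) w
  have hAE := ff_eig_inv E _ _ (Nat.card U) hEW hTE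
  have hBE := ff_ker_inv E _ _ hEW hTE
  have hBU := ff_ker_inv U _ _ hUW hTU
  have hcardW := ff_card_decomp _ _ (⊤ : AddSubgroup M) (ffEig_le _ _ _) (ffKer_le _ _) hdisj hsum
  have hfixW := ff_fix_card_decomp E _ _ (⊤ : AddSubgroup M) (ffEig_le _ _ _) (ffKer_le _ _)
    hdisj hsum hAE hBE
  have hA : ffEig (⊤ : AddSubgroup M) (ffTr U) (Nat.card U) = ffFix U (⊤ : AddSubgroup M) := by
    ext w
    constructor
    · intro hw
      exact ⟨hw.1, ff_eig_tr_fixed U _ hUW hcU' hw⟩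
    · intro hw
      exact ⟨hw.1, ffTr_of_fixed U hw.2⟩
  have hdvd : Nat.card (ffKer (⊤ : AddSubgroup M) (ffTr U)) ∣ Nat.card (⊤ : AddSubgroup M) := by
    rw [hcardW]; exact dvd_mul_left _ _
  have hB : Nat.card (ffKer (⊤ : AddSubgroup M) (ffTr U)) =
      Nat.card (ffFix E (ffKer (⊤ : AddSubgroup M) (ffTr U))) ^ Nat.card E := by
    refine ff_claimA U E hUE hfpf hnil _ _ rfl hBU hBE
      (Nat.Coprime.coprime_dvd_left hdvd hcU') (Nat.Coprime.coprime_dvd_left hdvd hcE') ?_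
    intro w hw hfixw
    have h1 : ffTr U w = Nat.card U • w := ffTr_of_fixed _ hfixw
    rw [hw.2] at h1
    exact ff_eq_zero_of_nsmul _ _ hcU' hw.1 h1.symm
  rw [hA] at hcardW hfixW
  rw [ffFix_sup] at hfixW
  rw [← hcardtop, hcardW, hfixW, hB, mul_pow]
  ring

end Core

end Cfsg.Agent.Lib.helper12
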