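import Mathlib
import Cfsg.Agent.Lib.helper12.FrobFixA
import Cfsg.Agent.Lib.helper12.FrobTools
import Cfsg.Agent.Lib.helper1.Coprime

/-!
The Frobenius–Wielandt fixed point formula for a Frobenius group `UE` of operators on a solvable
group `H` of coprime order (helper12):
`|C_H(UE)| ^ |E| * |H| = |C_H(E)| ^ |E| * |C_H(U)|`.

The abelian case is `ff_aat` (file `FrobFixA`); here the reduction to abelian sections
(the abelianization of a normal subgroup, acted on by conjugation), via fixed points in
invariant cosets for coprime actions.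
-/

set_option autoImplicit false

namespace Cfsg.Agent.Lib.helper12

open scoped Pointwise commutatorElement

section Sections

variable {Y : Type*} [Group Y]

/-- The conjugation action of `Y` on the abelianization of a normal subgroup, written
additively. -/
@[reducible] noncomputable def ffAbAct (K : Subgroup Y) [K.Normal] :
    DistribMulAction Y (Additive (Abelianization K)) where
  smul g v := Additive.ofMul
    (Abelianization.map (MulAut.conjNormal g : K ≃* K).toMonoidHom (Additive.toMul v))
  one_smul v := by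
    show Additive.ofMul (Abelianization.map
      (MulAut.conjNormal (1 : Y) : K ≃* K).toMonoidHom (Additive.toMul v)) = v
    have h1 : (MulAut.conjNormal (1 : Y) : K ≃* K).toMonoidHom = MonoidHom.id K := by
      ext k
      simp
    rw [h1, Abelianization.map_id]
    rfl
  mul_smul g h v := by
    show Additive.ofMul (Abelianization.map
      (MulAut.conjNormal (g * h) : K ≃* K).toMonoidHom (Additive.toMul v)) =
      Additive.ofMul (Abelianization.map (MulAut.conjNormal g : K ≃* K).toMonoidHom
        (Abelianization.map (MulAut.conjNormal h : K ≃* K).toMonoidHom (Additive.toMul v)))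
    rw [Abelianization.map_map_apply]
    have h1 : (MulAut.conjNormal (g * h) : K ≃* K).toMonoidHom =
        (MulAut.conjNormal g : K ≃* K).toMonoidHom.comp
          (MulAut.conjNormal h : K ≃* K).toMonoidHom := by
      ext k
      simp [mul_assoc]
    rw [h1]
  smul_zero g := by
    show Additive.ofMul (Abelianization.map
      (MulAut.conjNormal g : K ≃* K).toMonoidHom (Additive.toMul 0)) = 0
    simp
  smul_add g v w := by
    show Additive.ofMul (Abelianization.map
      (MulAut.conjNormal g : K ≃* K).toMonoidHom (Additive.toMul (v + w))) =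
      Additive.ofMul (Abelianization.map
        (MulAut.conjNormal g : K ≃* K).toMonoidHom (Additive.toMul v)) +
      Additive.ofMul (Abelianization.map
        (MulAut.conjNormal g : K ≃* K).toMonoidHom (Additive.toMul w))
    simp

attribute [local instance] ffAbAct

theorem ffAb_smul_of (K : Subgroup Y) [K.Normal] (g : Y) (k : K) :
    g • (Additive.ofMul (Abelianization.of k) : Additive (Abelianization K)) =
      Additive.ofMul (Abelianization.of (MulAut.conjNormal g k)) := by
  show Additive.ofMul (Abelianization.map (MulAut.conjNormal g : K ≃* K).toMonoidHom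
    (Abelianization.of k)) = _
  rw [Abelianization.map_of]
  rfl

theorem ff_mem_commutator (K : Subgroup Y) (k : K) :
    k ∈ commutator K ↔ (k : Y) ∈ ⁅K, K⁆ := by
  rw [← Subgroup.map_subtype_commutator]
  exact (Subgroup.mem_map_iff_mem K.subtype_injective (K := commutator K) (x := k)).symm

theorem ff_of_eq_of (K : Subgroup Y) (k k' : K) :
    Abelianization.of k = Abelianization.of k' ↔ (k : Y) * (k' : Y)⁻¹ ∈ ⁅K, K⁆ := by
  have h1 : Abelianization.of k = Abelianization.of k' ↔ k * k'⁻¹ ∈ commutator K := by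
    rw [← Abelianization.ker_of, MonoidHom.mem_ker, map_mul, map_inv, mul_inv_eq_one]
  rw [h1, ff_mem_commutator]
  rfl

/-- Coprime action: a fixed point on the abelianization lifts to a fixed point. -/
theorem ff_ab_fix_lift [Finite Y] (K : Subgroup Y) [K.Normal] (B : Subgroup Y)
    (hcop : (Nat.card B).Coprime (Nat.card (⁅K, K⁆ : Subgroup Y)))
    (hsolv : Group.IsSolvable (⁅K, K⁆ : Subgroup Y)) (k : K)
    (hv : (Additive.ofMul (Abelianization.of k) : Additive (Abelianization K)) ∈
      ffFix B (⊤ : AddSubgroup (Additive (Abelianization K)))) :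
    ∃ c : Y, ∃ hcK : c ∈ K, c ∈ Subgroup.centralizer (B : Set Y) ∧
      Abelianization.of (⟨c, hcK⟩ : K) = Abelianization.of k := by
  have hNK : ⁅K, K⁆ ≤ K := Subgroup.commutator_le_left K K
  have hNn : (⁅K, K⁆ : Subgroup Y).Normal := inferInstance
  have hg : ∀ b ∈ B, b * (k : Y) * b⁻¹ * (k : Y)⁻¹ ∈ (⁅K, K⁆ : Subgroup Y) := by
    intro b hb
    have h1 := hv.2 b hb
    rw [ffAb_smul_of] at h1
    have h2 : Abelianization.of (MulAut.conjNormal b k) = Abelianization.of k :=
      Additive.ofMul.injective h1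
    rw [ff_of_eq_of, MulAut.conjNormal_apply] at h2
    exact h2
  obtain ⟨c, hc, hck⟩ := Cfsg.Agent.Lib.helper1.coset_fixed B ⁅K, K⁆
    (by rw [Subgroup.normalizer_eq_top]; exact le_top) hcop (Or.inr hsolv) (k : Y) hg
  have hcK : c ∈ K := by
    have : c = c * (k : Y)⁻¹ * k := by group
    rw [this]
    exact K.mul_mem (hNK hck) k.2
  refine ⟨c, hcK, hc, ?_⟩
  rw [ff_of_eq_of]
  exact hck

/-- Coprime action: the fixed points on the abelianization are the images of the fixed points. -/
theorem ff_ab_fix_card [Finite Y] (K : Subgroup Y) [K.Normal] (B : Subgroup Y)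
    (hcop : (Nat.card B).Coprime (Nat.card (⁅K, K⁆ : Subgroup Y)))
    (hsolv : Group.IsSolvable (⁅K, K⁆ : Subgroup Y)) :
    Nat.card (ffFix B (⊤ : AddSubgroup (Additive (Abelianization K)))) *
      Nat.card (⁅K, K⁆ ⊓ Subgroup.centralizer (B : Set Y) : Subgroup Y) =
      Nat.card (K ⊓ Subgroup.centralizer (B : Set Y) : Subgroup Y) := by
  have hNK : ⁅K, K⁆ ≤ K := Subgroup.commutator_le_left K K
  have hNn : (⁅K, K⁆ : Subgroup Y).Normal := inferInstance
  let f : (K ⊓ Subgroup.centralizer (B : Set Y) : Subgroup Y) →* Abelianization K :=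
    Abelianization.of.comp (Subgroup.inclusion inf_le_left)
  have hf : ∀ c : (K ⊓ Subgroup.centralizer (B : Set Y) : Subgroup Y),
      f c = Abelianization.of (⟨c.1, c.2.1⟩ : K) := fun c => rfl
  have hrange : ∀ v : Abelianization K,
      v ∈ f.range ↔ Additive.ofMul v ∈ ffFix B (⊤ : AddSubgroup (Additive (Abelianization K))) := by
    intro v
    constructor
    · rintro ⟨c, rfl⟩
      refine ⟨AddSubgroup.mem_top _, fun b hb => ?_⟩
      rw [hf, ffAb_smul_of]
      congr 2
      apply Subtype.ext
      rw [MulAut.conjNormal_apply]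
      have h1 : b * (c : Y) = (c : Y) * b := Subgroup.mem_centralizer_iff.mp c.2.2 b hb
      show b * (c : Y) * b⁻¹ = (c : Y)
      rw [h1, mul_inv_cancel_right]
    · intro hv
      obtain ⟨k, rfl⟩ : ∃ k : K, Abelianization.of k = v := QuotientGroup.mk_surjective v
      obtain ⟨c, hcK, hc, hck⟩ := ff_ab_fix_lift K B hcop hsolv k hv
      exact ⟨⟨c, hcK, hc⟩, by rw [hf]; exact hck⟩
  have hker : Nat.card f.ker =
      Nat.card (⁅K, K⁆ ⊓ Subgroup.centralizer (B : Set Y) : Subgroup Y) := by
    apply Nat.card_congr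
    refine ⟨fun c => ⟨(c.1 : Y), ?_, c.1.2.2⟩, fun x => ⟨⟨x.1, hNK x.2.1, x.2.2⟩, ?_⟩, ?_, ?_⟩
    · have h1 : f c.1 = 1 := c.2
      rw [hf] at h1
      have h2 : Abelianization.of (⟨c.1.1, c.1.2.1⟩ : K) = Abelianization.of (1 : K) := by
        rw [h1, map_one]
      rw [ff_of_eq_of] at h2
      simpa using h2
    · show f ⟨x.1, hNK x.2.1, x.2.2⟩ = 1
      rw [hf]
      have h2 : Abelianization.of (⟨x.1, hNK x.2.1⟩ : K) = Abelianization.of (1 : K) := by
        rw [ff_of_eq_of]
        simpa using x.2.1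
      rw [h2, map_one]
    · intro c; rfl
    · intro x; rfl
  have h1 : Nat.card (ffFix B (⊤ : AddSubgroup (Additive (Abelianization K)))) =
      Nat.card f.range := by
    symm
    exact Nat.card_congr (Equiv.subtypeEquiv Additive.ofMul (fun v => hrange v))
  rw [h1, ← hker, Subgroup.card_eq_card_quotient_mul_card_subgroup f.ker]
  congr 1
  exact (Nat.card_congr (QuotientGroup.quotientKerEquivRange f).toEquiv).symm


/-- The fixed point formula for normal solvable subgroups of the ambient group. -/
theorem ff_formula_normal [Finite Y] (U E : Subgroup Y)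
    (hUE : ∀ e ∈ E, ∀ a ∈ U, e * a * e⁻¹ ∈ U)
    (hfpf : ∀ e ∈ E, e ≠ 1 → ∀ a ∈ U, e * a = a * e → a = 1)
    (hnil : Group.IsNilpotent U) :
    ∀ (n : ℕ) (K : Subgroup Y), K.Normal → Nat.card K = n → Group.IsSolvable K →
      (Nat.card K).Coprime (Nat.card (U ⊔ E : Subgroup Y)) →
      Nat.card (K ⊓ Subgroup.centralizer ((U ⊔ E : Subgroup Y) : Set Y) : Subgroup Y) ^ Nat.card E *
          Nat.card K =
        Nat.card (K ⊓ Subgroup.centralizer (E : Set Y) : Subgroup Y) ^ Nat.card E *
          Nat.card (K ⊓ Subgroup.centralizer (U : Set Y) : Subgroup Y) := by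
  intro n
  induction n using Nat.strong_induction_on with
  | _ n ih =>
  intro K hKn hn hsolv hcop
  by_cases hK : K = ⊥
  · subst hK
    simp
  have hNK : ⁅K, K⁆ ≤ K := Subgroup.commutator_le_left K K
  have hNn : (⁅K, K⁆ : Subgroup Y).Normal := inferInstance
  have hNsolv : Group.IsSolvable (⁅K, K⁆ : Subgroup Y) :=
    Group.isSolvable_of_isSolvable_injective (Subgroup.inclusion_injective hNK)
  have hNne : (⁅K, K⁆ : Subgroup Y) ≠ K := by
    intro heq
    haveI : Nontrivial K := by
      rw [Subgroup.nontrivial_iff_ne_bot]  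
      exact hK
    have hlt := Group.IsSolvable.commutator_lt_top_of_nontrivial K
    apply hlt.ne
    rw [eq_top_iff]
    intro k _
    rw [ff_mem_commutator, heq]
    exact k.2
  have hNlt : Nat.card (⁅K, K⁆ : Subgroup Y) < n := by
    rw [← hn]
    exact card_lt_of_lt (lt_of_le_of_ne hNK hNne)
  have hNdvd : Nat.card (⁅K, K⁆ : Subgroup Y) ∣ Nat.card K := Subgroup.card_dvd_of_le hNK
  have hIH := ih _ hNlt ⁅K, K⁆ hNn rfl hNsolv (Nat.Coprime.coprime_dvd_left hNdvd hcop)
  -- the abelian section
  have hMK : Nat.card (Additive (Abelianization K)) * Nat.card (⁅K, K⁆ : Subgroup Y) =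
      Nat.card K := by
    have h1 := Subgroup.card_eq_card_quotient_mul_card_subgroup (commutator K)
    have h2 : Nat.card (commutator K) = Nat.card (⁅K, K⁆ : Subgroup Y) := by
      rw [← Subgroup.map_subtype_commutator]
      exact (Nat.card_congr ((commutator K).equivMapOfInjective K.subtype
        K.subtype_injective).toEquiv)
    rw [h1, h2]
    rfl
  have hMdvd : Nat.card (Additive (Abelianization K)) ∣ Nat.card K := by
    rw [← hMK]; exact dvd_mul_right _ _
  have hcM := Nat.Coprime.coprime_dvd_left hMdvd hcop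
  have hcN := Nat.Coprime.coprime_dvd_left hNdvd hcop
  have hUdvd : Nat.card U ∣ Nat.card (U ⊔ E : Subgroup Y) := Subgroup.card_dvd_of_le le_sup_left
  have hEdvd : Nat.card E ∣ Nat.card (U ⊔ E : Subgroup Y) := Subgroup.card_dvd_of_le le_sup_right
  have haat := ff_aat (M := Additive (Abelianization K)) U E hUE hfpf hnil
    (Nat.Coprime.coprime_dvd_right hUdvd hcM) (Nat.Coprime.coprime_dvd_right hEdvd hcM)
  have cA := ff_ab_fix_card K (U ⊔ E) hcN.symm hNsolv
  have cE := ff_ab_fix_card K E (Nat.Coprime.coprime_dvd_right hEdvd hcN).symm hNsolv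
  have cU := ff_ab_fix_card K U (Nat.Coprime.coprime_dvd_right hUdvd hcN).symm hNsolv
  rw [← cA, ← cE, ← cU, ← hMK, mul_pow, mul_pow]
  calc Nat.card (ffFix (U ⊔ E) (⊤ : AddSubgroup (Additive (Abelianization K)))) ^ Nat.card E *
        Nat.card (⁅K, K⁆ ⊓ Subgroup.centralizer ((U ⊔ E : Subgroup Y) : Set Y) : Subgroup Y) ^
          Nat.card E *
        (Nat.card (Additive (Abelianization K)) * Nat.card (⁅K, K⁆ : Subgroup Y))
      = (Nat.card (ffFix (U ⊔ E) (⊤ : AddSubgroup (Additive (Abelianization K)))) ^ Nat.card E *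
          Nat.card (Additive (Abelianization K))) *
        (Nat.card (⁅K, K⁆ ⊓ Subgroup.centralizer ((U ⊔ E : Subgroup Y) : Set Y) : Subgroup Y) ^
          Nat.card E * Nat.card (⁅K, K⁆ : Subgroup Y)) := by ring
    _ = (Nat.card (ffFix E (⊤ : AddSubgroup (Additive (Abelianization K)))) ^ Nat.card E *
          Nat.card (ffFix U (⊤ : AddSubgroup (Additive (Abelianization K))))) *
        (Nat.card (⁅K, K⁆ ⊓ Subgroup.centralizer (E : Set Y) : Subgroup Y) ^ Nat.card E *
          Nat.card (⁅K, K⁆ ⊓ Subgroup.centralizer (U : Set Y) : Subgroup Y)) := by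
        rw [haat, hIH]
    _ = _ := by ring

end Sections

section Transfer

variable {X : Type*} [Group X]

theorem ff_inf_centralizer_subgroupOf (T H B : Subgroup X) (hB : B ≤ T) :
    H.subgroupOf T ⊓ Subgroup.centralizer ((B.subgroupOf T : Subgroup T) : Set T) =
      (H ⊓ Subgroup.centralizer (B : Set X)).subgroupOf T := by
  ext y
  simp only [Subgroup.mem_inf, Subgroup.mem_subgroupOf, Subgroup.mem_centralizer_iff,
    SetLike.mem_coe]
  constructor
  · rintro ⟨hy, hc⟩
    refine ⟨hy, fun b hb => ?_⟩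
    have := hc ⟨b, hB hb⟩ hb
    exact congrArg Subtype.val this
  · rintro ⟨hy, hc⟩
    refine ⟨hy, fun b hb => ?_⟩
    exact Subtype.ext (hc b.1 hb)

theorem ff_card_transfer (T H B : Subgroup X) (hH : H ≤ T) (hB : B ≤ T) :
    Nat.card (H.subgroupOf T ⊓ Subgroup.centralizer ((B.subgroupOf T : Subgroup T) : Set T) :
      Subgroup T) = Nat.card (H ⊓ Subgroup.centralizer (B : Set X) : Subgroup X) := by
  rw [ff_inf_centralizer_subgroupOf T H B hB]
  exact Nat.card_congr (Subgroup.subgroupOfEquivOfLe (inf_le_left.trans hH)).toEquiv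

/-- Thompson: a group admitting a nontrivial group of fixed-point-free operators (by conjugation)
is nilpotent. -/
theorem ff_nilpotent_kernel [Finite X] (U E : Subgroup X) (hE1 : E ≠ ⊥)
    (hUn : ∀ e ∈ E, ∀ u ∈ U, e * u * e⁻¹ ∈ U)
    (hfpf : ∀ e ∈ E, e ≠ 1 → ∀ u ∈ U, e * u = u * e → u = 1) : Group.IsNilpotent U := by
  have hEN : E ≤ Subgroup.normalizer (U : Set X) := Subgroup.le_normalizer_iff.mpr hUn
  have hcard : Nat.card E ≠ 1 := by
    intro h
    exact hE1 ((Subgroup.card_eq_one).mp h)
  obtain ⟨p, hp, hpd⟩ := Nat.exists_prime_and_dvd hcard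
  haveI : Fact p.Prime := ⟨hp⟩
  obtain ⟨x, hx⟩ := exists_prime_orderOf_dvd_card' (G := E) p hpd
  have hx1 : (x : X) ≠ 1 := by
    intro h
    have : x = 1 := Subtype.ext h
    rw [this, orderOf_one] at hx
    exact hp.one_lt.ne hx
  have hxp : (x : X) ^ p = 1 := by
    have := pow_orderOf_eq_one x
    rw [hx] at this
    exact_mod_cast congrArg Subtype.val this
  haveI : (U.subgroupOf (Subgroup.normalizer (U : Set X))).Normal := Subgroup.normal_in_normalizer
  have h1 : Group.IsNilpotent (U.subgroupOf (Subgroup.normalizer (U : Set X))) := by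
    apply isNilpotent_of_fpf_conj (U.subgroupOf (Subgroup.normalizer (U : Set X)))
      (⟨(x : X), hEN x.2⟩ : Subgroup.normalizer (U : Set X)) p hp
    · exact Subtype.ext (by simpa using hxp)
    · intro n hn hcomm
      have h2 : (x : X) * (n : X) = (n : X) * (x : X) := congrArg Subtype.val hcomm
      exact Subtype.ext (hfpf x x.2 hx1 n (Subgroup.mem_subgroupOf.mp hn) h2)
  exact Group.nilpotent_of_mulEquiv (Subgroup.subgroupOfEquivOfLe Subgroup.le_normalizer)

/-- **Frobenius–Wielandt fixed point formula.** A Frobenius group `UE` (kernel `U`, complement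
`E`) acting by conjugation on a solvable subgroup `H` of coprime order:
`|C_H(UE)| ^ |E| * |H| = |C_H(E)| ^ |E| * |C_H(U)|`. -/
theorem ff_formula [Finite X] (U E H : Subgroup X) (hE1 : E ≠ ⊥)
    (hUn : ∀ e ∈ E, ∀ u ∈ U, e * u * e⁻¹ ∈ U)
    (hfpf : ∀ e ∈ E, e ≠ 1 → ∀ u ∈ U, e * u = u * e → u = 1)
    (hHn : ∀ x ∈ U ⊔ E, ∀ h ∈ H, x * h * x⁻¹ ∈ H) (hsolv : Group.IsSolvable H)
    (hcop : Nat.Coprime (Nat.card H) (Nat.card ↥(U ⊔ E))) :
    Nat.card ↥(H ⊓ Subgroup.centralizer ((U ⊔ E : Subgroup X) : Set X)) ^ Nat.card E * Nat.card H =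
      Nat.card ↥(H ⊓ Subgroup.centralizer (E : Set X)) ^ Nat.card E *
        Nat.card ↥(H ⊓ Subgroup.centralizer (U : Set X)) := by
  have hnilU : Group.IsNilpotent U := ff_nilpotent_kernel U E hE1 hUn hfpf
  -- pass to the normalizer of `H`
  have hAT : U ⊔ E ≤ Subgroup.normalizer (H : Set X) := Subgroup.le_normalizer_iff.mpr hHn
  have hUT : U ≤ Subgroup.normalizer (H : Set X) := le_sup_left.trans hAT
  have hET : E ≤ Subgroup.normalizer (H : Set X) := le_sup_right.trans hAT
  have hHT : H ≤ Subgroup.normalizer (H : Set X) := Subgroup.le_normalizer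
  haveI : (H.subgroupOf (Subgroup.normalizer (H : Set X))).Normal := Subgroup.normal_in_normalizer
  have hnil' : Group.IsNilpotent (U.subgroupOf (Subgroup.normalizer (H : Set X))) :=
    Group.nilpotent_of_mulEquiv (Subgroup.subgroupOfEquivOfLe hUT).symm
  have hsolv' : Group.IsSolvable (H.subgroupOf (Subgroup.normalizer (H : Set X))) :=
    Group.isSolvable_of_isSolvable_injective
      (f := (Subgroup.subgroupOfEquivOfLe hHT).toMonoidHom) (Subgroup.subgroupOfEquivOfLe hHT).injective
  have hcardE : Nat.card (E.subgroupOf (Subgroup.normalizer (H : Set X))) = Nat.card E :=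
    Nat.card_congr (Subgroup.subgroupOfEquivOfLe hET).toEquiv
  have hcardH : Nat.card (H.subgroupOf (Subgroup.normalizer (H : Set X))) = Nat.card H :=
    Nat.card_congr (Subgroup.subgroupOfEquivOfLe hHT).toEquiv
  have hsup : U.subgroupOf (Subgroup.normalizer (H : Set X)) ⊔
      E.subgroupOf (Subgroup.normalizer (H : Set X)) =
      (U ⊔ E).subgroupOf (Subgroup.normalizer (H : Set X)) :=
    (Subgroup.subgroupOf_sup hUT hET).symm
  have hcardA : Nat.card ((U ⊔ E).subgroupOf (Subgroup.normalizer (H : Set X))) =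
      Nat.card (U ⊔ E : Subgroup X) :=
    Nat.card_congr (Subgroup.subgroupOfEquivOfLe hAT).toEquiv
  have key := ff_formula_normal (U.subgroupOf (Subgroup.normalizer (H : Set X)))
    (E.subgroupOf (Subgroup.normalizer (H : Set X)))
    (fun e he a ha => by
      rw [Subgroup.mem_subgroupOf] at he ha ⊢
      exact hUn _ he _ ha)
    (fun e he he1 a ha hcomm => by
      rw [Subgroup.mem_subgroupOf] at he ha
      have h1 : (e : X) ≠ 1 := fun h => he1 (Subtype.ext h)
      exact Subtype.ext (hfpf _ he h1 _ ha (congrArg Subtype.val hcomm)))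
    hnil' _ (H.subgroupOf (Subgroup.normalizer (H : Set X))) inferInstance rfl hsolv'
    (by rw [hsup, hcardA, hcardH]; exact hcop)
  rw [hsup, ff_card_transfer _ H (U ⊔ E) hHT hAT, ff_card_transfer _ H E hHT hET,
    ff_card_transfer _ H U hHT hUT, hcardE, hcardH] at key
  exact key

end Transfer

end Cfsg.Agent.Lib.helper12
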