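import Mathlib
import Cfsg.Agent.Lib.helper12.FrobFixA

/-!
Frobenius groups of operators with cyclic fixed points of the complement (helper12):
if `KR` is a Frobenius group (kernel `K` nilpotent, complement `R` of prime order) acting on a
finite abelian group `M` of coprime order with `C_M(K) = 0` and `C_M(R)` cyclic, then `[K, K]`
acts trivially on `M`.
-/

set_option autoImplicit false

namespace Cfsg.Agent.Lib.helper12

open scoped BigOperators Pointwise commutatorElement

section CycComm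

variable {G M : Type*} [Group G] [AddCommGroup M] [DistribMulAction G M]

open scoped IsMulCommutative in
/-- If `W` is generated from one element by a commutative ring of operators commuting with the
action of `K`, then `K` acts on `W` by commuting operators. -/
theorem ff_cyc_comm (K : Subgroup G) (W : AddSubgroup M) (T : AddMonoid.End M)
    (hKW : ∀ k ∈ K, ∀ w ∈ W, k • w ∈ W)
    (hT : ∀ k ∈ K, ∀ m : M, k • T m = T (k • m))
    (c₁ : M) (hc₁ : c₁ ∈ W)
    (hgen : ∀ w ∈ W, ∃ P ∈ Subring.closure ({T} : Set (AddMonoid.End M)), w = P c₁) :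
    ∀ k ∈ K, ∀ k' ∈ K, ∀ w ∈ W, k • k' • w = k' • k • w := by
  have hPK : ∀ P ∈ Subring.closure ({T} : Set (AddMonoid.End M)), ∀ k ∈ K, ∀ m : M,
      k • P m = P (k • m) := by
    intro P hP k hk
    induction hP using Subring.closure_induction with
    | mem x hx => rw [Set.mem_singleton_iff.mp hx]; exact hT k hk
    | zero => intro m; exact smul_zero k
    | one => intro m; rfl
    | add x y _ _ hx hy =>
      intro m
      show k • (x m + y m) = x (k • m) + y (k • m)
      rw [smul_add, hx, hy]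
    | neg x _ hx =>
      intro m
      show k • (-(x m)) = -(x (k • m))
      rw [smul_neg, hx]
    | mul x y _ _ hx hy =>
      intro m
      show k • x (y m) = x (y (k • m))
      rw [hx, hy]
  have hcl := Subring.isMulCommutative_closure (s := ({T} : Set (AddMonoid.End M))) (by
    intro a ha b hb
    rw [Set.mem_singleton_iff.mp ha, Set.mem_singleton_iff.mp hb])
  have hPP : ∀ P ∈ Subring.closure ({T} : Set (AddMonoid.End M)),
      ∀ P' ∈ Subring.closure ({T} : Set (AddMonoid.End M)), ∀ m : M, P (P' m) = P' (P m) := by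
    intro P hP P' hP' m
    have h1 := mul_comm (⟨P, hP⟩ : Subring.closure ({T} : Set (AddMonoid.End M))) ⟨P', hP'⟩
    have h2 : P * P' = P' * P := congrArg Subtype.val h1
    exact congrArg (fun f : AddMonoid.End M => f m) h2
  intro k hk k' hk' w hw
  obtain ⟨P, hP, rfl⟩ := hgen w hw
  obtain ⟨S, hS, hSk⟩ := hgen (k • c₁) (hKW k hk c₁ hc₁)
  obtain ⟨S', hS', hSk'⟩ := hgen (k' • c₁) (hKW k' hk' c₁ hc₁)
  calc k • k' • P c₁ = k • P (S' c₁) := by rw [hPK P hP k' hk', hSk']
    _ = P (S' (S c₁)) := by rw [hPK P hP k hk, hPK S' hS' k hk, hSk]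
    _ = P (S (S' c₁)) := by rw [hPP S' hS' S hS]
    _ = k' • k • P c₁ := by
        rw [hPK P hP k hk, hSk, hPK P hP k' hk', hPK S hS k' hk', hSk']


/-- **Cyclic fixed points.** `KR` a Frobenius group of operators (kernel `K` nilpotent, complement
`R` of prime order) on the finite abelian group `M` of coprime order, `C_M(K) = 0`, `C_M(R)`
cyclic: then `[K, K]` acts trivially. -/
theorem ff_comm_triv [Finite G] [Finite M] (K R : Subgroup G)
    (hKR : ∀ e ∈ R, ∀ a ∈ K, e * a * e⁻¹ ∈ K)
    (hfpf : ∀ e ∈ R, e ≠ 1 → ∀ a ∈ K, e * a = a * e → a = 1)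
    (hnil : Group.IsNilpotent K)
    (hcK : (Nat.card M).Coprime (Nat.card K)) (hcR : (Nat.card M).Coprime (Nat.card R))
    (hp : (Nat.card R).Prime)
    (hfix : ∀ m : M, (∀ a ∈ K, a • m = m) → m = 0)
    (hcyc : IsAddCyclic (ffFix R (⊤ : AddSubgroup M))) :
    ∀ a ∈ ⁅K, K⁆, ∀ m : M, a • m = m := by
  have := Fintype.ofFinite G
  have hRN : R ≤ Subgroup.normalizer (K : Set G) := Subgroup.le_normalizer_iff.mpr hKR
  obtain ⟨N, hN⟩ := (Subgroup.isNilpotent_iff_lowerCentralSeries K).mp hnil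
  by_cases hM : ∀ m : M, m = 0
  · intro a _ m
    rw [hM m, smul_zero]
  have hpN : ∀ a ∈ K.lowerCentralSeries N, ∀ m : M, a • m = m := by
    intro a ha m
    rw [hN] at ha
    rw [Subgroup.mem_bot.mp ha, one_smul]
  have hp0 : ¬ ∀ a ∈ K.lowerCentralSeries 0, ∀ m : M, a • m = m := by
    intro hc
    exact hM (fun m => hfix m (fun a ha => hc a ha m))
  have hex : ∃ i, (¬ ∀ a ∈ K.lowerCentralSeries i, ∀ m : M, a • m = m) ∧
      ∀ a ∈ K.lowerCentralSeries (i + 1), ∀ m : M, a • m = m := by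
    by_contra hcon
    have hall : ∀ i, ¬ ∀ a ∈ K.lowerCentralSeries i, ∀ m : M, a • m = m := by
      intro i
      induction i with
      | zero => exact hp0
      | succ i ihi => exact fun hc => hcon ⟨i, ihi, hc⟩
    exact hall N hpN
  obtain ⟨i, hpi, hpi1⟩ := hex
  rcases Nat.eq_zero_or_pos i with hi0 | hipos
  · subst hi0
    exact hpi1
  exfalso
  have hQD : K.lowerCentralSeries i ≤ ⁅K, K⁆ :=
    Subgroup.lowerCentralSeries_antitone K (Nat.succ_le_of_lt hipos)
  have hQK : K.lowerCentralSeries i ≤ K := Subgroup.lowerCentralSeries_antitone K (Nat.zero_le i)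
  have hcard : ∀ W : AddSubgroup M, Nat.card W ∣ Nat.card M := fun W => AddSubgroup.card_addSubgroup_dvd_card W
  have hcQ : (Nat.card M).Coprime (Nat.card (K.lowerCentralSeries i)) :=
    Nat.Coprime.coprime_dvd_right (Subgroup.card_dvd_of_le hQK) hcK
  -- `Q` acts centrally
  have hcen : ∀ a ∈ K.lowerCentralSeries i, ∀ b ∈ K, ∀ m : M, a • b • m = b • a • m := by
    intro a ha b hb m
    have h1 : ⁅a, b⁆ ∈ K.lowerCentralSeries (i + 1) := Subgroup.commutator_mem_commutator ha hb
    have h2 := hpi1 _ h1 (b • a • m)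
    calc a • b • m = ⁅a, b⁆ • b • a • m := by
          rw [← mul_smul, ← mul_smul, ← mul_smul, commutatorElement_def]; congr 1; group
      _ = b • a • m := h2
  have htop : ∀ (S : Subgroup G), ∀ a ∈ S, ∀ w ∈ (⊤ : AddSubgroup M), a • w ∈ (⊤ : AddSubgroup M) :=
    fun _ _ _ _ _ => AddSubgroup.mem_top _
  have hcQ' : (Nat.card (⊤ : AddSubgroup M)).Coprime (Nat.card (K.lowerCentralSeries i)) := by
    rw [AddSubgroup.card_top]; exact hcQ
  have hΘ : ∀ w ∈ (⊤ : AddSubgroup M), ffTr (K.lowerCentralSeries i)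
      (ffTr (K.lowerCentralSeries i) w) =
      Nat.card (K.lowerCentralSeries i) • ffTr (K.lowerCentralSeries i) w :=
    fun w _ => ffTr_of_fixed _ (fun a ha => ffTr_smul_left _ ha w)
  have hsum := ff_eig_ker_sum (⊤ : AddSubgroup M) (ffTr (K.lowerCentralSeries i))
    (Nat.card (K.lowerCentralSeries i)) hcQ' (fun _ _ => AddSubgroup.mem_top _) hΘ
  have hTR : ∀ s ∈ R, ∀ w ∈ (⊤ : AddSubgroup M), ffTr (K.lowerCentralSeries i) (s • w) =
      s • ffTr (K.lowerCentralSeries i) w :=
    fun s hs w _ => ffTr_conj _ (ff_lcs_normalizer K (hRN hs) i) w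
  have hTK : ∀ s ∈ K, ∀ w ∈ (⊤ : AddSubgroup M), ffTr (K.lowerCentralSeries i) (s • w) =
      s • ffTr (K.lowerCentralSeries i) w :=
    fun s hs w _ => ffTr_conj _ (ff_lcs_normalizer K (Subgroup.le_normalizer hs) i) w
  have hBR := ff_ker_inv R _ _ (htop R) hTR
  have hBK := ff_ker_inv K _ _ (htop K) hTK
  -- the kernel of the trace is nonzero
  have hV₁ : ffKer (⊤ : AddSubgroup M) (ffTr (K.lowerCentralSeries i)) ≠ ⊥ := by
    intro hbot
    apply hpi
    intro a ha m
    obtain ⟨x, hx, y, hy, rfl⟩ := hsum m (AddSubgroup.mem_top _)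
    rw [hbot] at hy
    rw [AddSubgroup.mem_bot.mp hy, add_zero]
    exact ff_eig_tr_fixed _ _ (htop _) hcQ' hx a ha
  have hfixQ : ∀ w ∈ ffKer (⊤ : AddSubgroup M) (ffTr (K.lowerCentralSeries i)),
      (∀ a ∈ K.lowerCentralSeries i, a • w = w) → w = 0 := by
    intro w hw hfixw
    have h1 : ffTr (K.lowerCentralSeries i) w = Nat.card (K.lowerCentralSeries i) • w :=
      ffTr_of_fixed _ hfixw
    rw [hw.2] at h1
    exact ff_eq_zero_of_nsmul _ _ hcQ' hw.1 h1.symm
  obtain ⟨Q₁, hS, hne⟩ := ff_exists_setup (K.lowerCentralSeries i) R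
    (ffKer (⊤ : AddSubgroup M) (ffTr (K.lowerCentralSeries i))) hV₁
    (fun e he a ha => (Subgroup.mem_normalizer_iff.mp (ff_lcs_normalizer K (hRN he) i) a).mp ha)
    (fun e he he1 a ha => hfpf e he he1 a (hQK ha))
    (fun a ha w hw => hBK a (hQK ha) w hw) hBR
    (fun a ha b hb w _ => hcen a ha b (hQK hb) w)
  have hlt : Q₁ < K.lowerCentralSeries i := by
    refine lt_of_le_of_ne hS.hQ₁ ?_
    intro heq
    apply hne
    rw [eq_bot_iff]
    intro w hw
    rw [heq] at hw
    exact hfixQ w hw.1 hw.2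
  obtain ⟨u, hu, huQ₁⟩ := SetLike.exists_of_lt hlt
  have hW₁K : ∀ k ∈ K, ∀ w ∈ ffFix Q₁ (ffKer (⊤ : AddSubgroup M) (ffTr (K.lowerCentralSeries i))),
      k • w ∈ ffFix Q₁ (ffKer (⊤ : AddSubgroup M) (ffTr (K.lowerCentralSeries i))) := by
    intro k hk w hw
    exact ⟨hBK k hk w hw.1, fun a ha => by rw [hcen a (hS.hQ₁ ha) k hk, hw.2 a ha]⟩
  have hcV₁Q : (Nat.card (ffKer (⊤ : AddSubgroup M) (ffTr (K.lowerCentralSeries i)))).Coprime
      (Nat.card (K.lowerCentralSeries i)) := Nat.Coprime.coprime_dvd_left (hcard _) hcQ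
  have hcV₁R : (Nat.card (ffKer (⊤ : AddSubgroup M) (ffTr (K.lowerCentralSeries i)))).Coprime
      (Nat.card R) := Nat.Coprime.coprime_dvd_left (hcard _) hcR
  -- `W₁` is generated from one element by polynomials in `u`
  have hgen : ∃ c₁ ∈ ffFix Q₁ (ffKer (⊤ : AddSubgroup M) (ffTr (K.lowerCentralSeries i))),
      ∀ w ∈ ffFix Q₁ (ffKer (⊤ : AddSubgroup M) (ffTr (K.lowerCentralSeries i))),
        ∃ P ∈ Subring.closure ({DistribMulAction.toAddMonoidEnd G M u} : Set (AddMonoid.End M)),
          w = P c₁ := by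
    have hdvd : Nat.card (R ⊓ Subgroup.normalizer (Q₁ : Set G) : Subgroup G) ∣ Nat.card R :=
      Subgroup.card_dvd_of_le inf_le_left
    rcases hp.eq_one_or_self_of_dvd _ hdvd with h1 | h1
    · -- trivial stabilizer: `W₁` embeds into the fixed points of `R`
      have hbot : R ⊓ Subgroup.normalizer (Q₁ : Set G) = ⊥ := Subgroup.eq_bot_of_card_eq _ h1
      have hmem : ∀ w ∈ ffFix Q₁ (ffKer (⊤ : AddSubgroup M) (ffTr (K.lowerCentralSeries i))),
          w ∈ ffFix (R ⊓ Subgroup.normalizer (Q₁ : Set G))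
            (ffFix Q₁ (ffKer (⊤ : AddSubgroup M) (ffTr (K.lowerCentralSeries i)))) := by
        intro w hw
        refine ⟨hw, fun s hs => ?_⟩
        rw [hbot] at hs
        rw [Subgroup.mem_bot.mp hs, one_smul]
      let α : ffFix Q₁ (ffKer (⊤ : AddSubgroup M) (ffTr (K.lowerCentralSeries i))) →+
          ffFix R (⊤ : AddSubgroup M) :=
        { toFun := fun w => ⟨ffTr R (w : M), AddSubgroup.mem_top _,
            fun r hr => ffTr_smul_left R hr _⟩
          map_zero' := by
            apply Subtype.ext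
            simp
          map_add' := by
            intro a b
            apply Subtype.ext
            simp }
      have hα : Function.Injective α := by
        rw [injective_iff_map_eq_zero]
        intro w hw
        have h2 : ffTr R (w : M) = 0 := congrArg Subtype.val hw
        have h3 := hS.tr_trE (hmem w w.2)
        rw [h2, map_zero] at h3
        exact Subtype.ext (ff_eq_zero_of_nsmul _ _ (hS.cop hcV₁Q hcV₁R) w.2.1 h3.symm)
      haveI := isAddCyclic_of_injective α hα
      obtain ⟨g, hg⟩ := IsAddCyclic.exists_generator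
        (α := ffFix Q₁ (ffKer (⊤ : AddSubgroup M) (ffTr (K.lowerCentralSeries i))))
      refine ⟨(g : M), g.2, fun w hw => ?_⟩
      obtain ⟨n, hn⟩ := AddSubgroup.mem_zmultiples_iff.mp (hg ⟨w, hw⟩)
      refine ⟨n • (1 : AddMonoid.End M), Subring.zsmul_mem _ (Subring.one_mem _) n, ?_⟩
      have h4 : w = n • (g : M) := by
        have := congrArg Subtype.val hn
        simpa using this.symm
      rw [h4]
      rfl
    · -- `R` normalizes `Q₁`: Vandermonde span
      have hRN₁ : R ⊓ Subgroup.normalizer (Q₁ : Set G) = R :=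
        Subgroup.eq_of_le_of_card_ge inf_le_left h1.ge
      have hle : ffFix (R ⊓ Subgroup.normalizer (Q₁ : Set G))
          (ffFix Q₁ (ffKer (⊤ : AddSubgroup M) (ffTr (K.lowerCentralSeries i)))) ≤
          ffFix R (⊤ : AddSubgroup M) := by
        intro w hw
        rw [hRN₁] at hw
        exact ⟨AddSubgroup.mem_top _, hw.2⟩
      haveI := isAddCyclic_of_injective (AddSubgroup.inclusion hle)
        (AddSubgroup.inclusion_injective hle)
      obtain ⟨g, hg⟩ := IsAddCyclic.exists_generator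
        (α := ffFix (R ⊓ Subgroup.normalizer (Q₁ : Set G))
          (ffFix Q₁ (ffKer (⊤ : AddSubgroup M) (ffTr (K.lowerCentralSeries i)))))
      refine ⟨(g : M), g.2.1, fun w hw => ?_⟩
      obtain ⟨c, hc, hwc⟩ := (hS.vdm_span hu huQ₁).2 w hw
      have hn : ∀ k, ∃ n : ℤ, c k = n • (g : M) := by
        intro k
        obtain ⟨n, hn⟩ := AddSubgroup.mem_zmultiples_iff.mp (hg ⟨c k, hc k⟩)
        refine ⟨n, ?_⟩
        have := congrArg Subtype.val hn
        simpa using this.symm
      choose n hn using hn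
      have hTmem : DistribMulAction.toAddMonoidEnd G M u ∈
          Subring.closure ({DistribMulAction.toAddMonoidEnd G M u} : Set (AddMonoid.End M)) :=
        Subring.subset_closure (Set.mem_singleton _)
      have hPmem : (∑ k, n k • (DistribMulAction.toAddMonoidEnd G M u) ^ (k : ℕ)) ∈
          Subring.closure ({DistribMulAction.toAddMonoidEnd G M u} : Set (AddMonoid.End M)) := by
        apply Subring.sum_mem
        intro k _
        exact Subring.zsmul_mem _ (Subring.pow_mem _ hTmem _) _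
      refine ⟨∑ k, n k • (DistribMulAction.toAddMonoidEnd G M u) ^ (k : ℕ), hPmem, ?_⟩
      rw [hwc]
      have h5 : ∀ (f : Fin (Nat.card (R ⊓ Subgroup.normalizer (Q₁ : Set G) : Subgroup G)) →
          AddMonoid.End M) (x : M), (∑ k, f k) x = ∑ k, f k x := by
        intro f x
        exact map_sum (AddMonoidHom.eval x) f Finset.univ
      rw [h5]
      refine Finset.sum_congr rfl (fun k _ => ?_)
      rw [hn k, ← map_pow, smul_comm]
      rfl
  obtain ⟨c₁, hc₁, hgen⟩ := hgen
  have hKcomm := ff_cyc_comm K _ (DistribMulAction.toAddMonoidEnd G M u) hW₁K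
    (fun k hk m => (hcen u hu k hk m).symm) c₁ hc₁ hgen
  -- so `[K, K]` acts trivially on `W₁`
  have hD : ⁅K, K⁆ ≤ ⨅ w : ffFix Q₁ (ffKer (⊤ : AddSubgroup M) (ffTr (K.lowerCentralSeries i))),
      MulAction.stabilizer G (w : M) := by
    rw [Subgroup.commutator_le]
    intro g₁ hg₁ g₂ hg₂
    rw [Subgroup.mem_iInf]
    intro w
    rw [MulAction.mem_stabilizer_iff]
    have hw' := hW₁K _ (K.inv_mem hg₁) _ (hW₁K _ (K.inv_mem hg₂) _ w.2)
    have h1 := hKcomm g₁ hg₁ g₂ hg₂ _ hw'
    calc ⁅g₁, g₂⁆ • (w : M) = g₁ • g₂ • g₁⁻¹ • g₂⁻¹ • (w : M) := by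
          rw [commutatorElement_def, mul_smul, mul_smul, mul_smul]
      _ = g₂ • g₁ • g₁⁻¹ • g₂⁻¹ • (w : M) := h1
      _ = (w : M) := by rw [smul_inv_smul, smul_inv_smul]
  apply hne
  rw [eq_bot_iff]
  intro w hw
  have h1 := hD (hQD hu)
  rw [Subgroup.mem_iInf] at h1
  exact hS.fix_notin hu huQ₁ hw (MulAction.mem_stabilizer_iff.mp (h1 ⟨w, hw⟩))

end CycComm

end Cfsg.Agent.Lib.helper12
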