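import Mathlib
import Cfsg.Agent.Lib.helper12.FrobFixB
import Cfsg.Agent.Lib.helper12.FrobFixC

/-!
Frobenius groups of operators `KR` on a solvable group `M` of coprime order, with `C_M(K) = 1`,
`R` of prime order and `C_M(R)` cyclic: `[K, K]` centralizes `M` (helper12).
-/

set_option autoImplicit false

namespace Cfsg.Agent.Lib.helper12

open scoped Pointwise commutatorElement

section Sections

variable {Y : Type*} [Group Y]

attribute [local instance] ffAbAct

theorem ff_comm_centralizes_normal [Finite Y] (K R : Subgroup Y)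
    (hKR : ∀ e ∈ R, ∀ a ∈ K, e * a * e⁻¹ ∈ K)
    (hfpf : ∀ e ∈ R, e ≠ 1 → ∀ a ∈ K, e * a = a * e → a = 1)
    (hnil : Group.IsNilpotent K) (hp : (Nat.card R).Prime) (M : Subgroup Y)
    (hCK : M ⊓ Subgroup.centralizer (K : Set Y) = ⊥)
    (hcyc : IsCyclic (M ⊓ Subgroup.centralizer (R : Set Y) : Subgroup Y)) :
    ∀ (n : ℕ) (L : Subgroup Y), L.Normal → Nat.card L = n → L ≤ M → Group.IsSolvable L →
      (Nat.card L).Coprime (Nat.card K) → (Nat.card L).Coprime (Nat.card R) →
      ⁅K, K⁆ ≤ Subgroup.centralizer (L : Set Y) := by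
  intro n
  induction n using Nat.strong_induction_on with
  | _ n ih =>
  intro L hLn hn hLM hsolv hcK hcR
  by_cases hL : L = ⊥
  · subst hL
    intro a _
    rw [Subgroup.mem_centralizer_iff]
    intro h hh
    rw [Subgroup.mem_bot.mp hh]
    simp
  have hNL : ⁅L, L⁆ ≤ L := Subgroup.commutator_le_left L L
  have hNn : (⁅L, L⁆ : Subgroup Y).Normal := inferInstance
  have hNsolv : Group.IsSolvable (⁅L, L⁆ : Subgroup Y) :=
    Group.isSolvable_of_isSolvable_injective (Subgroup.inclusion_injective hNL)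
  have hNne : (⁅L, L⁆ : Subgroup Y) ≠ L := by
    intro heq
    haveI : Nontrivial L := by
      rw [Subgroup.nontrivial_iff_ne_bot]
      exact hL
    have hlt := Group.IsSolvable.commutator_lt_top_of_nontrivial L
    apply hlt.ne
    rw [eq_top_iff]
    intro k _
    rw [ff_mem_commutator, heq]
    exact k.2
  have hNlt : Nat.card (⁅L, L⁆ : Subgroup Y) < n := by
    rw [← hn]
    exact card_lt_of_lt (lt_of_le_of_ne hNL hNne)
  have hNdvd : Nat.card (⁅L, L⁆ : Subgroup Y) ∣ Nat.card L := Subgroup.card_dvd_of_le hNL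
  have hcNK := Nat.Coprime.coprime_dvd_left hNdvd hcK
  have hcNR := Nat.Coprime.coprime_dvd_left hNdvd hcR
  have hIH := ih _ hNlt ⁅L, L⁆ hNn rfl (hNL.trans hLM) hNsolv hcNK hcNR
  -- the abelian section
  have hMK : Nat.card (Additive (Abelianization L)) * Nat.card (⁅L, L⁆ : Subgroup Y) =
      Nat.card L := by
    have h1 := Subgroup.card_eq_card_quotient_mul_card_subgroup (commutator L)
    have h2 : Nat.card (commutator L) = Nat.card (⁅L, L⁆ : Subgroup Y) := by
      rw [← Subgroup.map_subtype_commutator]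
      exact (Nat.card_congr ((commutator L).equivMapOfInjective L.subtype
        L.subtype_injective).toEquiv)
    rw [h1, h2]
    rfl
  have hMdvd : Nat.card (Additive (Abelianization L)) ∣ Nat.card L := by
    rw [← hMK]; exact dvd_mul_right _ _
  have hfixV : ∀ v : Additive (Abelianization L), (∀ a ∈ K, a • v = v) → v = 0 := by
    intro v hv
    obtain ⟨k, rfl⟩ : ∃ k : L, Additive.ofMul (Abelianization.of k) = v :=
      QuotientGroup.mk_surjective (Additive.toMul v)
    obtain ⟨c, hcL, hc, hck⟩ := ff_ab_fix_lift L K hcNK.symm hNsolv k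
      ⟨AddSubgroup.mem_top _, hv⟩
    have hc1 : c = 1 := by
      have : c ∈ M ⊓ Subgroup.centralizer (K : Set Y) := ⟨hLM hcL, hc⟩
      rw [hCK] at this
      exact Subgroup.mem_bot.mp this
    rw [← hck]
    have h1 : (⟨c, hcL⟩ : L) = 1 := Subtype.ext hc1
    rw [h1, map_one]
    rfl
  have hcycV : IsAddCyclic (ffFix R (⊤ : AddSubgroup (Additive (Abelianization L)))) := by
    have hle : L ⊓ Subgroup.centralizer (R : Set Y) ≤ M ⊓ Subgroup.centralizer (R : Set Y) :=
      inf_le_inf_right _ hLM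
    haveI : IsCyclic (L ⊓ Subgroup.centralizer (R : Set Y) : Subgroup Y) :=
      isCyclic_of_injective (Subgroup.inclusion hle) (Subgroup.inclusion_injective hle)
    let f : (L ⊓ Subgroup.centralizer (R : Set Y) : Subgroup Y) →* Abelianization L :=
      Abelianization.of.comp (Subgroup.inclusion inf_le_left)
    have hfmem : ∀ x : Additive (L ⊓ Subgroup.centralizer (R : Set Y) : Subgroup Y),
        MonoidHom.toAdditive f x ∈ ffFix R (⊤ : AddSubgroup (Additive (Abelianization L))) := by
      intro x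
      refine ⟨AddSubgroup.mem_top _, fun b hb => ?_⟩
      have hx : MonoidHom.toAdditive f x =
          Additive.ofMul (Abelianization.of (⟨(Additive.toMul x).1, (Additive.toMul x).2.1⟩ : L)) :=
        rfl
      rw [hx, ffAb_smul_of]
      congr 2
      apply Subtype.ext
      rw [MulAut.conjNormal_apply]
      have h1 : b * ((Additive.toMul x : (L ⊓ Subgroup.centralizer (R : Set Y) : Subgroup Y)) : Y) =
          ((Additive.toMul x : (L ⊓ Subgroup.centralizer (R : Set Y) : Subgroup Y)) : Y) * b :=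
        Subgroup.mem_centralizer_iff.mp (Additive.toMul x).2.2 b hb
      show b * ((Additive.toMul x : (L ⊓ Subgroup.centralizer (R : Set Y) : Subgroup Y)) : Y) * b⁻¹ =
        ((Additive.toMul x : (L ⊓ Subgroup.centralizer (R : Set Y) : Subgroup Y)) : Y)
      rw [h1, mul_inv_cancel_right]
    apply isAddCyclic_of_surjective ((MonoidHom.toAdditive f).codRestrict _ hfmem)
    rintro ⟨v, hv⟩
    obtain ⟨k, rfl⟩ : ∃ k : L, Additive.ofMul (Abelianization.of k) = v :=
      QuotientGroup.mk_surjective (Additive.toMul v)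
    obtain ⟨c, hcL, hc, hck⟩ := ff_ab_fix_lift L R hcNR.symm hNsolv k hv
    refine ⟨Additive.ofMul ⟨c, hcL, hc⟩, ?_⟩
    apply Subtype.ext
    show Additive.ofMul (Abelianization.of (⟨c, hcL⟩ : L)) = Additive.ofMul (Abelianization.of k)
    rw [hck]
  have htriv := ff_comm_triv (M := Additive (Abelianization L)) K R hKR hfpf hnil
    (Nat.Coprime.coprime_dvd_left hMdvd hcK) (Nat.Coprime.coprime_dvd_left hMdvd hcR) hp
    hfixV hcycV
  -- conclude by fixed points in cosets
  have hDK : ⁅K, K⁆ ≤ K := Subgroup.commutator_le.mpr (fun g₁ hg₁ g₂ hg₂ => by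
    rw [commutatorElement_def]
    exact K.mul_mem (K.mul_mem (K.mul_mem hg₁ hg₂) (K.inv_mem hg₁)) (K.inv_mem hg₂))
  have hcDN : (Nat.card (⁅K, K⁆ : Subgroup Y)).Coprime (Nat.card (⁅L, L⁆ : Subgroup Y)) :=
    (Nat.Coprime.coprime_dvd_right (Subgroup.card_dvd_of_le hDK) hcNK).symm
  intro a ha
  rw [Subgroup.mem_centralizer_iff]
  intro x hx
  have hg : ∀ b ∈ (⁅K, K⁆ : Subgroup Y), b * x * b⁻¹ * x⁻¹ ∈ (⁅L, L⁆ : Subgroup Y) := by
    intro b hb
    have h1 := htriv b hb (Additive.ofMul (Abelianization.of (⟨x, hx⟩ : L)))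
    rw [ffAb_smul_of] at h1
    have h2 : Abelianization.of (MulAut.conjNormal b (⟨x, hx⟩ : L)) =
        Abelianization.of (⟨x, hx⟩ : L) := Additive.ofMul.injective h1
    rw [ff_of_eq_of, MulAut.conjNormal_apply] at h2
    exact h2
  obtain ⟨c, hc, hcx⟩ := Cfsg.Agent.Lib.helper1.coset_fixed ⁅K, K⁆ ⁅L, L⁆
    (by rw [Subgroup.normalizer_eq_top]; exact le_top) hcDN (Or.inr hNsolv) x hg
  have h1 : a * c = c * a := Subgroup.mem_centralizer_iff.mp hc a ha
  have h2 : (c * x⁻¹) * a = a * (c * x⁻¹) := Subgroup.mem_centralizer_iff.mp (hIH ha) _ hcx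
  -- x = (c x⁻¹)⁻¹ c
  have h3 : x = (c * x⁻¹)⁻¹ * c := by group
  have h4 : (c * x⁻¹)⁻¹ * a = a * (c * x⁻¹)⁻¹ := by
    calc (c * x⁻¹)⁻¹ * a = (c * x⁻¹)⁻¹ * (a * (c * x⁻¹)) * (c * x⁻¹)⁻¹ := by group
      _ = (c * x⁻¹)⁻¹ * ((c * x⁻¹) * a) * (c * x⁻¹)⁻¹ := by rw [h2]
      _ = a * (c * x⁻¹)⁻¹ := by group
  calc x * a = (c * x⁻¹)⁻¹ * c * a := by rw [← h3]
    _ = (c * x⁻¹)⁻¹ * (a * c) := by rw [h1, mul_assoc]
    _ = (c * x⁻¹)⁻¹ * a * c := by rw [mul_assoc]
    _ = a * ((c * x⁻¹)⁻¹ * c) := by rw [h4, mul_assoc]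
    _ = a * x := by rw [← h3]

end Sections

section Transfer

variable {X : Type*} [Group X]

/-- `KR` a Frobenius group (complement `R` of prime order) acting by conjugation on the solvable
group `M` of coprime order, `C_M(K) = 1` and `C_M(R)` cyclic: then `[K, K]` centralizes `M`. -/
theorem ff_comm_centralizes [Finite X] (K R M : Subgroup X)
    (hRK : ∀ e ∈ R, ∀ a ∈ K, e * a * e⁻¹ ∈ K)
    (hfpf : ∀ e ∈ R, e ≠ 1 → ∀ a ∈ K, e * a = a * e → a = 1)
    (hp : (Nat.card R).Prime) (hMsolv : Group.IsSolvable M)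
    (hKM : K ≤ Subgroup.normalizer (M : Set X)) (hRM : R ≤ Subgroup.normalizer (M : Set X))
    (hcK : (Nat.card M).Coprime (Nat.card K)) (hcR : (Nat.card M).Coprime (Nat.card R))
    (hCK : M ⊓ Subgroup.centralizer (K : Set X) = ⊥)
    (hcyc : IsCyclic (M ⊓ Subgroup.centralizer (R : Set X) : Subgroup X)) :
    ⁅K, K⁆ ≤ Subgroup.centralizer (M : Set X) := by
  have hR1 : R ≠ ⊥ := by
    intro h
    rw [h, Subgroup.card_bot] at hp
    exact Nat.not_prime_one hp
  have hnilK : Group.IsNilpotent K := ff_nilpotent_kernel K R hR1 hRK hfpf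
  have hMT : M ≤ Subgroup.normalizer (M : Set X) := Subgroup.le_normalizer
  haveI : (M.subgroupOf (Subgroup.normalizer (M : Set X))).Normal := Subgroup.normal_in_normalizer
  have hnil' : Group.IsNilpotent (K.subgroupOf (Subgroup.normalizer (M : Set X))) :=
    Group.nilpotent_of_mulEquiv (Subgroup.subgroupOfEquivOfLe hKM).symm
  have hsolv' : Group.IsSolvable (M.subgroupOf (Subgroup.normalizer (M : Set X))) :=
    Group.isSolvable_of_isSolvable_injective
      (f := (Subgroup.subgroupOfEquivOfLe hMT).toMonoidHom) (Subgroup.subgroupOfEquivOfLe hMT).injective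
  have hcardR : Nat.card (R.subgroupOf (Subgroup.normalizer (M : Set X))) = Nat.card R :=
    Nat.card_congr (Subgroup.subgroupOfEquivOfLe hRM).toEquiv
  have hcardK : Nat.card (K.subgroupOf (Subgroup.normalizer (M : Set X))) = Nat.card K :=
    Nat.card_congr (Subgroup.subgroupOfEquivOfLe hKM).toEquiv
  have hcardM : Nat.card (M.subgroupOf (Subgroup.normalizer (M : Set X))) = Nat.card M :=
    Nat.card_congr (Subgroup.subgroupOfEquivOfLe hMT).toEquiv
  have hCK' : M.subgroupOf (Subgroup.normalizer (M : Set X)) ⊓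
      Subgroup.centralizer ((K.subgroupOf (Subgroup.normalizer (M : Set X)) :
        Subgroup (Subgroup.normalizer (M : Set X))) : Set (Subgroup.normalizer (M : Set X))) = ⊥ := by
    rw [ff_inf_centralizer_subgroupOf _ M K hKM, hCK]
    simp
  have hcyc' : IsCyclic (M.subgroupOf (Subgroup.normalizer (M : Set X)) ⊓
      Subgroup.centralizer ((R.subgroupOf (Subgroup.normalizer (M : Set X)) :
        Subgroup (Subgroup.normalizer (M : Set X))) : Set (Subgroup.normalizer (M : Set X))) :
      Subgroup (Subgroup.normalizer (M : Set X))) := by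
    rw [ff_inf_centralizer_subgroupOf _ M R hRM]
    have e := Subgroup.subgroupOfEquivOfLe
      (inf_le_left.trans hMT : M ⊓ Subgroup.centralizer (R : Set X) ≤
        Subgroup.normalizer (M : Set X))
    exact isCyclic_of_injective e.toMonoidHom e.injective
  have key := ff_comm_centralizes_normal (K.subgroupOf (Subgroup.normalizer (M : Set X)))
    (R.subgroupOf (Subgroup.normalizer (M : Set X)))
    (fun e he a ha => by
      rw [Subgroup.mem_subgroupOf] at he ha ⊢
      exact hRK _ he _ ha)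
    (fun e he he1 a ha hcomm => by
      rw [Subgroup.mem_subgroupOf] at he ha
      have h1 : (e : X) ≠ 1 := fun h => he1 (Subtype.ext h)
      exact Subtype.ext (hfpf _ he h1 _ ha (congrArg Subtype.val hcomm)))
    hnil' (by rw [hcardR]; exact hp) (M.subgroupOf (Subgroup.normalizer (M : Set X))) hCK' hcyc'
    _ (M.subgroupOf (Subgroup.normalizer (M : Set X))) inferInstance rfl le_rfl hsolv'
    (by rw [hcardM, hcardK]; exact hcK) (by rw [hcardM, hcardR]; exact hcR)
  -- back to `X`
  have hmap : (⁅K.subgroupOf (Subgroup.normalizer (M : Set X)),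
      K.subgroupOf (Subgroup.normalizer (M : Set X))⁆).map
        (Subgroup.normalizer (M : Set X)).subtype = ⁅K, K⁆ := by
    rw [Subgroup.map_commutator, Subgroup.map_subgroupOf_eq_of_le hKM]
  intro a ha
  rw [← hmap] at ha
  obtain ⟨a', ha', rfl⟩ := ha
  rw [Subgroup.mem_centralizer_iff]
  intro m hm
  have h1 := Subgroup.mem_centralizer_iff.mp (key ha') ⟨m, hMT hm⟩
    (Subgroup.mem_subgroupOf.mpr hm)
  exact congrArg Subtype.val h1

end Transfer

end Cfsg.Agent.Lib.helper12
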