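import Mathlib
import Cfsg.Agent.Lib.helper8.BGTwelve
import Cfsg.Agent.Lib.helper36.BGX1
import Cfsg.Agent.Lib.helper12.Conj
import Cfsg.Agent.S0058
import Cfsg.Agent.S1403
import Cfsg.Agent.S1404
import Cfsg.Agent.S1408
import Cfsg.Agent.S1409

/-!
# Bender–Glauberman 11.5 and 11.6 (helper12)

In the interface of `Cfsg.Agent.Lib.helper13.BGExc`:
* `p11_6 : P11_2 G → P11_5 G → P11_6 G`;
* `p11_5_of : PP0 G → P11_2 G → P11_3 G → P11_4 G → P11_5 G`, where `PP0 G` is the `p`-group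
  lemma (P0) (a nonabelian `p`-group `P` containing a maximal elementary abelian subgroup `A` of
  order `p ^ 2`: `Ω₁(Z(P))` has order `p`, lies in `A`, and `N_P(A)` is transitive on the other
  subgroups of order `p` of `A`), taken as a hypothesis.
-/

set_option autoImplicit false
set_option linter.style.haveILetI false
set_option linter.unusedSectionVars false

namespace Cfsg.Agent.Lib.helper12

open Cfsg Cfsg.Agent.Lib.helper13

variable {G : Type*} [Group G]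

/-- The `p`-group lemma (P0), as a hypothesis. -/
def PP0 (G : Type*) [Group G] : Prop :=
  ∀ (p : ℕ) [Fact p.Prime] (A P : Subgroup G), IsElementaryAbelian p A → Nat.card A = p ^ 2 →
    (∀ B : Subgroup G, IsElementaryAbelian p B → A ≤ B → B = A) → IsPGroup p P → A ≤ P →
    (¬ ∀ x ∈ P, ∀ y ∈ P, x * y = y * x) →
    ∃ Z : Subgroup G, Z ≤ A ∧ Nat.card Z = p ∧ Z ≤ Subgroup.centralizer (P : Set G) ∧
      (∀ x ∈ P, x ∈ Subgroup.centralizer (P : Set G) → x ^ p = 1 → x ∈ Z) ∧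
      ∀ X X' : Subgroup G, X ≤ A → X' ≤ A → Nat.card X = p → Nat.card X' = p → X ≠ Z → X' ≠ Z →
        ∃ y ∈ P, y ∈ Subgroup.normalizer (A : Set G) ∧ X' = X.map (MulAut.conj y).toMonoidHom

/-- Under (Exc), `A` is a maximal elementary abelian `p`-subgroup of `G`. -/
theorem exc_max [Finite G] (hG : IsMinSimpleOddOrder G) {M : Subgroup G} {p : ℕ} [Fact p.Prime]
    {A₀ A : Subgroup G} (hE : Exc M p A₀ A) :
    ∀ B : Subgroup G, IsElementaryAbelian p B → A ≤ B → B = A := by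
  obtain ⟨hM, hp, hpσ, hAM, hAel, hA2, hA₀A, hA₀p, hNA₀⟩ := hE
  have h := Cfsg.Agent.S1409.result hG M hM p hpσ A₀ hA₀p hNA₀
  exact (Cfsg.Agent.S1408.result hG M hM p hpσ h.1.1 h.1.2).2 A hAM hAel hA2

theorem exc_exists_sylow [Finite G] {M : Subgroup G} {p : ℕ} [Fact p.Prime] {A : Subgroup G}
    (hAM : A ≤ M) (hAp : IsPGroup p A) :
    ∃ P : Sylow p M, A ≤ (P : Subgroup M).map M.subtype := by
  obtain ⟨P, hP⟩ := (hAp.comap_subtype (K := M)).exists_le_sylow
  exact ⟨P, fun a ha => ⟨⟨a, hAM ha⟩, hP (Subgroup.mem_subgroupOf.mpr ha), rfl⟩⟩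

theorem mem_of_sq_mem_of_odd [Finite G] (hodd : Odd (Nat.card G)) (M : Subgroup G) {g : G}
    (h : g * g ∈ M) : g ∈ M := by
  have ho : Odd (orderOf g) := hodd.of_dvd_nat (orderOf_dvd_natCard g)
  obtain ⟨k, hk⟩ := ho
  have h1 : g = (g * g) ^ (k + 1) := by
    rw [← pow_two, ← pow_mul]
    have h2 : 2 * (k + 1) = orderOf g + 1 := by omega
    rw [h2, pow_succ, pow_orderOf_eq_one, one_mul]
  rw [h1]; exact M.pow_mem h _

theorem isElementaryAbelian_map_conj {p : ℕ} {A : Subgroup G} (hA : IsElementaryAbelian p A)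
    (g : G) : IsElementaryAbelian p (A.map (MulAut.conj g).toMonoidHom) := by
  refine ⟨⟨⟨?_⟩⟩, ?_⟩
  · rintro ⟨_, ⟨a, ha, rfl⟩⟩ ⟨_, ⟨b, hb, rfl⟩⟩
    apply Subtype.ext
    show g * a * g⁻¹ * (g * b * g⁻¹) = g * b * g⁻¹ * (g * a * g⁻¹)
    have hab : a * b = b * a := congrArg Subtype.val (hA.1.is_comm.comm ⟨a, ha⟩ ⟨b, hb⟩)
    calc g * a * g⁻¹ * (g * b * g⁻¹) = g * (a * b) * g⁻¹ := by group
      _ = g * (b * a) * g⁻¹ := by rw [hab]
      _ = g * b * g⁻¹ * (g * a * g⁻¹) := by group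
  · rintro _ ⟨a, ha, rfl⟩
    show (g * a * g⁻¹) ^ p = 1
    rw [conj_pow, hA.2 a ha]; group

theorem max_map_conj {p : ℕ} {A : Subgroup G}
    (hmax : ∀ B : Subgroup G, IsElementaryAbelian p B → A ≤ B → B = A) (g : G) :
    ∀ B : Subgroup G, IsElementaryAbelian p B → A.map (MulAut.conj g).toMonoidHom ≤ B →
      B = A.map (MulAut.conj g).toMonoidHom := by
  intro B hB hAB
  have h1 : B.map (MulAut.conj g⁻¹).toMonoidHom = A := by
    apply hmax _ (isElementaryAbelian_map_conj hB g⁻¹)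
    intro a ha
    rw [Cfsg.Agent.Lib.helper36.bgx_mem_map_conj, inv_inv]
    exact hAB (Cfsg.Agent.Lib.helper36.bgx_conj_mem_map ha)
  apply le_antisymm _ hAB
  intro b hb
  rw [Cfsg.Agent.Lib.helper36.bgx_mem_map_conj, ← h1]
  have h2 := Cfsg.Agent.Lib.helper36.bgx_conj_mem_map (g := g⁻¹) hb
  rwa [inv_inv] at h2

theorem pow_card_of_mem [Finite G] {Z : Subgroup G} {p : ℕ} (hZ : Nat.card Z = p) {z : G}
    (hz : z ∈ Z) : z ^ p = 1 :=
  orderOf_dvd_iff_pow_eq_one.mp (hZ ▸ Subgroup.orderOf_dvd_natCard Z hz)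

/-- A subgroup `Z` of `P` described intrinsically as the central elements of `P` of order dividing
`p` is normalized by `N_G(P)`. -/
theorem normalizer_le_of_char [Finite G] {p : ℕ} {P Z : Subgroup G} (hZP : Z ≤ P)
    (hZc : Z ≤ Subgroup.centralizer (P : Set G)) (hZp : ∀ z ∈ Z, z ^ p = 1)
    (hchar : ∀ x ∈ P, x ∈ Subgroup.centralizer (P : Set G) → x ^ p = 1 → x ∈ Z) :
    Subgroup.normalizer (P : Set G) ≤ Subgroup.normalizer (Z : Set G) := by
  intro n hn
  apply mem_normalizer_of_conj_smul_le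
  intro x hx
  rw [mem_conj_smul_iff] at hx
  have hx' : x = n * (n⁻¹ * x * n) * n⁻¹ := by group
  rw [hx']
  refine hchar _ ((Subgroup.mem_normalizer_iff.mp hn (n⁻¹ * x * n)).mp (hZP hx)) ?_ ?_
  · rw [Subgroup.mem_centralizer_iff]
    intro y hy
    have hy' : n⁻¹ * y * n ∈ P := by
      have h1 := (Subgroup.mem_normalizer_iff.mp (Subgroup.inv_mem _ hn) y).mp hy
      rwa [inv_inv] at h1
    have hc : (n⁻¹ * y * n) * (n⁻¹ * x * n) = (n⁻¹ * x * n) * (n⁻¹ * y * n) :=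
      Subgroup.mem_centralizer_iff.mp (hZc hx) _ hy'
    calc y * (n * (n⁻¹ * x * n) * n⁻¹) = n * ((n⁻¹ * y * n) * (n⁻¹ * x * n)) * n⁻¹ := by group
      _ = n * ((n⁻¹ * x * n) * (n⁻¹ * y * n)) * n⁻¹ := by rw [hc]
      _ = n * (n⁻¹ * x * n) * n⁻¹ * y := by group
  · rw [conj_pow, hZp _ hx]; group

theorem not_isCyclic_of_elementary [Finite G] {p : ℕ} (hp : p.Prime) {A : Subgroup G}
    (hA : IsElementaryAbelian p A) (hA2 : Nat.card A = p ^ 2) : ¬ IsCyclic A := by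
  intro hc
  obtain ⟨a, ha⟩ := hc.exists_generator
  have h1 : orderOf a = Nat.card A := orderOf_eq_card_of_forall_mem_zpowers ha
  have h2 : a ^ p = 1 := Subtype.ext (by simpa using hA.2 a.1 a.2)
  have h3 : orderOf a ∣ p := orderOf_dvd_of_pow_eq_one h2
  rw [h1, hA2] at h3
  have h4 := Nat.le_of_dvd hp.pos h3
  have h5 : p < p ^ 2 := by nlinarith [hp.one_lt]
  omega

/-- B-G 11.6 from 11.2 and 11.5. -/
theorem p11_6 [Finite G] (hG : IsMinSimpleOddOrder G) (h2 : P11_2 G) (h5 : P11_5 G) :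
    P11_6 G := by
  intro M p _ A₀ A hE
  have hmax := exc_max hG hE
  obtain ⟨hM, hp, hpσ, hAM, hAel, hA2, hA₀A, hA₀p, hNA₀⟩ := id hE
  have hAp : IsPGroup p A := IsPGroup.of_card hA2
  have hOmega : ∀ P : Sylow p M, A ≤ (P : Subgroup M).map M.subtype →
      ∀ x ∈ (P : Subgroup M).map M.subtype, x ^ p = 1 ↔ x ∈ A := by
    intro P hAP x hx
    have hc := h5 M p A₀ A hE P
    have hcomm : ∀ a ∈ (P : Subgroup M).map M.subtype,
        ∀ b ∈ (P : Subgroup M).map M.subtype, a * b = b * a := by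
      rintro _ ⟨a, ha, rfl⟩ _ ⟨b, hb, rfl⟩
      have h' : a * b = b * a := congrArg Subtype.val (hc.is_comm.comm ⟨a, ha⟩ ⟨b, hb⟩)
      rw [← map_mul, ← map_mul, h']
    let B : Subgroup G :=
      { carrier := {x | x ∈ (P : Subgroup M).map M.subtype ∧ x ^ p = 1}
        mul_mem' := fun {a b} ha hb => ⟨Subgroup.mul_mem _ ha.1 hb.1, by
          have hab : Commute a b := hcomm a ha.1 b hb.1
          rw [hab.mul_pow, ha.2, hb.2, one_mul]⟩
        one_mem' := ⟨Subgroup.one_mem _, one_pow _⟩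
        inv_mem' := fun {a} ha => ⟨Subgroup.inv_mem _ ha.1, by rw [inv_pow, ha.2, inv_one]⟩ }
    have hBmem : ∀ y : G, y ∈ B ↔ (y ∈ (P : Subgroup M).map M.subtype ∧ y ^ p = 1) :=
      fun y => Iff.rfl
    have hB : B = A := hmax B
      ⟨⟨⟨fun a b => Subtype.ext (hcomm a.1 ((hBmem _).mp a.2).1 b.1 ((hBmem _).mp b.2).1)⟩⟩,
        fun a ha => ((hBmem _).mp ha).2⟩
      (fun a ha => (hBmem _).mpr ⟨hAP ha, hAel.2 a ha⟩)
    constructor
    · intro hxp
      have h1 : x ∈ B := (hBmem _).mpr ⟨hx, hxp⟩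
      rwa [hB] at h1
    · intro hxA
      exact hAel.2 x hxA
  obtain ⟨P, hAP⟩ := exc_exists_sylow hAM hAp
  have hpM : p ∣ Nat.card M := by
    have h1 : Nat.card A ∣ Nat.card M := Subgroup.card_dvd_of_le hAM
    rw [hA2] at h1
    exact (dvd_pow_self p (by norm_num)).trans h1
  have hNP : ¬ Subgroup.normalizer (((P : Subgroup M).map M.subtype : Subgroup G) : Set G) ≤ M :=
    fun hN => hpσ ⟨hp, hpM, P, hN⟩
  obtain ⟨g, hgN, hgM⟩ := SetLike.not_le_iff_exists.mp hNP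
  have hggM : g * g ∉ M := fun h => hgM (mem_of_sq_mem_of_odd hG.1 M h)
  have hggN : g * g ∈ Subgroup.normalizer
      (((P : Subgroup M).map M.subtype : Subgroup G) : Set G) := Subgroup.mul_mem _ hgN hgN
  have key : ∀ n ∈ Subgroup.normalizer (((P : Subgroup M).map M.subtype : Subgroup G) : Set G),
      n ∉ M → A₀.map (MulAut.conj n).toMonoidHom ≤ A ∧
      sigmaCore M ⊓ Subgroup.centralizer
        ((A₀.map (MulAut.conj n).toMonoidHom : Subgroup G) : Set G) = ⊥ := by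
    intro n hn hnM
    constructor
    · rintro _ ⟨a, ha, rfl⟩
      show n * a * n⁻¹ ∈ A
      have haP : a ∈ (P : Subgroup M).map M.subtype := hAP (hA₀A ha)
      have h1 : n * a * n⁻¹ ∈ (P : Subgroup M).map M.subtype :=
        (Subgroup.mem_normalizer_iff.mp hn a).mp haP
      refine (hOmega P hAP _ h1).mp ?_
      rw [conj_pow, hAel.2 a (hA₀A ha)]; group
    · refine (h2 M p A₀ A hE n hnM ?_).2
      intro a ha
      rw [Cfsg.Agent.Lib.helper36.bgx_mem_map_conj]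
      have haP : a ∈ (P : Subgroup M).map M.subtype := hAP ha
      have h1 := (Subgroup.mem_normalizer_iff.mp (Subgroup.inv_mem _ hn) a).mp haP
      rw [inv_inv] at h1
      exact Subgroup.map_subtype_le _ h1
  obtain ⟨h1A, h1f⟩ := key g hgN hgM
  obtain ⟨h2A, h2f⟩ := key (g * g) hggN hggM
  refine ⟨hOmega, ?_, A₀.map (MulAut.conj g).toMonoidHom,
    A₀.map (MulAut.conj (g * g)).toMonoidHom, h1A, h2A, ?_, ?_, ?_, h1f, h2f⟩
  · rw [eq_bot_iff, ← h1f]
    exact inf_le_inf_left _ (Subgroup.centralizer_le (SetLike.coe_subset_coe.mpr h1A))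
  · rw [Subgroup.card_map_of_injective (MulAut.conj g).injective, hA₀p]
  · rw [Subgroup.card_map_of_injective (MulAut.conj (g * g)).injective, hA₀p]
  · intro heq
    rw [← Cfsg.Agent.Lib.helper13.sf_map_conj_mul A₀ g g] at heq
    have h3 : A₀ = A₀.map (MulAut.conj g).toMonoidHom :=
      Subgroup.map_injective (MulAut.conj g).injective heq
    exact hgM (hNA₀ (Subgroup.mem_normalizer_iff_map_conj_eq.mpr h3.symm))

/-- Core of B-G 11.5: a `p`-subgroup `P'` of `M` containing `A` with `N_G(P') ⊄ M` is abelian. -/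
theorem p11_5_core [Finite G] (hG : IsMinSimpleOddOrder G) (hP0 : PP0 G) (h2 : P11_2 G)
    (h3 : P11_3 G) (h4 : P11_4 G) {M : Subgroup G} {p : ℕ} [Fact p.Prime] {A₀ A : Subgroup G}
    (hE : Exc M p A₀ A) (P' : Subgroup G) (hP'M : P' ≤ M) (hP'p : IsPGroup p P') (hAP : A ≤ P')
    (hNP : ¬ Subgroup.normalizer (P' : Set G) ≤ M)
    (hnab : ¬ ∀ x ∈ P', ∀ y ∈ P', x * y = y * x) : False := by
  have hmax := exc_max hG hE
  obtain ⟨hM, hp, hpσ, hAM, hAel, hA2, hA₀A, hA₀p, hNA₀⟩ := id hE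
  obtain ⟨hodd, hsimple, hnc, hsolv⟩ := id hG
  haveI := hsimple
  have hU : Cfsg.Agent.Lib.helper8.BGUniqHyp G :=
    fun K hK h1 h2 => Cfsg.Agent.S1403.result hG K hK h1 h2
  have hF : Cfsg.Agent.Lib.helper8.BGFusHyp G := by
    intro M hM p hp X hXp hX1 hXM g hg
    have : Fact p.Prime := ⟨hp.1⟩
    exact (Cfsg.Agent.S1404.result hG M hM p hp X hXp hX1 hXM).1 g hg
  obtain ⟨Z, hZA, hZp, hZc, hZchar, -⟩ := hP0 p A P' hAel hA2 hmax hP'p hAP hnab
  have hZP : Z ≤ P' := hZA.trans hAP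
  have hZpow : ∀ z ∈ Z, z ^ p = 1 := fun z hz => pow_card_of_mem hZp hz
  have hNZ : Subgroup.normalizer (P' : Set G) ≤ Subgroup.normalizer (Z : Set G) :=
    normalizer_le_of_char hZP hZc hZpow hZchar
  have hA₀Z : A₀ ≠ Z := by
    intro h
    exact hNP (hNZ.trans (h ▸ hNA₀))
  obtain ⟨g, hgN, hgM⟩ := SetLike.not_le_iff_exists.mp hNP
  have hA'el := isElementaryAbelian_map_conj hAel g
  have hA'2 : Nat.card (A.map (MulAut.conj g).toMonoidHom) = p ^ 2 := by
    rw [Subgroup.card_map_of_injective (MulAut.conj g).injective, hA2]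
  have hA'max := max_map_conj hmax g
  have hA'P : A.map (MulAut.conj g).toMonoidHom ≤ P' := by
    rintro _ ⟨a, ha, rfl⟩
    exact (Subgroup.mem_normalizer_iff.mp hgN a).mp (hAP ha)
  obtain ⟨Z', hZ'A, hZ'p, hZ'c, hZ'char, hZ'tr⟩ :=
    hP0 p _ P' hA'el hA'2 hA'max hP'p hA'P hnab
  have hZ'Z : Z' = Z := by
    apply Subgroup.eq_of_le_of_card_ge
    · intro x hx
      exact hZchar x (hA'P (hZ'A hx)) (hZ'c hx) (pow_card_of_mem hZ'p hx)
    · rw [hZ'p, hZp]
  rw [hZ'Z] at hZ'tr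
  have hA₀'A' : A₀.map (MulAut.conj g).toMonoidHom ≤ A.map (MulAut.conj g).toMonoidHom :=
    Subgroup.map_mono hA₀A
  have hA₀'p : Nat.card (A₀.map (MulAut.conj g).toMonoidHom) = p := by
    rw [Subgroup.card_map_of_injective (MulAut.conj g).injective, hA₀p]
  have hA₀'Z : A₀.map (MulAut.conj g).toMonoidHom ≠ Z := by
    intro h
    have h1 : Z.map (MulAut.conj g).toMonoidHom = Z :=
      Subgroup.mem_normalizer_iff_map_conj_eq.mp (hNZ hgN)
    rw [← h1] at h
    exact hA₀Z (Subgroup.map_injective (MulAut.conj g).injective h)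
  have hAMg : A ≤ M.map (MulAut.conj g).toMonoidHom := by
    intro a ha
    rw [Cfsg.Agent.Lib.helper36.bgx_mem_map_conj]
    have h1 := (Subgroup.mem_normalizer_iff.mp (Subgroup.inv_mem _ hgN) a).mp (hAP ha)
    rw [inv_inv] at h1
    exact hP'M h1
  have hfpf : sigmaCore M ⊓ Subgroup.centralizer
      ((A₀.map (MulAut.conj g).toMonoidHom : Subgroup G) : Set G) = ⊥ :=
    (h2 M p A₀ A hE g hgM hAMg).2
  have hnMs := Cfsg.Agent.Lib.helper71.BGA.le_normalizer_sigmaCore M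
  -- every subgroup of order `p` of `gAg⁻¹` other than `Z` acts fixed-point-freely on `M_σ`
  have hfpf' : ∀ X' : Subgroup G, X' ≤ A.map (MulAut.conj g).toMonoidHom → Nat.card X' = p →
      X' ≠ Z → sigmaCore M ⊓ Subgroup.centralizer (X' : Set G) = ⊥ := by
    intro X' hX'A hX'p hX'Z
    obtain ⟨y, hyP, -, hy⟩ := hZ'tr _ X' hA₀'A' hX'A hA₀'p hX'p hA₀'Z hX'Z
    rw [eq_bot_iff]
    intro s hs
    rw [Subgroup.mem_bot]
    obtain ⟨hsM, hsC⟩ := hs
    have hyM : y ∈ M := hP'M hyP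
    have h1 : y⁻¹ * s * y ∈ sigmaCore M := by
      have h0 := (Subgroup.mem_normalizer_iff.mp (Subgroup.inv_mem _ (hnMs hyM)) s).mp hsM
      rwa [inv_inv] at h0
    have h2' : y⁻¹ * s * y ∈ Subgroup.centralizer
        ((A₀.map (MulAut.conj g).toMonoidHom : Subgroup G) : Set G) := by
      rw [Subgroup.mem_centralizer_iff]
      intro a ha
      have h3 : y * a * y⁻¹ ∈ X' := by
        rw [hy]; exact Cfsg.Agent.Lib.helper36.bgx_conj_mem_map ha
      have h4 : y * a * y⁻¹ * s = s * (y * a * y⁻¹) := Subgroup.mem_centralizer_iff.mp hsC _ h3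
      calc a * (y⁻¹ * s * y) = y⁻¹ * (y * a * y⁻¹ * s) * y := by group
        _ = y⁻¹ * (s * (y * a * y⁻¹)) * y := by rw [h4]
        _ = y⁻¹ * s * y * a := by group
    have h5 : y⁻¹ * s * y ∈ sigmaCore M ⊓ Subgroup.centralizer
        ((A₀.map (MulAut.conj g).toMonoidHom : Subgroup G) : Set G) := ⟨h1, h2'⟩
    rw [hfpf, Subgroup.mem_bot] at h5
    calc s = y * (y⁻¹ * s * y) * y⁻¹ := by group
      _ = 1 := by rw [h5]; group
  -- coprime generation: `M_σ` centralizes `Z`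
  have hMsZ : sigmaCore M ≤ Subgroup.centralizer (Z : Set G) := by
    haveI : IsMulCommutative (A.map (MulAut.conj g).toMonoidHom) := hA'el.1
    have hncyc : ¬ IsCyclic (A.map (MulAut.conj g).toMonoidHom) :=
      not_isCyclic_of_elementary hp hA'el hA'2
    have hnorm : A.map (MulAut.conj g).toMonoidHom ≤
        Subgroup.normalizer (sigmaCore M : Set G) := (hA'P.trans hP'M).trans hnMs
    have hcop : (Nat.card (A.map (MulAut.conj g).toMonoidHom)).Coprime
        (Nat.card (sigmaCore M)) := by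
      rw [hA'2]
      exact Nat.Coprime.pow_left 2
        (Cfsg.Agent.Lib.helper8.bg_sigmaCore_card_coprime M hp hpσ).symm
    have hgen := Cfsg.Agent.S0058.result _ (sigmaCore M) hncyc hnorm hcop
    refine le_trans (le_of_eq hgen.symm) (iSup₂_le ?_)
    intro a ha
    obtain ⟨haA', ha1⟩ := ha
    by_cases hXZ : Subgroup.zpowers a = Z
    · intro s hs
      rw [Subgroup.mem_centralizer_iff]
      intro z hz
      rw [← hXZ] at hz
      obtain ⟨k, rfl⟩ := Subgroup.mem_zpowers_iff.mp hz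
      have hsa : Commute a s := Subgroup.mem_centralizer_iff.mp hs.2 a rfl
      exact (Commute.zpow_left hsa k).eq
    · have hord : orderOf a = p := orderOf_eq_prime (hA'el.2 a haA') ha1
      have hXp : Nat.card (Subgroup.zpowers a) = p := by rw [Nat.card_zpowers, hord]
      have h6 := hfpf' (Subgroup.zpowers a) ((Subgroup.zpowers_le).mpr haA') hXp hXZ
      intro s hs
      have h7 : s ∈ sigmaCore M ⊓
          Subgroup.centralizer ((Subgroup.zpowers a : Subgroup G) : Set G) := by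
        refine Subgroup.mem_inf.mpr ⟨hs.1, ?_⟩
        rw [Subgroup.mem_centralizer_iff]
        intro z hz
        obtain ⟨k, rfl⟩ := Subgroup.mem_zpowers_iff.mp hz
        have hsa : Commute a s := Subgroup.mem_centralizer_iff.mp hs.2 a rfl
        exact (Commute.zpow_left hsa k).eq
      rw [h6, Subgroup.mem_bot] at h7
      rw [h7]; exact Subgroup.one_mem _
  -- a maximal subgroup `H ≠ M` over `N_G(Z)`
  have hZ1 : Z ≠ ⊥ := by
    intro h
    rw [h, Subgroup.card_bot] at hZp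
    exact hp.one_lt.ne hZp
  have hZtop : Z ≠ ⊤ := Cfsg.Agent.Lib.helper36.bgu_pgroup_ne_top hnc
    (IsPGroup.of_card (n := 1) (by rw [hZp, pow_one]))
  have hNZtop := Cfsg.Agent.Lib.helper29.normalizer_ne_top_of_simple hZ1 hZtop
  obtain ⟨H, hH, hNH⟩ := Cfsg.Agent.Lib.helper36.bgu_exists_coatom hNZtop
  have hgH : g ∈ H := hNH (hNZ hgN)
  have hHM : H ≠ M := fun h => hgM (h ▸ hgH)
  have hP'H : P' ≤ H := (Subgroup.le_normalizer.trans hNZ).trans hNH
  have hAH : A ≤ H := hAP.trans hP'H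
  have hMsH : sigmaCore M ≤ H :=
    (hMsZ.trans (Subgroup.centralizer_le_normalizer (Z : Set G))).trans hNH
  -- `p ∈ σ(H)`
  have hpH : p ∈ sigma H := by
    obtain ⟨PH, hPH⟩ := exc_exists_sylow hP'H hP'p
    have hPHp : IsPGroup p ((PH : Subgroup H).map H.subtype) := PH.isPGroup'.map _
    have hnabH : ¬ ∀ x ∈ (PH : Subgroup H).map H.subtype,
        ∀ y ∈ (PH : Subgroup H).map H.subtype, x * y = y * x :=
      fun h => hnab (fun x hx y hy => h x (hPH hx) y (hPH hy))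
    obtain ⟨ZH, hZHA, hZHp, hZHc, hZHchar, -⟩ :=
      hP0 p A _ hAel hA2 hmax hPHp (hAP.trans hPH) hnabH
    have hZHZ : ZH = Z := by
      apply Subgroup.eq_of_le_of_card_ge
      · intro x hx
        refine hZchar x (hAP (hZHA hx)) ?_ (pow_card_of_mem hZHp hx)
        exact Subgroup.centralizer_le (SetLike.coe_subset_coe.mpr hPH) (hZHc hx)
      · rw [hZHp, hZp]
    have hN : Subgroup.normalizer (((PH : Subgroup H).map H.subtype : Subgroup G) : Set G) ≤
        Subgroup.normalizer (ZH : Set G) :=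
      normalizer_le_of_char ((hZHA.trans hAP).trans hPH) hZHc
        (fun z hz => pow_card_of_mem hZHp hz) hZHchar
    rw [hZHZ] at hN
    refine ⟨hp, ?_, PH, hN.trans hNH⟩
    have h1 : Nat.card A ∣ Nat.card H := Subgroup.card_dvd_of_le hAH
    rw [hA2] at h1
    exact (dvd_pow_self p (by norm_num)).trans h1
  have hP'σ : P' ≤ sigmaCore H :=
    Cfsg.Agent.Lib.helper8.bg_pgroup_le_sigmaCore hG hU hF H hH hpH P' hP'H hP'p
  have hσσ : sigmaCore H ⊓ sigmaCore M = ⊥ := by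
    by_contra hne
    exact hHM (h4 M p A₀ A hE H hH hAH hne)
  have hnH := Cfsg.Agent.Lib.helper71.BGA.le_normalizer_sigmaCore H
  -- `M_σ` centralizes `P'`
  have hcent : ∀ s ∈ sigmaCore M, ∀ y ∈ P', s * y = y * s := by
    intro s hs y hy
    have h1 : s * y * s⁻¹ * y⁻¹ ∈ sigmaCore H := by
      have h0 : s * y * s⁻¹ ∈ sigmaCore H :=
        (Subgroup.mem_normalizer_iff.mp (hnH (hMsH hs)) y).mp (hP'σ hy)
      exact Subgroup.mul_mem _ h0 (Subgroup.inv_mem _ (hP'σ hy))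
    have h2' : s * y * s⁻¹ * y⁻¹ ∈ sigmaCore M := by
      have h0 : y * s⁻¹ * y⁻¹ ∈ sigmaCore M :=
        (Subgroup.mem_normalizer_iff.mp (hnMs (hP'M hy)) s⁻¹).mp (Subgroup.inv_mem _ hs)
      have h3' : s * y * s⁻¹ * y⁻¹ = s * (y * s⁻¹ * y⁻¹) := by group
      rw [h3']; exact Subgroup.mul_mem _ hs h0
    have h4' : s * y * s⁻¹ * y⁻¹ ∈ sigmaCore H ⊓ sigmaCore M := ⟨h1, h2'⟩
    rw [hσσ, Subgroup.mem_bot] at h4'
    calc s * y = (s * y * s⁻¹ * y⁻¹) * (y * s) := by group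
      _ = y * s := by rw [h4', one_mul]
  have hbot : sigmaCore M = ⊥ := by
    rw [eq_bot_iff, ← hfpf]
    intro s hs
    refine Subgroup.mem_inf.mpr ⟨hs, ?_⟩
    rw [Subgroup.mem_centralizer_iff]
    intro a ha
    exact (hcent s hs a (hA'P (hA₀'A' ha))).symm
  exact (h3 M p A₀ A hE).2 hbot

/-- B-G 11.5 from (P0), 11.2, 11.3 and (weak) 11.4. -/
theorem p11_5_of [Finite G] (hG : IsMinSimpleOddOrder G) (hP0 : PP0 G) (h2 : P11_2 G)
    (h3 : P11_3 G) (h4 : P11_4 G) : P11_5 G := by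
  intro M p _ A₀ A hE
  obtain ⟨hM, hp, hpσ, hAM, hAel, hA2, hA₀A, hA₀p, hNA₀⟩ := id hE
  have hAp : IsPGroup p A := IsPGroup.of_card hA2
  have hpM : p ∣ Nat.card M := by
    have h1 : Nat.card A ∣ Nat.card M := Subgroup.card_dvd_of_le hAM
    rw [hA2] at h1
    exact (dvd_pow_self p (by norm_num)).trans h1
  have key : ∀ P : Sylow p M, A ≤ (P : Subgroup M).map M.subtype →
      ∀ x ∈ (P : Subgroup M).map M.subtype, ∀ y ∈ (P : Subgroup M).map M.subtype,
        x * y = y * x := by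
    intro P hAP
    by_contra hnab
    exact p11_5_core hG hP0 h2 h3 h4 hE _ (Subgroup.map_subtype_le _) (P.isPGroup'.map _) hAP
      (fun hN => hpσ ⟨hp, hpM, P, hN⟩) hnab
  intro P
  obtain ⟨P₁, hAP₁⟩ := exc_exists_sylow hAM hAp
  obtain ⟨m, hm⟩ := MulAction.exists_smul_eq M P₁ P
  subst hm
  have hk := key P₁ hAP₁
  refine ⟨⟨?_⟩⟩
  rintro ⟨a, ha⟩ ⟨b, hb⟩
  apply Subtype.ext
  rw [Sylow.coe_subgroup_smul, mem_conj_smul_iff] at ha hb
  have h1 := hk _ ⟨_, ha, rfl⟩ _ ⟨_, hb, rfl⟩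
  have h2' : (m⁻¹ * a * m) * (m⁻¹ * b * m) = (m⁻¹ * b * m) * (m⁻¹ * a * m) :=
    M.subtype_injective (by simpa only [map_mul] using h1)
  show a * b = b * a
  calc a * b = m * ((m⁻¹ * a * m) * (m⁻¹ * b * m)) * m⁻¹ := by group
    _ = m * ((m⁻¹ * b * m) * (m⁻¹ * a * m)) * m⁻¹ := by rw [h2']
    _ = b * a := by group

end Cfsg.Agent.Lib.helper12
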