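/-
S1430 (O-c), PIECE K2 of `tools/S1430_OC_Skel.lean.txt`: `t3_tau1 : HTau1 G`.

In the `τ₃` context (`R ≤ E` of order `r ∈ τ₃(M)`), if some `P ≤ E` of order `p ∈ τ₁(M)` does not
centralize `R`, then `p` is the only prime of `τ₁(M)` dividing `|E|`.

Proof: for `s ∈ τ₁(M)`, `s ≠ p`, take `P' ≤ E` of order `s` commuting with `P`
(`helper87.BGNA.exists_comm_of_tau1`); by S1428 `C_{M_σ}(P) = C_{M_σ}(P')`.  The Frobenius--Wielandt
fixed point formula (`ff_formula`) for the Frobenius groups `R P` (and `R P'`, or S1428 again if `P'`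
centralizes `R`) acting on `M_α` gives `M_α ≤ C(R)`; with `M = M_α (M ∩ H)` (half lemma) this forces
`M ≤ H` for a maximal subgroup `H ≥ N_G(R)`, against S1409.
-/
import Mathlib
import Cfsg.Agent.Lib.helper8.BGT3Defs
import Cfsg.Agent.S1405
import Cfsg.Agent.S1409
import Cfsg.Agent.S1428
import Cfsg.Agent.Lib.helper12.FrobFixB
import Cfsg.Agent.Lib.helper87.BGNAN3
import Cfsg.Agent.Lib.helper54.BGThirteen
import Cfsg.Agent.Lib.helper71.BGTenA

set_option autoImplicit false
open Cfsg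

namespace Cfsg.Agent.Lib.helper12.BGT3

open Cfsg.Agent.Lib.helper8.BGT3

variable {G : Type*} [Group G]

/-- In a subgroup of prime order every element is a power of any non-identity element. -/
theorem mem_zpowers_of_prime_card {P : Subgroup G} {p : ℕ} (hp : p.Prime) (hP : Nat.card P = p)
    {e : G} (he : e ∈ P) (he1 : e ≠ 1) {x : G} (hx : x ∈ P) : x ∈ Subgroup.zpowers e := by
  have : Fact p.Prime := ⟨hp⟩
  have h := zpowers_eq_top_of_prime_card (G := ↥P) hP (g := ⟨e, he⟩)
    (fun h' => he1 (congrArg Subtype.val h'))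
  have hx' : (⟨x, hx⟩ : ↥P) ∈ Subgroup.zpowers (⟨e, he⟩ : ↥P) := by
    rw [h]; exact Subgroup.mem_top _
  obtain ⟨k, hk⟩ := Subgroup.mem_zpowers_iff.mp hx'
  exact Subgroup.mem_zpowers_iff.mpr ⟨k, by simpa using congrArg Subtype.val hk⟩

/-- A subgroup `P` of prime order not centralizing the subgroup `R` of prime order acts
fixed-point-freely on `R`. -/
theorem fpf_of_not_cent {R P : Subgroup G} {r p : ℕ} (hr : r.Prime) (hp : p.Prime)
    (hR : Nat.card R = r) (hP : Nat.card P = p)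
    (hnc : ¬ P ≤ Subgroup.centralizer (R : Set G)) :
    ∀ e ∈ P, e ≠ 1 → ∀ u ∈ R, e * u = u * e → u = 1 := by
  intro e he he1 u hu hcomm
  by_contra hu1
  apply hnc
  intro x hx
  rw [Subgroup.mem_centralizer_iff]
  intro v hv
  obtain ⟨k, rfl⟩ := Subgroup.mem_zpowers_iff.mp (mem_zpowers_of_prime_card hp hP he he1 hx)
  obtain ⟨j, rfl⟩ := Subgroup.mem_zpowers_iff.mp (mem_zpowers_of_prime_card hr hR hu hu1 hv)
  have hc : Commute e u := hcomm
  exact ((hc.zpow_zpow k j).symm).eq

theorem cent_sup (R P : Subgroup G) :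
    Subgroup.centralizer ((R ⊔ P : Subgroup G) : Set G) =
      Subgroup.centralizer (R : Set G) ⊓ Subgroup.centralizer (P : Set G) := by
  apply le_antisymm
  · apply le_inf
    · exact Subgroup.centralizer_le (by exact_mod_cast (le_sup_left : R ≤ R ⊔ P))
    · exact Subgroup.centralizer_le (by exact_mod_cast (le_sup_right : P ≤ R ⊔ P))
  · intro x hx
    obtain ⟨hxR, hxP⟩ := Subgroup.mem_inf.mp hx
    have h1 : R ≤ Subgroup.centralizer ({x} : Set G) := by
      intro v hv
      rw [Subgroup.mem_centralizer_iff]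
      intro y hy
      rw [Set.mem_singleton_iff] at hy
      rw [hy]
      exact (Subgroup.mem_centralizer_iff.mp hxR v hv).symm
    have h2 : P ≤ Subgroup.centralizer ({x} : Set G) := by
      intro v hv
      rw [Subgroup.mem_centralizer_iff]
      intro y hy
      rw [Set.mem_singleton_iff] at hy
      rw [hy]
      exact (Subgroup.mem_centralizer_iff.mp hxP v hv).symm
    have h3 : R ⊔ P ≤ Subgroup.centralizer ({x} : Set G) := sup_le h1 h2
    rw [Subgroup.mem_centralizer_iff]
    intro y hy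
    exact (Subgroup.mem_centralizer_iff.mp (h3 hy) x rfl).symm

theorem ff_arith {a b c n p s : ℕ} (ha : 0 < a) (hc : 0 < c) (hn : 0 < n) (hb : 0 < b)
    (hps : p ≠ s) (h1 : c ^ p * n = a ^ p * b) (h2 : c ^ s * n = a ^ s * b) : n = b := by
  have key : ∀ p s : ℕ, p < s → c ^ p * n = a ^ p * b → c ^ s * n = a ^ s * b → a = c := by
    intro p s hlt h1 h2
    obtain ⟨d, rfl⟩ : ∃ d, s = p + (d + 1) := ⟨s - p - 1, by omega⟩
    have h3 : (c ^ p * a ^ p * (n * b)) * a ^ (d + 1) =
        (c ^ p * a ^ p * (n * b)) * c ^ (d + 1) := by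
      calc (c ^ p * a ^ p * (n * b)) * a ^ (d + 1)
          = (c ^ p * n) * (a ^ (p + (d + 1)) * b) := by ring
        _ = (a ^ p * b) * (c ^ (p + (d + 1)) * n) := by rw [h1, h2]
        _ = (c ^ p * a ^ p * (n * b)) * c ^ (d + 1) := by ring
    have hpos : 0 < c ^ p * a ^ p * (n * b) :=
      Nat.mul_pos (Nat.mul_pos (pow_pos hc p) (pow_pos ha p)) (Nat.mul_pos hn hb)
    have h4 : a ^ (d + 1) = c ^ (d + 1) := Nat.eq_of_mul_eq_mul_left hpos h3
    exact Nat.pow_left_injective (Nat.succ_ne_zero d) h4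
  have hac : a = c := by
    rcases Nat.lt_or_gt_of_ne hps with h | h
    · exact key p s h h1 h2
    · exact key s p h h2 h1
  rw [hac] at h1
  exact Nat.eq_of_mul_eq_mul_left (pow_pos hc p) h1

/-- PIECE K2. -/
theorem t3_tau1 [Finite G] (hG : IsMinSimpleOddOrder G) (hN : HNorm G) (hHf : HHalf G) :
    HTau1 G := by
  intro M E R r hctx p P hp hPE hPc hPR s hs _hsE
  by_contra hsp
  obtain ⟨hM, hE, hr3, hRE, hRc⟩ := id hctx
  obtain ⟨-, hsimple, -, hsolvG⟩ := id hG
  have hrp : r.Prime := hr3.1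
  have hpp : p.Prime := hp.1
  have hsp' : s.Prime := hs.1
  have : Fact r.Prime := ⟨hrp⟩
  have hEM : E ≤ M := hE.1
  obtain ⟨hEN, -⟩ := hN M E R r hctx
  -- a maximal subgroup `H` over `N_G(R)`
  have hR1 : R ≠ ⊥ := by
    intro h
    rw [h, Subgroup.card_bot] at hRc
    exact hrp.one_lt.ne hRc
  have hNtop : Subgroup.normalizer (R : Set G) ≠ ⊤ := by
    intro h
    have := hsimple
    have hXn : R.Normal := Subgroup.normalizer_eq_top_iff.mp h
    rcases hXn.eq_bot_or_eq_top with h1 | h1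
    · exact hR1 h1
    · apply hM.1
      rw [eq_top_iff, ← h1]
      exact hRE.trans hEM
  obtain ⟨H, hH, hNH⟩ := (eq_top_or_exists_le_coatom _).resolve_left hNtop
  -- `M ≰ H`
  have hHM : ¬ M ≤ H := by
    intro hle
    have hMH : H = M := (hM.le_iff_eq hH.1).mp hle
    have hNM : Subgroup.normalizer (R : Set G) ≤ M := by rw [← hMH]; exact hNH
    have h9 := (Cfsg.Agent.S1409.result hG M hM r hr3.2.1 R hRc hNM).1
    exact h9.2 hr3.2.2.2
  obtain ⟨-, -, hfact, -, -⟩ := hHf M E R r hctx H hH hNH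
  -- `P' = ⟨y⟩` of order `s` commuting with `P`
  obtain ⟨y, hyE, hyo, hyP⟩ := Cfsg.Agent.Lib.helper87.BGNA.exists_comm_of_tau1 hG M hM E hE p hp
    P hPE hPc s hs hsp
  have hP'E : Subgroup.zpowers y ≤ E := Subgroup.zpowers_le.mpr hyE
  have hP'c : Nat.card (Subgroup.zpowers y) = s := by rw [Nat.card_zpowers, hyo]
  have hP'P : Subgroup.zpowers y ≤ Subgroup.centralizer (P : Set G) := by
    rw [Subgroup.zpowers_le, Subgroup.mem_centralizer_iff]
    exact hyP
  have hPP' : P ≤ Subgroup.centralizer ((Subgroup.zpowers y : Subgroup G) : Set G) :=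
    Subgroup.le_centralizer_iff.mp hP'P
  have h28a := Cfsg.Agent.S1428.result hG M hM E hE p hp P hPE hPc (Subgroup.zpowers y)
    (le_inf hP'E hP'P) (by rw [hP'c]; exact hsp')
  have h28b := Cfsg.Agent.S1428.result hG M hM E hE s hs (Subgroup.zpowers y) hP'E hP'c P
    (le_inf hPE hPP') (by rw [hPc]; exact hpp)
  -- `N = M_α`
  obtain ⟨-, -, hNσ, -, -⟩ := Cfsg.Agent.S1405.result hG M hM
  have hNn : ∀ x ∈ M, ∀ h ∈ alphaCore M, x * h * x⁻¹ ∈ alphaCore M :=
    Subgroup.le_normalizer_iff.mp (Cfsg.Agent.Lib.helper71.BGA.le_normalizer_alphaCore M)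
  have hNM : alphaCore M ≤ M := hNσ.trans hE.2.1
  have hNsolv : Group.IsSolvable ↥(alphaCore M) := by
    have h1 : Group.IsSolvable ↥M := hsolvG M hM.1
    exact Group.isSolvable_of_isSolvable_injective (Subgroup.inclusion_injective hNM)
  have hcopE : (Nat.card ↥(alphaCore M)).Coprime (Nat.card E) :=
    Nat.Coprime.coprime_dvd_left (Subgroup.card_dvd_of_le hNσ)
      (Cfsg.Agent.Lib.helper54.compl_card_coprime hG M hM E hE).symm
  have hNP : alphaCore M ⊓ Subgroup.centralizer (P : Set G) =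
      alphaCore M ⊓ Subgroup.centralizer ((Subgroup.zpowers y : Subgroup G) : Set G) := by
    apply le_antisymm
    · intro x hx
      obtain ⟨hx1, hx2⟩ := Subgroup.mem_inf.mp hx
      exact Subgroup.mem_inf.mpr
        ⟨hx1, (Subgroup.mem_inf.mp (h28a (Subgroup.mem_inf.mpr ⟨hNσ hx1, hx2⟩))).2⟩
    · intro x hx
      obtain ⟨hx1, hx2⟩ := Subgroup.mem_inf.mp hx
      exact Subgroup.mem_inf.mpr
        ⟨hx1, (Subgroup.mem_inf.mp (h28b (Subgroup.mem_inf.mpr ⟨hNσ hx1, hx2⟩))).2⟩
  -- the fixed point formula for `R P` on `M_α`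
  have hP1 : P ≠ ⊥ := by
    intro h
    rw [h, Subgroup.card_bot] at hPc
    exact hpp.one_lt.ne hPc
  have hRn : ∀ e ∈ E, ∀ u ∈ R, e * u * e⁻¹ ∈ R := Subgroup.le_normalizer_iff.mp hEN
  have hsupRP : R ⊔ P ≤ E := sup_le hRE hPE
  have ffP := Cfsg.Agent.Lib.helper12.ff_formula R P (alphaCore M) hP1
    (fun e he u hu => hRn e (hPE he) u hu) (fpf_of_not_cent hrp hpp hRc hPc hPR)
    (fun x hx h hh => hNn x (hEM (hsupRP hx)) h hh) hNsolv
    (Nat.Coprime.coprime_dvd_right (Subgroup.card_dvd_of_le hsupRP) hcopE)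
  rw [cent_sup, hPc] at ffP
  have hnb : Nat.card ↥(alphaCore M) =
      Nat.card ↥(alphaCore M ⊓ Subgroup.centralizer (R : Set G)) := by
    by_cases hc : Subgroup.zpowers y ≤ Subgroup.centralizer (R : Set G)
    · have hRP' : R ≤ Subgroup.centralizer ((Subgroup.zpowers y : Subgroup G) : Set G) :=
        Subgroup.le_centralizer_iff.mp hc
      have h28c := Cfsg.Agent.S1428.result hG M hM E hE s hs (Subgroup.zpowers y) hP'E hP'c R
        (le_inf hRE hRP') (by rw [hRc]; exact hrp)
      have hsub : alphaCore M ⊓ Subgroup.centralizer (P : Set G) ≤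
          Subgroup.centralizer (R : Set G) := by
        intro x hx
        obtain ⟨hx1, hx2⟩ := Subgroup.mem_inf.mp hx
        exact (Subgroup.mem_inf.mp (h28c (h28a (Subgroup.mem_inf.mpr ⟨hNσ hx1, hx2⟩)))).2
      have heq : alphaCore M ⊓ (Subgroup.centralizer (R : Set G) ⊓
          Subgroup.centralizer (P : Set G)) = alphaCore M ⊓ Subgroup.centralizer (P : Set G) := by
        apply le_antisymm
        · exact inf_le_inf_left _ inf_le_right
        · exact le_inf inf_le_left (le_inf hsub inf_le_right)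
      rw [heq] at ffP
      exact Nat.eq_of_mul_eq_mul_left (pow_pos Nat.card_pos p) ffP
    · have hP'1 : Subgroup.zpowers y ≠ ⊥ := by
        intro h
        rw [h, Subgroup.card_bot] at hP'c
        exact hsp'.one_lt.ne hP'c
      have hsupRP' : R ⊔ Subgroup.zpowers y ≤ E := sup_le hRE hP'E
      have ffP' := Cfsg.Agent.Lib.helper12.ff_formula R (Subgroup.zpowers y) (alphaCore M) hP'1
        (fun e he u hu => hRn e (hP'E he) u hu) (fpf_of_not_cent hrp hsp' hRc hP'c hc)
        (fun x hx h hh => hNn x (hEM (hsupRP' hx)) h hh) hNsolv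
        (Nat.Coprime.coprime_dvd_right (Subgroup.card_dvd_of_le hsupRP') hcopE)
      rw [cent_sup, hP'c, ← hNP] at ffP'
      have heq : alphaCore M ⊓ (Subgroup.centralizer (R : Set G) ⊓
          Subgroup.centralizer ((Subgroup.zpowers y : Subgroup G) : Set G)) =
          alphaCore M ⊓ (Subgroup.centralizer (R : Set G) ⊓
            Subgroup.centralizer (P : Set G)) := by
        have e1 : ∀ A B C : Subgroup G, A ⊓ (B ⊓ C) = (A ⊓ C) ⊓ B := by
          intro A B C
          rw [inf_comm B C, ← inf_assoc]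
        rw [e1, e1 _ _ (Subgroup.centralizer (P : Set G)), hNP]
      rw [heq] at ffP'
      exact ff_arith Nat.card_pos Nat.card_pos Nat.card_pos Nat.card_pos
        (fun h => hsp h.symm) ffP ffP'
  -- so `M_α ≤ C(R) ≤ H` and `M ≤ H`
  have hNR : alphaCore M ≤ Subgroup.centralizer (R : Set G) := by
    have h1 : alphaCore M ⊓ Subgroup.centralizer (R : Set G) = alphaCore M :=
      Subgroup.eq_of_le_of_card_ge inf_le_left (le_of_eq hnb)
    intro x hx
    have h2 : x ∈ alphaCore M ⊓ Subgroup.centralizer (R : Set G) := by rw [h1]; exact hx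
    exact (Subgroup.mem_inf.mp h2).2
  apply hHM
  intro m hm
  obtain ⟨a, ha, d, hd, rfl⟩ := hfact m hm
  exact H.mul_mem (((Subgroup.centralizer_le_normalizer _).trans hNH) (hNR ha))
    (Subgroup.mem_inf.mp hd).2

end Cfsg.Agent.Lib.helper12.BGT3
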