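/-
Bender-Glauberman, towards Theorem 14.2 (statement S1430), step (O-c).

`tau12_regular`: the core of `helper71.regHyp_of_na` (B-G 13.12-type regularity): under `NAHyp`, an
element `x` of order `p ∈ τ₁(M)` of a complement `E` of `M_σ` which centralizes a non-identity
element of `M_σ` commutes with no element of `E` of prime order in `τ₂(M)`.

`tau1_cent_le_comm` (Theorem T): `H` maximal, `F` a complement of `H_σ`, `P ≤ F` of order
`p ∈ τ₁(H)`, `r ∈ σ(H) \ β(H)`; then every `r`-element of `C_{H_σ}(P)` lies in `[H_σ, H_σ]`.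
-/
import Mathlib
import Cfsg.Agent.S1403
import Cfsg.Agent.S1404
import Cfsg.Agent.S1414
import Cfsg.Agent.S1417
import Cfsg.Agent.S1418
import Cfsg.Agent.S1419
import Cfsg.Agent.S1427
import Cfsg.Agent.S1428
import Cfsg.Agent.Lib.helper71.BGRegNA
import Cfsg.Agent.Lib.helper1.Coprime
import Cfsg.Agent.Lib.helper54.BGThirteen
import Cfsg.Agent.Lib.helper74.CG6
import Cfsg.Agent.Lib.helper97.BGEight1

set_option autoImplicit false
open Cfsg

namespace Cfsg.Agent.Lib.helper12.BGT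

open Cfsg.Agent.Lib.helper8 Cfsg.Agent.Lib.helper97 Cfsg.Agent.Lib.helper71.BGRegNA

variable {G : Type*} [Group G]

/-- Under `NAHyp`: an element `x` of `E` of order in `τ₁(M)` centralizing a non-identity element
of `M_σ` does not commute with any element `y` of `E` of prime order in `τ₂(M)`. -/
theorem tau12_regular [Finite G] (hG : IsMinSimpleOddOrder G) (hNA : NAHyp G) (M : Subgroup G)
    (hM : IsCoatom M) (E : Subgroup G) (hE : IsComplIn E (sigmaCore M) M) (x : G) (hxE : x ∈ E)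
    (hpτ : orderOf x ∈ tau1 M) (c : G) (hcσ : c ∈ sigmaCore M) (hc1 : c ≠ 1)
    (hxc : x * c = c * x) (y : G) (hyE : y ∈ E) (hyp : (orderOf y).Prime)
    (hrτ : orderOf y ∈ tau2 M) (hxy : x * y = y * x) : False := by
  have hPE : Subgroup.zpowers x ≤ E := Subgroup.zpowers_le.mpr hxE
  have hRE : Subgroup.zpowers y ≤ E := Subgroup.zpowers_le.mpr hyE
  have hcP : c ∈ sigmaCore M ⊓ Subgroup.centralizer ((Subgroup.zpowers x : Subgroup G) : Set G) :=
    Subgroup.mem_inf.mpr ⟨hcσ, mem_cent_zpowers.mpr hxc⟩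
  have hY : sigmaCore M ⊓ Subgroup.centralizer ((Subgroup.zpowers x : Subgroup G) : Set G) ≠ ⊥ := by
    intro h
    rw [h] at hcP
    exact hc1 (Subgroup.mem_bot.mp hcP)
  -- S1428 for prime order subgroups of `E` centralizing `x`
  have h28 : ∀ a : G, a ∈ E → (orderOf a).Prime → x * a = a * x → a * c = c * a := by
    intro a haE hap hxa
    have hR : Subgroup.zpowers a ≤
        E ⊓ Subgroup.centralizer ((Subgroup.zpowers x : Subgroup G) : Set G) := by
      rw [Subgroup.zpowers_le]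
      exact Subgroup.mem_inf.mpr ⟨haE, mem_cent_zpowers.mpr hxa⟩
    have h := Cfsg.Agent.S1428.result hG M hM E hE (orderOf x) hpτ (Subgroup.zpowers x) hPE
      (Nat.card_zpowers x) (Subgroup.zpowers a) hR (by rw [Nat.card_zpowers]; exact hap)
    exact mem_cent_zpowers.mp (Subgroup.mem_inf.mp (h hcP)).2
  have hyc : y * c = c * y := h28 y hyE hyp hxy
  have : Fact (orderOf y).Prime := ⟨hyp⟩
  have hy1 : y ≠ 1 := by
    rintro rfl
    rw [orderOf_one] at hyp
    exact Nat.not_prime_one hyp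
  obtain ⟨A, hAE, hAe, hAc⟩ := bg7_exists_elemAb_compl M E hE (orderOf y) hrτ
  obtain ⟨⟨hEA, hsub⟩, ⟨-, -, hNA'⟩, huniq⟩ :=
    Cfsg.Agent.S1418.result hG M hM E hE (orderOf y) hrτ A ⟨hAE, hAe, hAc⟩
  have hRA : Subgroup.zpowers y ≤ A := hsub _ hRE (Nat.card_zpowers y)
  have hyA : y ∈ A := hRA (Subgroup.mem_zpowers y)
  have hRσ : sigmaCore M ⊓ Subgroup.centralizer ((Subgroup.zpowers y : Subgroup G) : Set G) ≠ ⊥ := by
    intro h
    have h1 : c ∈ sigmaCore M ⊓ Subgroup.centralizer ((Subgroup.zpowers y : Subgroup G) : Set G) :=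
      Subgroup.mem_inf.mpr ⟨hcσ, mem_cent_zpowers.mpr hyc⟩
    rw [h] at h1
    exact hc1 (Subgroup.mem_bot.mp h1)
  obtain ⟨-, hRu⟩ := huniq _ hRA (Nat.card_zpowers y) hRσ
  have hR1 : Subgroup.zpowers y ≠ ⊥ := by
    intro h
    have h1 : y ∈ (⊥ : Subgroup G) := h ▸ Subgroup.mem_zpowers y
    exact hy1 (Subgroup.mem_bot.mp h1)
  have hNR : Subgroup.normalizer ((Subgroup.zpowers y : Subgroup G) : Set G) ≤ M :=
    normalizer_le_of_uniq hG M _ hM (hRE.trans hE.1) hR1 hRu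
  have hAel := (bg_elemAb_iff A).mp hAe
  -- `x` does not centralize `A`
  have hCA : sigmaCore M ⊓ Subgroup.centralizer (A : Set G) = ⊥ :=
    (Cfsg.Agent.S1417.result hG M hM (orderOf y) hrτ A ⟨hAE.trans hE.1, hAe, hAc⟩).2.2.2.1
  have hxA : ¬ ∀ a ∈ A, x * a = a * x := by
    intro h
    have h1 : c ∈ sigmaCore M ⊓ Subgroup.centralizer (A : Set G) := by
      refine Subgroup.mem_inf.mpr ⟨hcσ, ?_⟩
      rw [Subgroup.mem_centralizer_iff]
      intro a ha
      by_cases ha1 : a = 1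
      · rw [ha1, one_mul, mul_one]
      · have hao : orderOf a = orderOf y :=
          orderOf_eq_prime (hAel.2 a ha) ha1
        exact h28 a (hAE ha) (by rw [hao]; exact hyp) (h a ha)
    rw [hCA] at h1
    exact hc1 (Subgroup.mem_bot.mp h1)
  -- `C_A(x) = ⟨y⟩`
  have hRD : Subgroup.zpowers y ≤ A ⊓ Subgroup.centralizer ({x} : Set G) := by
    rw [Subgroup.zpowers_le]
    exact Subgroup.mem_inf.mpr ⟨hyA, Cfsg.Agent.Lib.helper87.BG142.mem_cent_singleton.mpr hxy⟩
  have hDA : A ⊓ Subgroup.centralizer ({x} : Set G) ≠ A := by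
    intro h
    apply hxA
    intro a ha
    have h1 : a ∈ A ⊓ Subgroup.centralizer ({x} : Set G) := by rw [h]; exact ha
    exact Cfsg.Agent.Lib.helper87.BG142.mem_cent_singleton.mp (Subgroup.mem_inf.mp h1).2
  have hDcard : Nat.card ↥(A ⊓ Subgroup.centralizer ({x} : Set G)) = orderOf y := by
    have h1 : Nat.card ↥(A ⊓ Subgroup.centralizer ({x} : Set G)) ∣ orderOf y ^ 2 := by
      rw [← hAc]
      exact Subgroup.card_dvd_of_le inf_le_left
    obtain ⟨k, hk2, hk⟩ := (Nat.dvd_prime_pow hyp).mp h1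
    have h2 : orderOf y ∣ Nat.card ↥(A ⊓ Subgroup.centralizer ({x} : Set G)) := by
      have := Subgroup.card_dvd_of_le hRD
      rwa [Nat.card_zpowers] at this
    have hk0 : k ≠ 0 := by
      rintro rfl
      rw [hk, pow_zero] at h2
      exact hyp.one_lt.ne' (Nat.dvd_one.mp h2)
    have hk2' : k ≠ 2 := by
      rintro rfl
      apply hDA
      apply Subgroup.eq_of_le_of_card_ge inf_le_left
      rw [hk, hAc]
    have hk1 : k = 1 := by omega
    rw [hk, hk1, pow_one]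
  have hDR : Subgroup.zpowers y = A ⊓ Subgroup.centralizer ({x} : Set G) := by
    apply Subgroup.eq_of_le_of_card_ge hRD
    rw [hDcard, Nat.card_zpowers]
  by_cases hS : ∀ S : Sylow (orderOf y) G, ¬ IsMulCommutative (S : Subgroup G)
  · -- nonabelian Sylow subgroups: `⟨y⟩ = A ∩ C(M_σ)`
    have h19 := (Cfsg.Agent.S1419.result hG M hM E hE (orderOf y) hrτ hS A ⟨hAE, hAe, hAc⟩).2.2
      (Subgroup.zpowers y) hRE (Nat.card_zpowers y)
    have hRA0 : Subgroup.zpowers y = A ⊓ Subgroup.centralizer (sigmaCore M : Set G) := by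
      by_contra hne
      exact hRσ (h19 hne).1
    apply hNA M hM E hE (orderOf y) hrτ hS A hAE hAe hAc (orderOf x) hpτ (Subgroup.zpowers x) hPE
      (Nat.card_zpowers x) hY
    rw [← hRA0, Subgroup.zpowers_le]
    exact mem_cent_zpowers.mpr hxy
  · -- abelian Sylow subgroups
    push Not at hS
    obtain ⟨S₀, hS₀⟩ := hS
    have hAp : IsPGroup (orderOf y) A := IsPGroup.of_card hAc
    obtain ⟨S₁, hAS₁⟩ := hAp.exists_le_sylow
    obtain ⟨g, hg⟩ := MulAction.exists_smul_eq G S₀ S₁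
    have hSab : ∀ a ∈ (S₁ : Subgroup G), ∀ b ∈ (S₁ : Subgroup G), a * b = b * a := by
      intro a ha b hb
      rw [← hg] at ha hb
      have ha' := (bg_mem_smul_sylow S₀ g a).mp ha
      have hb' := (bg_mem_smul_sylow S₀ g b).mp hb
      have hcomm : (⟨g⁻¹ * a * g, ha'⟩ : (S₀ : Subgroup G)) * ⟨g⁻¹ * b * g, hb'⟩ =
          ⟨g⁻¹ * b * g, hb'⟩ * ⟨g⁻¹ * a * g, ha'⟩ := isMulCommutative_iff.mp hS₀ _ _
      have h1 : g⁻¹ * a * g * (g⁻¹ * b * g) = g⁻¹ * b * g * (g⁻¹ * a * g) :=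
        congrArg Subtype.val hcomm
      have h2 : g⁻¹ * (a * b) * g = g⁻¹ * (b * a) * g := by
        calc g⁻¹ * (a * b) * g = g⁻¹ * a * g * (g⁻¹ * b * g) := by group
          _ = g⁻¹ * b * g * (g⁻¹ * a * g) := h1
          _ = g⁻¹ * (b * a) * g := by group
      exact mul_left_cancel (mul_right_cancel h2)
    have c8 : BG8Ctx M E A (orderOf y) S₁ := ⟨hM, hE, hrτ, ⟨hAE, hAe, hAc⟩, hSab, hAS₁⟩
    have hcomm := Cfsg.Agent.Lib.helper36.bg8_comm_le_cent hG c8
    have hxN : x ∈ Subgroup.normalizer (A : Set G) := hEA hxE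
    -- every element of `N_G(A)` conjugates `y` into `⟨y⟩`
    have key : ∀ n ∈ Subgroup.normalizer (A : Set G), n * y * n⁻¹ ∈ Subgroup.zpowers y := by
      intro n hn
      rw [hDR]
      refine Subgroup.mem_inf.mpr ⟨(Subgroup.mem_normalizer_iff.mp hn y).mp hyA, ?_⟩
      rw [Cfsg.Agent.Lib.helper87.BG142.mem_cent_singleton]
      have hc0 := hcomm n⁻¹ (inv_mem hn) x hxN
      have hyc0 := Subgroup.mem_centralizer_iff.mp hc0 y hyA
      -- `n⁻¹ x n = c₀ x` with `c₀` centralizing `A`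
      have e1 : n⁻¹ * x * n = (n⁻¹ * x * n⁻¹⁻¹ * x⁻¹) * x := by group
      calc x * (n * y * n⁻¹) = n * ((n⁻¹ * x * n) * y) * n⁻¹ := by group
        _ = n * ((n⁻¹ * x * n⁻¹⁻¹ * x⁻¹) * x * y) * n⁻¹ := by rw [e1]
        _ = n * ((n⁻¹ * x * n⁻¹⁻¹ * x⁻¹) * (y * x)) * n⁻¹ := by rw [mul_assoc _ x y, hxy]
        _ = n * (((n⁻¹ * x * n⁻¹⁻¹ * x⁻¹) * y) * x) * n⁻¹ := by rw [mul_assoc _ y x]
        _ = n * ((y * (n⁻¹ * x * n⁻¹⁻¹ * x⁻¹)) * x) * n⁻¹ := by rw [hyc0]
        _ = n * (y * (n⁻¹ * x * n)) * n⁻¹ := by rw [mul_assoc y _ x, ← e1]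
        _ = n * y * n⁻¹ * x := by group
    have keyz : ∀ n ∈ Subgroup.normalizer (A : Set G), ∀ h ∈ Subgroup.zpowers y,
        n * h * n⁻¹ ∈ Subgroup.zpowers y := by
      intro n hn h hh
      obtain ⟨k, rfl⟩ := Subgroup.mem_zpowers_iff.mp hh
      have : n * y ^ k * n⁻¹ = (n * y * n⁻¹) ^ k := by
        rw [conj_zpow]
      rw [this]
      exact Subgroup.zpow_mem _ (key n hn) k
    apply hNA'
    intro n hn
    apply hNR
    rw [Subgroup.mem_normalizer_iff]
    intro h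
    constructor
    · exact keyz n hn h
    · intro hh
      have := keyz n⁻¹ (inv_mem hn) _ hh
      have e : n⁻¹ * (n * h * n⁻¹) * n⁻¹⁻¹ = h := by group
      rwa [e] at this

/-- Subgroups of a maximal subgroup are solvable. -/
theorem solv_of_le [Finite G] (hG : IsMinSimpleOddOrder G) (H : Subgroup G) (hH : IsCoatom H)
    (X : Subgroup G) (hX : X ≤ H) : Group.IsSolvable ↥X := by
  obtain ⟨-, -, -, hsolv⟩ := id hG
  have h1 : Group.IsSolvable ↥H := hsolv H hH.1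
  exact Group.isSolvable_of_isSolvable_injective (Subgroup.inclusion_injective hX)

/-- If every power of `u` of prime-power order lies in a subgroup `C`, then `u ∈ C`. -/
theorem mem_of_primary_pows [Finite G] (C : Subgroup G) :
    ∀ (N : ℕ) (u : G), orderOf u = N →
      (∀ v ∈ Subgroup.zpowers u, ∀ q : ℕ, q.Prime → ∀ i : ℕ, orderOf v = q ^ i → v ∈ C) →
      u ∈ C := by
  intro N
  induction N using Nat.strong_induction_on with
  | _ N ih =>
    intro u huN h
    by_cases hN1 : N = 1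
    · rw [hN1, orderOf_eq_one_iff] at huN
      rw [huN]; exact C.one_mem
    have hNpos : 0 < N := huN ▸ orderOf_pos u
    have hqp : (N.minFac).Prime := Nat.minFac_prime hN1
    obtain ⟨u', u'', hu', hu'', hue, hco, i, hi⟩ :=
      Cfsg.Agent.Lib.helper74.exists_pq_decomp u hqp
    have h2 : u'' ∈ C := h u'' hu'' _ hqp i hi
    have hd : orderOf u' ∣ N := by rw [← huN]; exact orderOf_dvd_of_mem_zpowers hu'
    have hlt : orderOf u' < N := by
      rcases (Nat.le_of_dvd hNpos hd).lt_or_eq with h3 | h3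
      · exact h3
      · exfalso
        rw [h3] at hco
        exact hqp.ne_one (Nat.Coprime.eq_one_of_dvd hco.symm (Nat.minFac_dvd N))
    have h1 : u' ∈ C := by
      apply ih _ hlt u' rfl
      intro v hv q hq j hj
      have hle : Subgroup.zpowers u' ≤ Subgroup.zpowers u := Subgroup.zpowers_le.mpr hu'
      exact h v (hle hv) q hq j hj
    rw [hue]
    exact C.mul_mem h1 h2

/-- A normal `r`-complement consists of the elements of order prime to `r`. -/
theorem npc_mem {X : Type*} [Group X] [Finite X] {r : ℕ} [Fact r.Prime]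
    (h : HasNormalPComplement r X) :
    ∃ K : Subgroup X, K.Normal ∧ ∀ y : X, y ∈ K ↔ (orderOf y).Coprime r := by
  obtain ⟨P, N, hN, hc⟩ := h
  have hr : r.Prime := Fact.out
  have := hN
  have hidx : (P : Subgroup X).index = Nat.card N := hc.index_eq_card
  have hNidx : N.index = Nat.card (P : Subgroup X) := hc.symm.index_eq_card
  refine ⟨N, hN, fun y => ⟨fun hy => ?_, fun hy => ?_⟩⟩
  · have h1 : orderOf y ∣ Nat.card N := Subgroup.orderOf_dvd_natCard N hy
    have h2 : ¬ r ∣ Nat.card N := by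
      rw [← hidx]; exact P.not_dvd_index
    have h3 : ¬ r ∣ orderOf y := fun h4 => h2 (h4.trans h1)
    exact ((Nat.Prime.coprime_iff_not_dvd hr).mpr h3).symm
  · obtain ⟨n, hn⟩ := IsPGroup.iff_card.mp P.2
    have h1 : orderOf (QuotientGroup.mk' N y) ∣ orderOf y := by
      apply orderOf_dvd_of_pow_eq_one
      rw [← map_pow, pow_orderOf_eq_one, map_one]
    have h2 : orderOf (QuotientGroup.mk' N y) ∣ r ^ n := by
      have h3 : orderOf (QuotientGroup.mk' N y) ∣ N.index := by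
        rw [Subgroup.index_eq_card]; exact orderOf_dvd_natCard _
      rw [hNidx] at h3
      rw [← hn]; exact h3
    have h3 : orderOf (QuotientGroup.mk' N y) = 1 :=
      (Nat.Coprime.coprime_dvd_left h1 (Nat.Coprime.pow_right n hy)).eq_one_of_dvd h2
    exact (QuotientGroup.eq_one_iff y).mp (orderOf_eq_one_iff.mp h3)

theorem mul_pow_mem (N : Subgroup G) (x c : G) (hx : ∀ n ∈ N, x⁻¹ * n * x ∈ N) (hc : c ∈ N)
    (m : ℕ) : ∃ d ∈ N, (x * c) ^ m = x ^ m * d := by
  induction m with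
  | zero => exact ⟨1, N.one_mem, by simp⟩
  | succ m ih =>
    obtain ⟨d, hd, he⟩ := ih
    refine ⟨x⁻¹ * d * x * c, N.mul_mem (hx d hd) hc, ?_⟩
    rw [pow_succ, he, pow_succ]
    group

theorem conj_comm_eq (c f g : G) (hcg : c * g = g * c) :
    f * g * f⁻¹ * g⁻¹ = (c * f⁻¹)⁻¹ * (g * (c * f⁻¹) * g⁻¹) := by
  have h1 : c⁻¹ * g * c = g := by
    calc c⁻¹ * g * c = c⁻¹ * (g * c) := by group
      _ = c⁻¹ * (c * g) := by rw [hcg]
      _ = g := by group
  calc f * g * f⁻¹ * g⁻¹ = f * (c⁻¹ * g * c) * f⁻¹ * g⁻¹ := by rw [h1]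
    _ = (c * f⁻¹)⁻¹ * (g * (c * f⁻¹) * g⁻¹) := by group

/-- **Theorem T.**  `H` maximal, `F` a complement of `H_σ`, `P ≤ F` of order `p ∈ τ₁(H)`,
`r ∈ σ(H) \ β(H)`: every `r`-element of `C_{H_σ}(P)` lies in `[H_σ, H_σ]`. -/
theorem tau1_cent_le_comm [Finite G] (hG : IsMinSimpleOddOrder G)
    (hNA : NAHyp G) (H : Subgroup G) (hH : IsCoatom H)
    (F : Subgroup G) (hF : IsComplIn F (sigmaCore H) H) (p : ℕ) (hp : p ∈ tau1 H)
    (P : Subgroup G) (hPF : P ≤ F) (hP : Nat.card P = p) (r : ℕ) (hr : r ∈ sigma H)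
    (hrβ : r ∉ beta H) (g : G) (hg : g ∈ sigmaCore H)
    (hgP : g ∈ Subgroup.centralizer (P : Set G)) (k : ℕ) (hgr : g ^ r ^ k = 1) :
    g ∈ ⁅sigmaCore H, sigmaCore H⁆ := by
  by_cases hg1 : g = 1
  · rw [hg1]; exact Subgroup.one_mem _
  obtain ⟨hodd, -, -, -⟩ := id hG
  have hpp : p.Prime := hp.1
  have hrp : r.Prime := hr.1
  have : Fact p.Prime := ⟨hpp⟩
  have : Fact r.Prime := ⟨hrp⟩
  have hFH : F ≤ H := hF.1
  have hHsH : sigmaCore H ≤ H := hF.2.1
  have hcop : (Nat.card F).Coprime (Nat.card (sigmaCore H)) :=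
    Cfsg.Agent.Lib.helper54.compl_card_coprime hG H hH F hF
  have hU : BGUniqHyp G := fun K hK h1 h2 => Cfsg.Agent.S1403.result hG K hK h1 h2
  -- a generator of `P`
  obtain ⟨x, hxP, hxo⟩ : ∃ x ∈ P, orderOf x = p := by
    have hPne : P ≠ ⊥ := by
      intro h
      rw [h, Subgroup.card_bot] at hP
      exact hpp.one_lt.ne hP
    obtain ⟨⟨x, hxP⟩, hx1⟩ := (Subgroup.ne_bot_iff_exists_ne_one).mp hPne
    refine ⟨x, hxP, ?_⟩
    have h1 : orderOf x ∣ p := by rw [← hP]; exact Subgroup.orderOf_dvd_natCard P hxP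
    rcases (Nat.dvd_prime hpp).mp h1 with h2 | h2
    · exfalso
      apply hx1
      apply Subtype.ext
      exact orderOf_eq_one_iff.mp h2
    · exact h2
  have hxF : x ∈ F := hPF hxP
  have hxg : x * g = g * x := Subgroup.mem_centralizer_iff.mp hgP x hxP
  -- (3') elements of prime-power order of `F ∩ C(P)` centralize `g`
  have h3 : ∀ u ∈ F, u ∈ Subgroup.centralizer (P : Set G) → ∀ q : ℕ, q.Prime → ∀ i : ℕ,
      orderOf u = q ^ i → u ∈ Subgroup.centralizer ({g} : Set G) := by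
    intro u huF huP q hq i hi
    have : Fact q.Prime := ⟨hq⟩
    by_cases hi0 : i = 0
    · rw [hi0, pow_zero, orderOf_eq_one_iff] at hi
      rw [hi]; exact Subgroup.one_mem _
    obtain ⟨w, hw⟩ : ∃ w : G, w = u ^ q ^ (i - 1) := ⟨_, rfl⟩
    have hwo : orderOf w = q := by
      rw [hw, orderOf_pow_of_dvd (pow_ne_zero _ hq.ne_zero)
        (by rw [hi]; exact pow_dvd_pow q (Nat.sub_le i 1)), hi,
        Nat.pow_div (Nat.sub_le i 1) hq.pos]
      have h1 : i - (i - 1) = 1 := by omega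
      rw [h1, pow_one]
    have hwF : w ∈ F := by rw [hw]; exact F.pow_mem huF _
    have hwP : w ∈ Subgroup.centralizer (P : Set G) := by rw [hw]; exact Subgroup.pow_mem _ huP _
    have hw1 : w ≠ 1 := by
      intro h
      rw [h, orderOf_one] at hwo
      exact hq.one_lt.ne hwo
    have hu1 : u ≠ 1 := by
      intro h
      apply hw1
      rw [hw, h, one_pow]
    have hxw : x * w = w * x := Subgroup.mem_centralizer_iff.mp hwP x hxP
    have hRle : Subgroup.zpowers w ≤ F ⊓ Subgroup.centralizer (P : Set G) := by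
      rw [Subgroup.zpowers_le]
      exact Subgroup.mem_inf.mpr ⟨hwF, hwP⟩
    have h28 := Cfsg.Agent.S1428.result hG H hH F hF p hp P hPF hP (Subgroup.zpowers w) hRle
      (by rw [Nat.card_zpowers, hwo]; exact hq)
    have hgw : g ∈ Subgroup.centralizer ((Subgroup.zpowers w : Subgroup G) : Set G) :=
      (Subgroup.mem_inf.mp (h28 (Subgroup.mem_inf.mpr ⟨hg, hgP⟩))).2
    have hwg : w * g = g * w := mem_cent_zpowers.mp hgw
    by_cases hq1 : PRankLE q 1 H
    · -- the Sylow `q`-subgroups of `F` are cyclic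
      have huq : IsPGroup q (Subgroup.zpowers (⟨u, huF⟩ : ↥F)) := by
        apply IsPGroup.of_card (n := i)
        rw [Nat.card_zpowers, Subgroup.orderOf_mk, hi]
      obtain ⟨S, hS⟩ := huq.exists_le_sylow
      have huS : (⟨u, huF⟩ : ↥F) ∈ (S : Subgroup ↥F) := hS (Subgroup.mem_zpowers _)
      have hScyc : IsCyclic (S : Subgroup ↥F) :=
        bg_sylow_cyclic_of_prank_one hodd hFH q hq1 S
      have hS1 : (S : Subgroup ↥F) ≠ ⊥ := by
        intro h
        rw [h] at huS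
        exact hu1 (congrArg Subtype.val (Subgroup.mem_bot.mp huS))
      have h27 := Cfsg.Agent.S1427.result hG H hH F hF q S hS1 hScyc
      have huS' : u ∈ (S : Subgroup ↥F).map F.subtype := ⟨⟨u, huF⟩, huS, rfl⟩
      have hwS : w ∈ (S : Subgroup ↥F).map F.subtype := by
        rw [hw]; exact Subgroup.pow_mem _ huS' _
      have h1 := h27 w hwS hw1
      have h2 : g ∈ sigmaCore H ⊓ Subgroup.centralizer ({w} : Set G) :=
        Subgroup.mem_inf.mpr ⟨hg, Cfsg.Agent.Lib.helper87.BG142.mem_cent_singleton.mpr hwg⟩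
      rw [h1] at h2
      have h4 : u * g = g * u :=
        Subgroup.mem_centralizer_iff.mp (Subgroup.mem_inf.mp h2).2 u huS'
      exact Cfsg.Agent.Lib.helper87.BG142.mem_cent_singleton.mpr h4.symm
    · -- `q ∈ τ₂(H)`: impossible
      exfalso
      have hqF : q ∣ Nat.card F := by
        rw [← hwo]; exact Subgroup.orderOf_dvd_natCard F hwF
      have hqσ : q ∉ sigma H := bg8_not_sigma hG H hH F hF q hq hqF
      have hq2 : PRankLE q 2 H := by
        by_contra h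
        exact hqσ (bg_alpha_sub_sigma hG hU H hH ⟨hq, h⟩)
      have hqτ : q ∈ tau2 H := ⟨hq, hqσ, hq2, hq1⟩
      exact tau12_regular hG hNA H hH F hF x hxF (by rw [hxo]; exact hp) g hg hg1 hxg w hwF
        (by rw [hwo]; exact hq) (by rw [hwo]; exact hqτ) hxw
  -- (3'') all of `F ∩ C(P)` centralizes `g`
  have hcent : ∀ u ∈ F, u ∈ Subgroup.centralizer (P : Set G) → u * g = g * u := by
    intro u huF huP
    have h1 := mem_of_primary_pows (Subgroup.centralizer ({g} : Set G)) _ u rfl (by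
      intro v hv q hq i hi
      have hvF : v ∈ F := (Subgroup.zpowers_le.mpr huF) hv
      have hvP : v ∈ Subgroup.centralizer (P : Set G) := (Subgroup.zpowers_le.mpr huP) hv
      exact h3 v hvF hvP q hq i hi)
    exact (Cfsg.Agent.Lib.helper87.BG142.mem_cent_singleton.mp h1).symm
  -- (1) `F = F' C_F(P)`
  have hpF' : (Nat.card P).Coprime (Nat.card ↥⁅F, F⁆) := by
    rw [hP]
    apply (Nat.Prime.coprime_iff_not_dvd hpp).mpr
    intro h
    apply hp.2.2.2.1
    exact h.trans (Subgroup.card_dvd_of_le (Subgroup.commutator_mono hFH hFH))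
  have hPn : P ≤ Subgroup.normalizer ((⁅F, F⁆ : Subgroup G) : Set G) :=
    hPF.trans (Cfsg.Agent.Lib.helper1.left_le_normalizer_commutator F F)
  have hF'F : ⁅F, F⁆ ≤ F := Subgroup.commutator_le.mpr (fun a ha b hb => by
    rw [commutatorElement_def]
    exact F.mul_mem (F.mul_mem (F.mul_mem ha hb) (F.inv_mem ha)) (F.inv_mem hb))
  have hdec : ∀ f ∈ F, ∃ c ∈ F, c ∈ Subgroup.centralizer (P : Set G) ∧ c * f⁻¹ ∈ ⁅F, F⁆ := by
    intro f hf
    obtain ⟨c, hc, hcf⟩ := Cfsg.Agent.Lib.helper1.coset_fixed P ⁅F, F⁆ hPn hpF'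
      (Or.inl (solv_of_le hG H hH P (hPF.trans hFH))) f (by
        intro a ha
        have h1 := Subgroup.commutator_mem_commutator (hPF ha) hf
        rwa [commutatorElement_def] at h1)
    refine ⟨c, ?_, hc, hcf⟩
    have h1 : c = c * f⁻¹ * f := by group
    rw [h1]; exact F.mul_mem (hF'F hcf) hf
  -- (2) the normal `r`-complement of `H'`
  have hrH : r ∣ Nat.card H := hr.2.1
  obtain ⟨hnpc, -, -⟩ := (Cfsg.Agent.S1414.result hG H hH).2.2.2.2 r hrp hrH hrβ
  obtain ⟨K, hKn, hK⟩ := npc_mem hnpc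
  have hro : orderOf g ∣ r ^ k := orderOf_dvd_of_pow_eq_one hgr
  obtain ⟨j, -, hj⟩ := (Nat.dvd_prime_pow hrp).mp hro
  have hrF : ∀ d ∈ F, (orderOf d).Coprime r := by
    intro d hd
    have h1 : orderOf d ∣ Nat.card F := Subgroup.orderOf_dvd_natCard F hd
    have h2 : r ∣ Nat.card (sigmaCore H) := by
      have hj0 : j ≠ 0 := by
        rintro rfl
        rw [pow_zero, orderOf_eq_one_iff] at hj
        exact hg1 hj
      have h3 : r ∣ orderOf g := by rw [hj]; exact dvd_pow_self r hj0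
      exact h3.trans (Subgroup.orderOf_dvd_natCard _ hg)
    exact Nat.Coprime.coprime_dvd_left h1 (Nat.Coprime.coprime_dvd_right h2 hcop)
  obtain ⟨KG, hKG⟩ : ∃ KG : Subgroup G, KG = K.map (⁅H, H⁆ : Subgroup G).subtype := ⟨_, rfl⟩
  have hKmem : ∀ y : G, y ∈ KG ↔ y ∈ ⁅H, H⁆ ∧ (orderOf y).Coprime r := by
    intro y
    rw [hKG]
    constructor
    · rintro ⟨⟨y', hy'⟩, hyK, rfl⟩
      refine ⟨hy', ?_⟩
      have h1 := (hK ⟨y', hy'⟩).mp hyK
      rw [Subgroup.orderOf_mk] at h1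
      exact h1
    · rintro ⟨hy1, hy2⟩
      refine ⟨⟨y, hy1⟩, ?_, rfl⟩
      apply (hK ⟨y, hy1⟩).mpr
      rw [Subgroup.orderOf_mk]
      exact hy2
  have hHn : ∀ h ∈ H, ∀ y ∈ ⁅H, H⁆, h * y * h⁻¹ ∈ ⁅H, H⁆ :=
    Subgroup.le_normalizer_iff.mp (Cfsg.Agent.Lib.helper1.left_le_normalizer_commutator H H)
  have hHsn : ∀ h ∈ H, ∀ y ∈ sigmaCore H, h * y * h⁻¹ ∈ sigmaCore H :=
    Subgroup.le_normalizer_iff.mp (Cfsg.Agent.Lib.helper13.le_normalizer_sigmaCore H)
  have hKGn : ∀ h ∈ H, ∀ y ∈ KG, h * y * h⁻¹ ∈ KG := by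
    intro h hh y hy
    rw [hKmem] at hy ⊢
    refine ⟨hHn h hh y hy.1, ?_⟩
    have h1 : orderOf (h * y * h⁻¹) = orderOf y := by
      have h2 := (MulAut.conj h).orderOf_eq y
      simpa [MulAut.conj_apply] using h2
    rw [h1]; exact hy.2
  have hgH : g ∈ H := hHsH hg
  -- the commutators of `g` with `F` lie in `T = K ∩ H_σ`
  have hgT : ∀ f ∈ F, f * g * f⁻¹ * g⁻¹ ∈ KG ⊓ sigmaCore H := by
    intro f hf
    obtain ⟨c, hcF, hcP, hcf⟩ := hdec f hf
    have hcg : c * g = g * c := hcent c hcF hcP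
    have hdF : c * f⁻¹ ∈ F := F.mul_mem hcF (F.inv_mem hf)
    have hdK : c * f⁻¹ ∈ KG :=
      (hKmem _).mpr ⟨Subgroup.commutator_mono hFH hFH hcf, hrF _ hdF⟩
    have hfH : f ∈ H := hFH hf
    have h1 : f * g * f⁻¹ * g⁻¹ ∈ sigmaCore H :=
      Subgroup.mul_mem _ (hHsn f hfH g hg) (Subgroup.inv_mem _ hg)
    have h2 : f * g * f⁻¹ * g⁻¹ ∈ KG := by
      rw [conj_comm_eq c f g hcg]
      exact KG.mul_mem (KG.inv_mem hdK) (hKGn g hgH _ hdK)
    exact Subgroup.mem_inf.mpr ⟨h2, h1⟩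
  have hFT : F ≤ Subgroup.normalizer ((KG ⊓ sigmaCore H : Subgroup G) : Set G) := by
    rw [Subgroup.le_normalizer_iff]
    intro f hf y hy
    obtain ⟨hy1, hy2⟩ := Subgroup.mem_inf.mp hy
    exact Subgroup.mem_inf.mpr ⟨hKGn f (hFH hf) y hy1, hHsn f (hFH hf) y hy2⟩
  have hcopT : (Nat.card F).Coprime (Nat.card ↥(KG ⊓ sigmaCore H)) :=
    Nat.Coprime.coprime_dvd_right (Subgroup.card_dvd_of_le inf_le_right) hcop
  obtain ⟨c₀, hc₀, hc₀g⟩ := Cfsg.Agent.Lib.helper1.coset_fixed F (KG ⊓ sigmaCore H) hFT hcopT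
    (Or.inl (solv_of_le hG H hH F hFH)) g hgT
  obtain ⟨t, ht⟩ : ∃ t : G, t = c₀ * g⁻¹ := ⟨_, rfl⟩
  rw [← ht] at hc₀g
  obtain ⟨ht1, ht2⟩ := Subgroup.mem_inf.mp hc₀g
  have hc₀e : c₀ = t * g := by rw [ht]; group
  have hc₀σ : c₀ ∈ sigmaCore H := by
    rw [hc₀e]; exact Subgroup.mul_mem _ ht2 hg
  have hc₀D : c₀ ∈ ⁅sigmaCore H, sigmaCore H⁆ :=
    Cfsg.Agent.Lib.helper54.sigmaCore_fixed_le hG H hH F hF (Subgroup.mem_inf.mpr ⟨hc₀σ, hc₀⟩)
  have htm : (orderOf t).Coprime r := ((hKmem t).mp ht1).2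
  have hDn : ∀ n ∈ ⁅sigmaCore H, sigmaCore H⁆,
      (t⁻¹)⁻¹ * n * t⁻¹ ∈ ⁅sigmaCore H, sigmaCore H⁆ := by
    intro n hn
    have h1 := Subgroup.le_normalizer_iff.mp
      (Cfsg.Agent.Lib.helper1.left_le_normalizer_commutator (sigmaCore H) (sigmaCore H)) t ht2 n hn
    rw [inv_inv]
    exact h1
  obtain ⟨d, hd, hde⟩ := mul_pow_mem ⁅sigmaCore H, sigmaCore H⁆ t⁻¹ c₀ hDn hc₀D (orderOf t)
  have hgt : t⁻¹ * c₀ = g := by rw [hc₀e]; group
  have hgm : g ^ orderOf t ∈ ⁅sigmaCore H, sigmaCore H⁆ := by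
    rw [← hgt, hde, inv_pow, pow_orderOf_eq_one, inv_one, one_mul]
    exact hd
  have hcop2 : (orderOf t).Coprime (orderOf g) := by
    rw [hj]; exact Nat.Coprime.pow_right j htm
  obtain ⟨a, ha⟩ := exists_pow_eq_self_of_coprime hcop2
  have h5 := Subgroup.pow_mem _ hgm a
  rw [ha] at h5
  exact h5

end Cfsg.Agent.Lib.helper12.BGT
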