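import Mathlib
import Cfsg.Agent.S0544
import Cfsg.Agent.S0543
import Cfsg.Agent.S0540
import Cfsg.Agent.Lib.lead.Hall
import Cfsg.Agent.Lib.helper12.Conj
import Cfsg.Agent.Lib.helper12.SylowNormal

/-!
Tools around Hall subgroups: containment from coprimality, normal Hall subgroups of nilpotent
groups, conjugacy of Hall subgroups inside `H ⊔ N`.
-/

set_option autoImplicit false

namespace Cfsg.Agent.Lib.helper12

open Pointwise

variable {G : Type*} [Group G]

/-- A normal subgroup whose order is coprime to the index of `K` lies in `K`. -/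
theorem le_of_normal_of_coprime_card_index [Finite G] (B K : Subgroup G) [B.Normal]
    (h : (Nat.card B).Coprime K.index) : B ≤ K := by
  rw [← Subgroup.relIndex_eq_one]
  have h1 : K.relIndex B ∣ Nat.card B := Subgroup.relIndex_dvd_card K B
  have h2 : K.relIndex B ∣ K.index := by
    rw [relIndex_eq_relIndex_sup_of_normal K B]
    exact Subgroup.relIndex_dvd_index_of_le le_sup_left
  exact Nat.eq_one_of_dvd_coprimes h h1 h2

/-- If `M` is normal and `|M : C ∩ M|` is coprime to `|G : S|` then `M ≤ S ⊔ C`. -/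
theorem le_sup_of_coprime_relIndex_index [Finite G] (S C M : Subgroup G) [M.Normal]
    (h : (C.relIndex M).Coprime S.index) : M ≤ S ⊔ C := by
  rw [← Subgroup.relIndex_eq_one]
  have h1 : (S ⊔ C).relIndex M ∣ C.relIndex M := Subgroup.relIndex_dvd_of_le_left M le_sup_right
  have h2 : (S ⊔ C).relIndex M ∣ S.index := by
    rw [relIndex_eq_relIndex_sup_of_normal (S ⊔ C) M]
    exact (Subgroup.relIndex_dvd_index_of_le le_sup_left).trans
      (Subgroup.index_dvd_of_le le_sup_left)
  exact Nat.eq_one_of_dvd_coprimes h h1 h2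

/-- Relative version of `S0544.mem_of_mem_normalizer_of_coprime`. -/
theorem mem_of_mem_normalizer_of_coprime_relIndex [Finite G] (H L : Subgroup G)
    (x : G) (hxL : x ∈ L) (hxN : x ∈ Subgroup.normalizer (H : Set G))
    (hcop : (orderOf x).Coprime (H.relIndex L)) : x ∈ H := by
  have h1 : (⟨x, hxL⟩ : L) ∈ Subgroup.normalizer ((H.subgroupOf L : Subgroup L) : Set L) := by
    rw [Subgroup.mem_normalizer_iff]
    intro y
    rw [Subgroup.mem_subgroupOf, Subgroup.mem_subgroupOf]
    exact Subgroup.mem_normalizer_iff.mp hxN (y : G)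
  have h2 := Cfsg.Agent.S0544.mem_of_mem_normalizer_of_coprime (H.subgroupOf L) ⟨x, hxL⟩ h1
    (by rw [Subgroup.orderOf_mk]; exact hcop)
  exact Subgroup.mem_subgroupOf.mp h2

/-- `H` with order coprime to `|N : H ∩ N|`, `N` normal, `H^x ≤ HN` implies `H^x = H^n` for some
`n ∈ N`. -/
theorem conj_by_normal' [Finite G] [Group.IsSolvable G] (H N : Subgroup G)
    [N.Normal] (hH : (Nat.card H).Coprime (H.relIndex N)) (x : G)
    (hx : MulAut.conj x • H ≤ H ⊔ N) :
    ∃ n ∈ N, MulAut.conj x • H = MulAut.conj n • H := by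
  set L : Subgroup G := H ⊔ N with hL
  have hHL : H ≤ L := le_sup_left
  have h1 : Nat.card (H.subgroupOf L) = Nat.card H :=
    Nat.card_congr (Subgroup.subgroupOfEquivOfLe hHL).toEquiv
  have h2 : Nat.card ((MulAut.conj x • H).subgroupOf L) = Nat.card H := by
    rw [Nat.card_congr (Subgroup.subgroupOfEquivOfLe hx).toEquiv]
    exact card_conj_smul x H
  have h3 : (Nat.card (H.subgroupOf L)).Coprime (H.subgroupOf L).index := by
    rw [h1]
    have : (H.subgroupOf L).index = H.relIndex N := by
      rw [relIndex_eq_relIndex_sup_of_normal H N]; rfl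
    rw [this]; exact hH
  obtain ⟨m, hm⟩ := Cfsg.Agent.Lib.lead.conj_of_coprime_of_isSolvable (H.subgroupOf L)
    ((MulAut.conj x • H).subgroupOf L) h3 (h2.trans h1.symm)
  have h4 : ((MulAut.conj x • H).subgroupOf L).map L.subtype = MulAut.conj x • H := by
    rw [Subgroup.subgroupOf_map_subtype]; exact inf_of_le_left hx
  have h5 : ((H.subgroupOf L).map (MulAut.conj m).toMonoidHom).map L.subtype
      = MulAut.conj (m : G) • H := by
    rw [Cfsg.Agent.S0543.map_conj_eq_smul, Cfsg.Agent.S0540.map_subtype_conj_smul,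
      Subgroup.subgroupOf_map_subtype, inf_of_le_left hHL]
  have h6 : MulAut.conj x • H = MulAut.conj (m : G) • H := by
    rw [← h4, hm, h5]
  have hm' : (m : G) ∈ N ⊔ H := by rw [sup_comm]; exact m.2
  rw [← SetLike.mem_coe, Subgroup.normal_mul] at hm'
  obtain ⟨n, hn, h, hh, hnh⟩ := Set.mem_mul.mp hm'
  refine ⟨n, hn, ?_⟩
  rw [h6, ← hnh, conj_mul_smul, Subgroup.conj_smul_eq_self_of_mem hh]

/-- In a finite nilpotent group a subgroup of order coprime to its index is normal. -/
theorem normal_of_coprime_of_isNilpotent [Finite G] [Group.IsNilpotent G] (H : Subgroup G)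
    (hH : (Nat.card H).Coprime H.index) : H.Normal := by
  rw [← Subgroup.normalizer_eq_top_iff]
  have hnc := Group.normalizerCondition_of_isNilpotent (G := G)
  rw [normalizerCondition_iff_only_full_group_self_normalizing] at hnc
  apply hnc
  apply le_antisymm _ Subgroup.le_normalizer
  intro y hy
  apply mem_normalizer_of_conj_smul_le
  intro h' hh'
  have hM : MulAut.conj y • Subgroup.normalizer (H : Set G) = Subgroup.normalizer (H : Set G) :=
    mem_normalizer_iff_conj_smul_eq.mp hy
  have h1 : h' ∈ Subgroup.normalizer (H : Set G) := by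
    rw [← hM]; exact conj_smul_mono y Subgroup.le_normalizer hh'
  apply Cfsg.Agent.S0544.mem_of_mem_normalizer_of_coprime H h' h1
  have h2 : orderOf h' ∣ Nat.card H := by
    rw [← card_conj_smul y H, ← Subgroup.orderOf_mk h' hh']
    exact orderOf_dvd_natCard _
  exact Nat.Coprime.coprime_dvd_left h2 hH

/-- A nilpotent subgroup normalizes each of its subgroups of order coprime to the index. -/
theorem le_normalizer_of_coprime_of_isNilpotent [Finite G] (C Q : Subgroup G)
    [Group.IsNilpotent C] (hQC : Q ≤ C) (h : (Nat.card Q).Coprime (Q.relIndex C)) :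
    C ≤ Subgroup.normalizer (Q : Set G) := by
  have h1 : (Q.subgroupOf C).Normal := normal_of_coprime_of_isNilpotent (Q.subgroupOf C) (by
    rw [Nat.card_congr (Subgroup.subgroupOfEquivOfLe hQC).toEquiv]; exact h)
  exact (Subgroup.normal_subgroupOf_iff_le_normalizer hQC).mp h1

end Cfsg.Agent.Lib.helper12
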