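import Mathlib

/-!
The product formula `|HK| |H ∩ K| = |H| |K|` for subgroups of a finite group.
-/

set_option autoImplicit false

namespace Cfsg.Agent.Lib.helper12

open Pointwise

variable {G : Type*} [Group G]

/-- The product formula for the product set of two subgroups. -/
theorem card_mul_set_mul_card_inf [Finite G] (H K : Subgroup G) :
    Nat.card ((H : Set G) * (K : Set G) : Set G) * Nat.card (H ⊓ K : Subgroup G)
      = Nat.card H * Nat.card K := by
  have h1 := Subgroup.card_mul_eq_card_subgroup_mul_card_quotient K (H : Set G)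
  set x₀ : G ⧸ K := ((1 : G) : G ⧸ K) with hx₀
  have himg : ((H : Set G).image (↑) : Set (G ⧸ K)) = MulAction.orbit H x₀ := by
    ext y
    constructor
    · rintro ⟨h, hh, rfl⟩
      refine ⟨⟨h, hh⟩, ?_⟩
      show (((h : G) * 1 : G) : G ⧸ K) = ((h : G) : G ⧸ K)
      rw [mul_one]
    · rintro ⟨h, rfl⟩
      refine ⟨(h : G), h.2, ?_⟩
      show ((h : G) : G ⧸ K) = (((h : G) * 1 : G) : G ⧸ K)
      rw [mul_one]
  have hstab : MulAction.stabilizer H x₀ = K.subgroupOf H := by
    ext a
    rw [MulAction.mem_stabilizer_iff, Subgroup.mem_subgroupOf]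
    show (((a : G) * 1 : G) : G ⧸ K) = ((1 : G) : G ⧸ K) ↔ (a : G) ∈ K
    rw [mul_one, QuotientGroup.eq, mul_one, inv_mem_iff]
  have horb : Nat.card (MulAction.orbit H x₀) * Nat.card (MulAction.stabilizer H x₀)
      = Nat.card H := by
    rw [← Nat.card_prod]
    exact Nat.card_congr (MulAction.orbitProdStabilizerEquivGroup H x₀)
  have hcardstab : Nat.card (MulAction.stabilizer H x₀) = Nat.card (H ⊓ K : Subgroup G) := by
    rw [hstab, ← Subgroup.inf_subgroupOf_left K H]
    exact Nat.card_congr (Subgroup.subgroupOfEquivOfLe (inf_le_left : H ⊓ K ≤ H)).toEquiv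
  rw [h1, himg, ← hcardstab, mul_assoc, horb, mul_comm]

/-- If `G = HK` then `|G| |H ∩ K| = |H| |K|`. -/
theorem card_mul_card_inf_of_eq_mul [Finite G] (H K : Subgroup G)
    (hHK : ∀ g : G, ∃ h ∈ H, ∃ k ∈ K, g = h * k) :
    Nat.card G * Nat.card (H ⊓ K : Subgroup G) = Nat.card H * Nat.card K := by
  rw [← card_mul_set_mul_card_inf H K]
  congr 1
  have : ((H : Set G) * (K : Set G) : Set G) = Set.univ := by
    ext g
    simp only [Set.mem_univ, iff_true]
    obtain ⟨h, hh, k, hk, rfl⟩ := hHK g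
    exact Set.mul_mem_mul hh hk
  rw [this, Nat.card_coe_set_eq, Set.ncard_univ]

end Cfsg.Agent.Lib.helper12
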