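import Mathlib
import Cfsg.Prelude.Def_SolvableStructure
import Cfsg.Agent.S0545
import Cfsg.Agent.S0544
import Cfsg.Agent.S0543
import Cfsg.Agent.S0540
import Cfsg.Agent.S0561
import Cfsg.Agent.Lib.lead.Hall
import Cfsg.Agent.Lib.helper12.HallTools
import Cfsg.Agent.Lib.helper12.MinNormal
import Cfsg.Agent.Lib.helper12.Supersolvable
import Cfsg.Agent.Lib.helper12.Fin

/-!
Carter subgroups (nilpotent self-normalizing subgroups) of finite solvable groups:
existence (containing a given system normalizer), conjugacy.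
-/

set_option autoImplicit false

namespace Cfsg.Agent.Lib.helper12

open Pointwise

/-- Construction of Carter subgroups: if `N` is a normal `p`-subgroup of `G`, `X/N` is a Carter
subgroup of `G/N` and `Q` is a Hall `p'`-subgroup of `X`, then `N_X(Q)` is a Carter subgroup of
`G` and `N_X(Q) N = X`. -/
theorem isCarterSubgroup_normalizer_inf {G : Type*} [Group G] [Finite G] [Group.IsSolvable G]
    {p : ℕ} [hfp : Fact p.Prime] (N : Subgroup G) [hNn : N.Normal] (hN : IsPGroup p N)
    (Cbar : Subgroup (G ⧸ N)) (hCbar : Cfsg.IsCarterSubgroup Cbar)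
    (Q : Subgroup G) (hQX : Q ≤ Cbar.comap (QuotientGroup.mk' N)) (hQp : ¬ p ∣ Nat.card Q)
    (hQidx : ∃ k, Q.relIndex (Cbar.comap (QuotientGroup.mk' N)) = p ^ k) :
    Cfsg.IsCarterSubgroup (Subgroup.normalizer (Q : Set G) ⊓ Cbar.comap (QuotientGroup.mk' N)) ∧
    (Subgroup.normalizer (Q : Set G) ⊓ Cbar.comap (QuotientGroup.mk' N)) ⊔ N
      = Cbar.comap (QuotientGroup.mk' N) := by
  have hp : p.Prime := hfp.out
  set π := QuotientGroup.mk' N with hπ
  have hπs : Function.Surjective π := QuotientGroup.mk'_surjective N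
  set X := Cbar.comap π with hX
  set C := Subgroup.normalizer (Q : Set G) ⊓ X with hC
  have hNX : N ≤ X := by
    intro x hx
    show π x ∈ Cbar
    have : π x = 1 := (QuotientGroup.eq_one_iff x).mpr hx
    rw [this]; exact Cbar.one_mem
  have hQC : Q ≤ C := le_inf Subgroup.le_normalizer hQX
  have hCX : C ≤ X := inf_le_right
  obtain ⟨k, hk⟩ := hQidx
  obtain ⟨j, hj⟩ := IsPGroup.iff_card.mp hN
  have hcopp : (Nat.card Q).Coprime p := ((Nat.Prime.coprime_iff_not_dvd hp).mpr hQp).symm
  have hQN : Q ⊓ N = ⊥ := by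
    apply Disjoint.eq_bot
    apply Subgroup.disjoint_of_coprime_natCard
    rw [hj]; exact Nat.Coprime.pow_right j hcopp
  have hQrelC : ∃ i, Q.relIndex C = p ^ i := by
    have h1 := Subgroup.relIndex_mul_relIndex Q C X hQC hCX
    rw [hk] at h1
    obtain ⟨i, -, hi⟩ := (Nat.dvd_prime_pow hp).mp ⟨_, h1.symm⟩
    exact ⟨i, hi⟩
  have hXmap : X.map π = Cbar := Subgroup.map_comap_eq_self_of_surjective hπs Cbar
  -- Step 1
  have hnil : Group.IsNilpotent Cbar := hCbar.1
  have hstep1 : ∀ x ∈ X, MulAut.conj x • Q ≤ Q ⊔ N := by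
    have hQbar : Q.map π ≤ Cbar := Subgroup.map_le_iff_le_comap.mpr hQX
    have hrel : (Q.map π).relIndex Cbar ∣ p ^ k := by
      have h1 : ((Q.map π).comap π).relIndex X = (Q.map π).relIndex (X.map π) :=
        Subgroup.relIndex_comap (Q.map π) π X
      rw [hXmap, Subgroup.comap_map_eq, QuotientGroup.ker_mk'] at h1
      rw [← h1, ← hk]
      exact Subgroup.relIndex_dvd_of_le_left X le_sup_left
    have hcop : (Nat.card (Q.map π)).Coprime ((Q.map π).relIndex Cbar) := by
      obtain ⟨i, -, hi⟩ := (Nat.dvd_prime_pow hp).mp hrel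
      rw [hi]
      exact Nat.Coprime.pow_right i (Nat.Coprime.coprime_dvd_left (Subgroup.card_map_dvd Q π) hcopp)
    have hnormbar : Cbar ≤ Subgroup.normalizer ((Q.map π : Subgroup (G ⧸ N)) : Set (G ⧸ N)) :=
      le_normalizer_of_coprime_of_isNilpotent Cbar (Q.map π) hQbar hcop
    intro x hx
    have h2 : x ∈ (Subgroup.normalizer ((Q.map π : Subgroup (G ⧸ N)) : Set (G ⧸ N))).comap π :=
      hnormbar hx
    rw [Subgroup.comap_normalizer_eq_of_surjective _ hπs, Subgroup.comap_map_eq,
      QuotientGroup.ker_mk'] at h2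
    have h3 := mem_normalizer_iff_conj_smul_eq.mp h2
    calc MulAut.conj x • Q ≤ MulAut.conj x • (Q ⊔ N) := conj_smul_mono x le_sup_left
      _ = Q ⊔ N := h3
  -- Step 2
  have hstep2 : C ⊔ N = X := by
    apply le_antisymm (sup_le hCX hNX)
    intro x hx
    have hcop' : (Nat.card Q).Coprime (Q.relIndex N) := by
      have h1 : Q.relIndex N ∣ p ^ j := hj ▸ Subgroup.relIndex_dvd_card Q N
      obtain ⟨i, -, hi⟩ := (Nat.dvd_prime_pow hp).mp h1
      rw [hi]; exact Nat.Coprime.pow_right i hcopp
    obtain ⟨n, hn, hxn⟩ := conj_by_normal' Q N hcop' x (hstep1 x hx)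
    have h1 : n⁻¹ * x ∈ C := by
      refine ⟨?_, X.mul_mem (X.inv_mem (hNX hn)) hx⟩
      show n⁻¹ * x ∈ Subgroup.normalizer (Q : Set G)
      rw [mem_normalizer_iff_conj_smul_eq, conj_mul_smul, hxn, conj_inv_smul_conj_smul]
    have h2 : x = n * (n⁻¹ * x) := by group
    rw [h2]
    exact Subgroup.mul_mem _ (Subgroup.mem_sup_right hn) (Subgroup.mem_sup_left h1)
  -- Step 3
  have hQCn : (Q.subgroupOf C).Normal :=
    (Subgroup.normal_subgroupOf_iff_le_normalizer hQC).mpr inf_le_left
  have hstep3 : Group.IsNilpotent C := by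
    let f : C →* (C ⧸ Q.subgroupOf C) × Cbar :=
      MonoidHom.prod (QuotientGroup.mk' (Q.subgroupOf C))
        ((π.comp C.subtype).codRestrict Cbar (fun c => hCX c.2))
    have hf : Function.Injective f := by
      rw [injective_iff_map_eq_one]
      intro c hc
      have h1 : QuotientGroup.mk' (Q.subgroupOf C) c = 1 := congrArg Prod.fst hc
      have h2 : (π.comp C.subtype).codRestrict Cbar (fun c => hCX c.2) c = 1 :=
        congrArg Prod.snd hc
      have h3 : (c : G) ∈ Q := Subgroup.mem_subgroupOf.mp ((QuotientGroup.eq_one_iff c).mp h1)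
      have h4 : π (c : G) = 1 := congrArg Subtype.val h2
      have h5 : (c : G) ∈ N := (QuotientGroup.eq_one_iff (c : G)).mp h4
      have h6 : (c : G) ∈ Q ⊓ N := ⟨h3, h5⟩
      rw [hQN, Subgroup.mem_bot] at h6
      exact Subtype.ext h6
    have hpg : IsPGroup p (C ⧸ Q.subgroupOf C) := by
      obtain ⟨i, hi⟩ := hQrelC
      apply IsPGroup.of_card (n := i)
      rw [← Subgroup.index_eq_card]; exact hi
    have h1 : Group.IsNilpotent (C ⧸ Q.subgroupOf C) := hpg.isNilpotent
    have h2 : Group.IsNilpotent f.range := inferInstance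
    exact Group.nilpotent_of_mulEquiv (MonoidHom.ofInjective hf).symm
  -- Step 4
  refine ⟨⟨hstep3, ?_⟩, hstep2⟩
  apply le_antisymm _ Subgroup.le_normalizer
  intro g hg
  have hgC : MulAut.conj g • C = C := mem_normalizer_iff_conj_smul_eq.mp hg
  have hgX : g ∈ X := by
    have h1 : MulAut.conj g • X = X := by
      rw [← hstep2, conj_smul_sup, hgC, Subgroup.Normal.conj_smul_eq_self g N]
    have h2 : g ∈ Subgroup.normalizer (X : Set G) := mem_normalizer_iff_conj_smul_eq.mpr h1
    have h3 : π g ∈ Subgroup.normalizer ((X.map π : Subgroup (G ⧸ N)) : Set (G ⧸ N)) :=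
      Subgroup.le_normalizer_map π (Subgroup.mem_map_of_mem π h2)
    rw [hXmap, hCbar.2] at h3
    exact h3
  refine ⟨?_, hgX⟩
  apply mem_normalizer_of_conj_smul_le
  intro y hy
  have hyC : y ∈ C := by rw [← hgC]; exact conj_smul_mono g hQC hy
  have ho : orderOf y ∣ Nat.card Q := by
    rw [← card_conj_smul g Q, ← Subgroup.orderOf_mk y hy]
    exact orderOf_dvd_natCard _
  obtain ⟨i, hi⟩ := hQrelC
  apply mem_of_mem_normalizer_of_coprime_relIndex Q C y hyC hyC.1
  rw [hi]
  exact Nat.Coprime.pow_right i (Nat.Coprime.coprime_dvd_left ho hcopp)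

/-- A finite solvable group has a Hall complement system. -/
theorem exists_isComplementSystem {G : Type*} [Group G] [Finite G] [Group.IsSolvable G] :
    ∃ K : Nat.Primes → Subgroup G, Cfsg.IsComplementSystem K := by
  have : ∀ q : Nat.Primes, ∃ H : Subgroup G, H.index = (q : ℕ) ^ (Nat.card G).factorization q := by
    intro q
    have h1 : Nat.card G = (Nat.card G / (q : ℕ) ^ (Nat.card G).factorization q)
        * (q : ℕ) ^ (Nat.card G).factorization q :=
      (Nat.div_mul_cancel (Nat.ordProj_dvd _ _)).symm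
    have hcop : (Nat.card G / (q : ℕ) ^ (Nat.card G).factorization q).Coprime
        ((q : ℕ) ^ (Nat.card G).factorization q) :=
      (Nat.Coprime.pow_left _ (Nat.coprime_ordCompl q.2 Nat.card_pos.ne')).symm
    obtain ⟨H, hH⟩ := Cfsg.Agent.Lib.lead.exists_subgroup_card_eq_of_isSolvable h1 hcop
    refine ⟨H, ?_⟩
    have h2 := Subgroup.card_mul_index H
    rw [hH] at h2
    have hpos : 0 < Nat.card G / (q : ℕ) ^ (Nat.card G).factorization q :=
      Nat.div_pos (Nat.le_of_dvd Nat.card_pos (Nat.ordProj_dvd _ _)) (pow_pos q.2.pos _)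
    exact Nat.eq_of_mul_eq_mul_left hpos (h2.trans h1)
  choose K hK using this
  exact ⟨K, hK⟩

/-- Conjugates of Carter subgroups are Carter subgroups. -/
theorem isCarterSubgroup_conj {G : Type*} [Group G] (g : G) {C : Subgroup G}
    (h : Cfsg.IsCarterSubgroup C) : Cfsg.IsCarterSubgroup (MulAut.conj g • C) := by
  have hnil : Group.IsNilpotent C := h.1
  refine ⟨Group.nilpotent_of_mulEquiv (Subgroup.equivSMul (MulAut.conj g) C), ?_⟩
  ext x
  rw [mem_normalizer_iff_conj_smul_eq, mem_conj_smul_iff]
  have h1 : g⁻¹ * x * g ∈ C ↔ g⁻¹ * x * g ∈ Subgroup.normalizer (C : Set G) := by rw [h.2]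
  rw [h1, mem_normalizer_iff_conj_smul_eq]
  constructor
  · intro hx
    have h2 := congrArg (fun A => MulAut.conj g⁻¹ • A) hx
    rw [← conj_mul_smul, ← conj_mul_smul, conj_inv_smul_conj_smul] at h2
    exact h2
  · intro hx
    have h2 := congrArg (fun A => MulAut.conj g • A) hx
    rw [← conj_mul_smul] at h2
    have e : g * (g⁻¹ * x * g) = x * g := by group
    rw [e, conj_mul_smul] at h2
    exact h2

/-- A Carter subgroup of `G` contained in `L` is a Carter subgroup of `L`. -/
theorem isCarterSubgroup_subgroupOf {G : Type*} [Group G] {C L : Subgroup G} (hCL : C ≤ L)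
    (h : Cfsg.IsCarterSubgroup C) : Cfsg.IsCarterSubgroup (C.subgroupOf L) := by
  have hnil : Group.IsNilpotent C := h.1
  refine ⟨Group.nilpotent_of_mulEquiv (Subgroup.subgroupOfEquivOfLe hCL).symm, ?_⟩
  rw [← Subgroup.subgroupOf_normalizer_eq hCL, h.2]

/-- In a nilpotent group the only self-normalizing subgroup is the whole group. -/
theorem eq_top_of_normalizer_eq_of_isNilpotent {G : Type*} [Group G] [Group.IsNilpotent G]
    (C : Subgroup G) (h : Subgroup.normalizer (C : Set G) = C) : C = ⊤ := by
  have hnc := Group.normalizerCondition_of_isNilpotent (G := G)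
  rw [normalizerCondition_iff_only_full_group_self_normalizing] at hnc
  exact hnc C h

/-- A self-normalizing subgroup contained in a nilpotent subgroup equals it. -/
theorem eq_of_le_of_normalizer_eq_of_isNilpotent {G : Type*} [Group G] {C M : Subgroup G}
    (hCM : C ≤ M) (hC : Subgroup.normalizer (C : Set G) = C) (hM : Group.IsNilpotent M) :
    C = M := by
  have h1 : Subgroup.normalizer ((C.subgroupOf M : Subgroup M) : Set M) = C.subgroupOf M := by
    rw [← Subgroup.subgroupOf_normalizer_eq hCM, hC]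
  have h2 := eq_top_of_normalizer_eq_of_isNilpotent (C.subgroupOf M) h1
  exact le_antisymm hCM (Subgroup.subgroupOf_eq_top.mp h2)

/-- Every system normalizer lies in a Carter subgroup `C` into which the complement system
reduces (in the form: elements of `C` of order prime to `q` lie in `K q`). -/
theorem exists_carter_of_isComplementSystem.{u} : ∀ (n : ℕ) (G : Type u) [Group G] [Finite G]
    [Group.IsSolvable G], Nat.card G = n → ∀ (K : Nat.Primes → Subgroup G),
    Cfsg.IsComplementSystem K →
    ∃ C : Subgroup G, Cfsg.IsCarterSubgroup C ∧ Cfsg.systemNormalizer K ≤ C ∧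
      ∀ (q : Nat.Primes), ∀ c ∈ C, ¬ ((q : ℕ) ∣ orderOf c) → c ∈ K q := by
  intro n
  induction n using Nat.strong_induction_on with
  | _ n ih =>
    intro G _ _ _ hn K hK
    by_cases hG : Nontrivial G
    · obtain ⟨N, hNne, hNn, hmin⟩ := exists_minimal_normal (G := G)
      obtain ⟨p, hp, hNp⟩ := minimal_normal_isPGroup N hNne hmin
      have hfp : Fact p.Prime := ⟨hp⟩
      have hπs : Function.Surjective (QuotientGroup.mk' N) := QuotientGroup.mk'_surjective N
      obtain ⟨hCS, hD⟩ := Cfsg.Agent.S0545.result K hK N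
      have hlt : Nat.card (G ⧸ N) < n := hn ▸ card_quotient_lt N hNne
      obtain ⟨Cbar, hCbar, hDle, hE'⟩ := ih _ hlt (G ⧸ N) rfl _ hCS
      set X := Cbar.comap (QuotientGroup.mk' N) with hX
      set Q := K ⟨p, hp⟩ ⊓ X with hQ
      have hQX : Q ≤ X := inf_le_right
      have hNX : N ≤ X := by
        intro x hx
        show QuotientGroup.mk' N x ∈ Cbar
        have : QuotientGroup.mk' N x = 1 := (QuotientGroup.eq_one_iff x).mpr hx
        rw [this]; exact Cbar.one_mem
      have hQp : ¬ p ∣ Nat.card Q := fun h =>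
        Cfsg.Agent.S0544.not_dvd_card_of_isComplementSystem hK ⟨p, hp⟩
          (h.trans (Subgroup.card_dvd_of_le inf_le_left))
      obtain ⟨j, hj⟩ := IsPGroup.iff_card.mp hNp
      have hQidx : ∃ k, Q.relIndex X = p ^ k := by
        set v := (Nat.card X).factorization p with hv
        set m := Nat.card X / p ^ v with hm
        have hXm : Nat.card X = m * p ^ v := (Nat.div_mul_cancel (Nat.ordProj_dvd _ _)).symm
        have hmcop : m.Coprime p := (Nat.coprime_ordCompl hp Nat.card_pos.ne').symm
        have hmpos : 0 < m := Nat.div_pos (Nat.le_of_dvd Nat.card_pos (Nat.ordProj_dvd _ _))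
          (pow_pos hp.pos _)
        obtain ⟨Y', hY'⟩ := Cfsg.Agent.Lib.lead.exists_subgroup_card_eq_of_isSolvable (G := X)
          hXm (Nat.Coprime.pow_right v hmcop)
        have hYle : Y'.map X.subtype ≤ K ⟨p, hp⟩ ⊔ N := by
          rintro _ ⟨y, hy, rfl⟩
          have ho : orderOf (y : G) ∣ m := by
            rw [Subgroup.orderOf_coe, ← hY', ← Subgroup.orderOf_mk y hy]
            exact orderOf_dvd_natCard _
          have hnd : ¬ p ∣ orderOf (QuotientGroup.mk' N (y : G)) := by
            intro hd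
            have h1 : p ∣ m := (hd.trans (orderOf_map_dvd _ _)).trans ho
            exact (Nat.Prime.coprime_iff_not_dvd hp).mp hmcop.symm h1
          have h2 : QuotientGroup.mk' N (y : G) ∈ (K ⟨p, hp⟩).map (QuotientGroup.mk' N) :=
            hE' ⟨p, hp⟩ _ y.2 hnd
          have h3 : (y : G) ∈ ((K ⟨p, hp⟩).map (QuotientGroup.mk' N)).comap
              (QuotientGroup.mk' N) := h2
          rwa [Subgroup.comap_map_eq, QuotientGroup.ker_mk'] at h3
        have hYle' : Y'.map X.subtype ≤ Q ⊔ N := by
          intro z hz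
          have hzX : z ∈ X := Subgroup.map_subtype_le Y' hz
          have h1 := hYle hz
          rw [← SetLike.mem_coe, Subgroup.mul_normal] at h1
          obtain ⟨k, hk, n', hn', rfl⟩ := Set.mem_mul.mp h1
          have hkX : k ∈ X := by
            have : k = k * n' * n'⁻¹ := by group
            rw [this]; exact X.mul_mem hzX (X.inv_mem (hNX hn'))
          exact Subgroup.mul_mem _ (Subgroup.mem_sup_left ⟨hk, hkX⟩) (Subgroup.mem_sup_right hn')
        have hmQ : m ∣ Nat.card Q := by
          have h1 : m ∣ Nat.card (Q ⊔ N : Subgroup G) := by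
            have := Subgroup.card_dvd_of_le hYle'
            rwa [Subgroup.card_map_of_injective X.subtype_injective, hY'] at this
          have h2 : Nat.card Q * Q.relIndex (Q ⊔ N) = Nat.card (Q ⊔ N : Subgroup G) :=
            card_mul_relIndex le_sup_left
          have h3 : Q.relIndex (Q ⊔ N) ∣ p ^ j := by
            rw [← relIndex_eq_relIndex_sup_of_normal Q N, ← hj]
            exact Subgroup.relIndex_dvd_card Q N
          obtain ⟨i, -, hi⟩ := (Nat.dvd_prime_pow hp).mp h3
          rw [← h2, hi] at h1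
          exact (Nat.Coprime.pow_right i hmcop).dvd_of_dvd_mul_right h1
        have h4 : Nat.card Q * Q.relIndex X = m * p ^ v := by
          rw [card_mul_relIndex hQX, hXm]
        have hQm : Nat.card Q ∣ m := by
          have h5 : Nat.card Q ∣ m * p ^ v := ⟨_, h4.symm⟩
          exact (Nat.Coprime.pow_right v
            ((Nat.Prime.coprime_iff_not_dvd hp).mpr hQp).symm).dvd_of_dvd_mul_right h5
        have hQeq : Nat.card Q = m := Nat.dvd_antisymm hQm hmQ
        rw [hQeq] at h4
        exact ⟨v, Nat.eq_of_mul_eq_mul_left hmpos h4⟩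
      obtain ⟨hC, hCN⟩ := isCarterSubgroup_normalizer_inf N hNp Cbar hCbar Q hQX hQp hQidx
      refine ⟨_, hC, ?_, ?_⟩
      · have hDX : Cfsg.systemNormalizer K ≤ X := by
          rw [hD] at hDle
          exact Subgroup.map_le_iff_le_comap.mp hDle
        intro d hd
        refine ⟨?_, hDX hd⟩
        show d ∈ Subgroup.normalizer (Q : Set G)
        rw [mem_normalizer_iff_conj_smul_eq, hQ, Subgroup.smul_inf]
        have h1 : d ∈ Subgroup.normalizer (K ⟨p, hp⟩ : Set G) :=
          (iInf_le (fun q : Nat.Primes => Subgroup.normalizer (K q : Set G)) ⟨p, hp⟩) hd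
        rw [mem_normalizer_iff_conj_smul_eq.mp h1, Subgroup.conj_smul_eq_self_of_mem (hDX hd)]
      · intro q c hc hqc
        by_cases hqp : (q : ℕ) = p
        · have hq : q = ⟨p, hp⟩ := Subtype.ext hqp
          rw [hq]
          have hQC : Q ≤ Subgroup.normalizer (Q : Set G) ⊓ X := le_inf Subgroup.le_normalizer hQX
          obtain ⟨k, hk⟩ := hQidx
          have h1 := Subgroup.relIndex_mul_relIndex Q _ X hQC inf_le_right
          rw [hk] at h1
          obtain ⟨i, -, hi⟩ := (Nat.dvd_prime_pow hp).mp ⟨_, h1.symm⟩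
          have hcQ : c ∈ Q := by
            apply mem_of_mem_normalizer_of_coprime_relIndex Q _ c hc hc.1
            rw [hi]
            apply Nat.Coprime.pow_right
            rw [Nat.coprime_comm]
            exact (Nat.Prime.coprime_iff_not_dvd hp).mpr (hqp ▸ hqc)
          exact hcQ.1
        · have hcX : c ∈ X := hc.2
          have hnd : ¬ (q : ℕ) ∣ orderOf (QuotientGroup.mk' N c) :=
            fun hd => hqc (hd.trans (orderOf_map_dvd _ _))
          have h2 : QuotientGroup.mk' N c ∈ (K q).map (QuotientGroup.mk' N) := hE' q _ hcX hnd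
          have h3 : c ∈ ((K q).map (QuotientGroup.mk' N)).comap (QuotientGroup.mk' N) := h2
          rw [Subgroup.comap_map_eq, QuotientGroup.ker_mk'] at h3
          have hNK : N ≤ K q := by
            apply le_of_normal_of_coprime_card_index
            rw [hj, hK q]
            apply Nat.Coprime.pow
            exact (Nat.coprime_primes hp q.2).mpr (fun h => hqp h.symm)
          rw [sup_eq_left.mpr hNK] at h3
          exact h3
    · rw [not_nontrivial_iff_subsingleton] at hG
      refine ⟨⊤, ⟨inferInstance, ?_⟩, le_top, ?_⟩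
      · exact Subgroup.normalizer_eq_top (H := (⊤ : Subgroup G))
      · intro q c _ _
        rw [Subsingleton.elim c 1]; exact Subgroup.one_mem _

theorem map_conj_smul {G H : Type*} [Group G] [Group H] (f : G →* H) (g : G) (C : Subgroup G) :
    (MulAut.conj g • C).map f = MulAut.conj (f g) • C.map f := by
  ext y
  constructor
  · rintro ⟨z, hz, rfl⟩
    have hz' : z ∈ MulAut.conj g • C := hz
    rw [mem_conj_smul_iff] at hz' ⊢
    refine ⟨g⁻¹ * z * g, hz', ?_⟩
    simp
  · intro hy
    rw [mem_conj_smul_iff] at hy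
    obtain ⟨c, hc, hcy⟩ := hy
    refine ⟨g * c * g⁻¹, conj_mem_conj_smul g hc, ?_⟩
    rw [map_mul, map_mul, map_inv, hcy]
    group

/-- Conjugacy of Carter subgroups of a finite solvable group. -/
theorem carter_conj.{u} : ∀ (n : ℕ) (G : Type u) [Group G] [Finite G] [Group.IsSolvable G],
    Nat.card G = n → ∀ (C₁ C₂ : Subgroup G), Cfsg.IsCarterSubgroup C₁ →
    Cfsg.IsCarterSubgroup C₂ → ∃ g : G, C₂ = MulAut.conj g • C₁ := by
  intro n
  induction n using Nat.strong_induction_on with
  | _ n ih =>
    intro G _ _ _ hn C₁ C₂ hC₁ hC₂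
    by_cases hG : Nontrivial G
    · obtain ⟨N, hNne, hNn, hmin⟩ := exists_minimal_normal (G := G)
      obtain ⟨p, hp, hNp⟩ := minimal_normal_isPGroup N hNne hmin
      have hfp : Fact p.Prime := ⟨hp⟩
      set π := QuotientGroup.mk' N with hπ
      have hπs : Function.Surjective π := QuotientGroup.mk'_surjective N
      have hlt : Nat.card (G ⧸ N) < n := hn ▸ card_quotient_lt N hNne
      have hsub : ∀ (L : Subgroup G), L ≠ ⊤ → ∀ (A B : Subgroup G), A ≤ L → B ≤ L →
          Cfsg.IsCarterSubgroup A → Cfsg.IsCarterSubgroup B →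
          ∃ l ∈ L, B = MulAut.conj l • A := by
        intro L hL A B hAL hBL hA hB
        have hLlt : Nat.card L < n := by
          have := card_lt_of_lt (lt_top_iff_ne_top.mpr hL)
          rwa [Subgroup.card_top, hn] at this
        obtain ⟨l, hl⟩ := ih _ hLlt L rfl (A.subgroupOf L) (B.subgroupOf L)
          (isCarterSubgroup_subgroupOf hAL hA) (isCarterSubgroup_subgroupOf hBL hB)
        refine ⟨l, l.2, ?_⟩
        have h1 := congrArg (Subgroup.map L.subtype) hl
        rw [Subgroup.subgroupOf_map_subtype, Cfsg.Agent.S0540.map_subtype_conj_smul,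
          Subgroup.subgroupOf_map_subtype, inf_of_le_left hBL, inf_of_le_left hAL] at h1
        exact h1
      have hmapsup : ∀ C : Subgroup G, (C ⊔ N).map π = C.map π := by
        intro C
        rw [Subgroup.map_sup, QuotientGroup.map_mk'_self, sup_bot_eq]
      have himg : ∀ C : Subgroup G, Cfsg.IsCarterSubgroup C →
          Cfsg.IsCarterSubgroup (C.map π) := by
        intro C hC
        have hnil : Group.IsNilpotent C := hC.1
        refine ⟨Group.nilpotent_of_surjective (π.subgroupMap C) (π.subgroupMap_surjective C), ?_⟩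
        apply le_antisymm _ Subgroup.le_normalizer
        intro y hy
        obtain ⟨x, rfl⟩ := hπs y
        have h2 : x ∈ (Subgroup.normalizer
            ((C.map π : Subgroup (G ⧸ N)) : Set (G ⧸ N))).comap π := hy
        rw [Subgroup.comap_normalizer_eq_of_surjective _ hπs, Subgroup.comap_map_eq,
          QuotientGroup.ker_mk'] at h2
        by_cases hL : C ⊔ N = ⊤
        · have : C.map π = ⊤ := by
            rw [← hmapsup C, hL, Subgroup.map_top_of_surjective π hπs]
          rw [this]; exact Subgroup.mem_top _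
        · have h3 : MulAut.conj x • C ≤ C ⊔ N := by
            calc MulAut.conj x • C ≤ MulAut.conj x • (C ⊔ N) := conj_smul_mono x le_sup_left
              _ = C ⊔ N := mem_normalizer_iff_conj_smul_eq.mp h2
          obtain ⟨l, hl, hcl⟩ := hsub (C ⊔ N) hL C (MulAut.conj x • C) le_sup_left h3 hC
            (isCarterSubgroup_conj x hC)
          have h4 : l⁻¹ * x ∈ Subgroup.normalizer (C : Set G) := by
            rw [mem_normalizer_iff_conj_smul_eq, conj_mul_smul, hcl, conj_inv_smul_conj_smul]
          rw [hC.2] at h4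
          have h5 : x ∈ C ⊔ N := by
            have : x = l * (l⁻¹ * x) := by group
            rw [this]; exact Subgroup.mul_mem _ hl (Subgroup.mem_sup_left h4)
          have h6 := Subgroup.mem_map_of_mem π h5
          rwa [hmapsup C] at h6
      obtain ⟨gbar, hgbar⟩ := ih _ hlt (G ⧸ N) rfl (C₁.map π) (C₂.map π) (himg C₁ hC₁)
        (himg C₂ hC₂)
      obtain ⟨g, rfl⟩ := hπs gbar
      have hC₁'c : Cfsg.IsCarterSubgroup (MulAut.conj g • C₁) := isCarterSubgroup_conj g hC₁
      have hmapeq : (MulAut.conj g • C₁).map π = C₂.map π := by rw [map_conj_smul, ← hgbar]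
      have hsupeq : MulAut.conj g • C₁ ⊔ N = C₂ ⊔ N := by
        have := congrArg (Subgroup.comap π) hmapeq
        rwa [Subgroup.comap_map_eq, Subgroup.comap_map_eq, QuotientGroup.ker_mk'] at this
      suffices h : ∃ g', C₂ = MulAut.conj g' • (MulAut.conj g • C₁) by
        obtain ⟨g', hg'⟩ := h
        exact ⟨g' * g, by rw [hg', conj_mul_smul]⟩
      by_cases hL : C₂ ⊔ N = ⊤
      · have hL' : MulAut.conj g • C₁ ⊔ N = ⊤ := hsupeq.trans hL
        have hfact : ∀ C : Subgroup G, Cfsg.IsCarterSubgroup C → C ⊔ N = ⊤ →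
            ∃ Q : Subgroup G, Q ≤ C ∧ ¬ p ∣ Nat.card Q ∧ (∃ a, Q.index = p ^ a) ∧
              C ≤ Subgroup.normalizer (Q : Set G) := by
          intro C hC hCN
          have hnil : Group.IsNilpotent C := hC.1
          set v := (Nat.card C).factorization p with hv
          set m := Nat.card C / p ^ v with hm
          have hCm : Nat.card C = m * p ^ v := (Nat.div_mul_cancel (Nat.ordProj_dvd _ _)).symm
          have hmcop : m.Coprime p := (Nat.coprime_ordCompl hp Nat.card_pos.ne').symm
          have hmpos : 0 < m := Nat.div_pos (Nat.le_of_dvd Nat.card_pos (Nat.ordProj_dvd _ _))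
            (pow_pos hp.pos _)
          obtain ⟨Q', hQ'⟩ := Cfsg.Agent.Lib.lead.exists_subgroup_card_eq_of_isSolvable (G := C)
            hCm (Nat.Coprime.pow_right v hmcop)
          have hQC : Q'.map C.subtype ≤ C := Subgroup.map_subtype_le Q'
          have hQcard : Nat.card (Q'.map C.subtype) = m := by
            rw [Subgroup.card_map_of_injective C.subtype_injective, hQ']
          have hQp : ¬ p ∣ Nat.card (Q'.map C.subtype) := by
            rw [hQcard]; exact fun h => (Nat.Prime.coprime_iff_not_dvd hp).mp hmcop.symm h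
          have hQrel : (Q'.map C.subtype).relIndex C = p ^ v := by
            have := card_mul_relIndex hQC
            rw [hQcard, hCm] at this
            exact Nat.eq_of_mul_eq_mul_left hmpos this
          have hCidx : ∃ b, C.index = p ^ b := by
            have h1 : C.index = C.relIndex N := by
              rw [relIndex_eq_relIndex_sup_of_normal C N, hCN, Subgroup.relIndex_top_right]
            have h2 : C.relIndex N ∣ Nat.card N := Subgroup.relIndex_dvd_card C N
            obtain ⟨j, hj⟩ := IsPGroup.iff_card.mp hNp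
            rw [hj] at h2
            obtain ⟨b, -, hb⟩ := (Nat.dvd_prime_pow hp).mp h2
            exact ⟨b, h1.trans hb⟩
          obtain ⟨b, hb⟩ := hCidx
          refine ⟨Q'.map C.subtype, hQC, hQp, ⟨v + b, ?_⟩, ?_⟩
          · rw [← Subgroup.relIndex_mul_index hQC, hQrel, hb, pow_add]
          · apply le_normalizer_of_coprime_of_isNilpotent C _ hQC
            rw [hQrel, hQcard]; exact Nat.Coprime.pow_right v hmcop
        obtain ⟨Q₁, hQ₁C, hQ₁p, ⟨a₁, ha₁⟩, hQ₁n⟩ := hfact _ hC₁'c hL'
        obtain ⟨Q₂, hQ₂C, hQ₂p, ⟨a₂, ha₂⟩, hQ₂n⟩ := hfact C₂ hC₂ hL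
        have hc1 : ∀ a, (Nat.card Q₁).Coprime (p ^ a) := fun a =>
          Nat.Coprime.pow_right _ ((Nat.Prime.coprime_iff_not_dvd hp).mpr hQ₁p).symm
        have hc2 : ∀ a, (Nat.card Q₂).Coprime (p ^ a) := fun a =>
          Nat.Coprime.pow_right _ ((Nat.Prime.coprime_iff_not_dvd hp).mpr hQ₂p).symm
        have hcardeq : Nat.card Q₂ = Nat.card Q₁ := by
          have h1 := Subgroup.card_mul_index Q₁
          have h2 := Subgroup.card_mul_index Q₂
          rw [ha₁] at h1
          rw [ha₂] at h2
          have d1 : Nat.card Q₁ ∣ Nat.card Q₂ :=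
            (hc1 a₂).dvd_of_dvd_mul_right (h2 ▸ ⟨p ^ a₁, h1.symm⟩)
          have d2 : Nat.card Q₂ ∣ Nat.card Q₁ :=
            (hc2 a₁).dvd_of_dvd_mul_right (h1 ▸ ⟨p ^ a₂, h2.symm⟩)
          exact Nat.dvd_antisymm d2 d1
        have hQ₁Hall : (Nat.card Q₁).Coprime Q₁.index := by rw [ha₁]; exact hc1 a₁
        obtain ⟨g', hg'⟩ := Cfsg.Agent.Lib.lead.conj_of_coprime_of_isSolvable Q₁ Q₂ hQ₁Hall
          hcardeq
        rw [Cfsg.Agent.S0543.map_conj_eq_smul] at hg'
        have htopC : Cfsg.IsCarterSubgroup (⊤ : Subgroup (G ⧸ N)) := by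
          refine ⟨?_, Subgroup.normalizer_eq_top (H := (⊤ : Subgroup (G ⧸ N)))⟩
          have h1 : C₂.map π = ⊤ := by
            rw [← hmapsup C₂, hL, Subgroup.map_top_of_surjective π hπs]
          rw [← h1]; exact (himg C₂ hC₂).1
        obtain ⟨hM, -⟩ := isCarterSubgroup_normalizer_inf N hNp ⊤ htopC Q₂
          (by rw [Subgroup.comap_top]; exact le_top) hQ₂p
          ⟨a₂, by rw [Subgroup.comap_top, Subgroup.relIndex_top_right]; exact ha₂⟩
        rw [Subgroup.comap_top, inf_top_eq] at hM
        have e2 : C₂ = Subgroup.normalizer (Q₂ : Set G) :=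
          eq_of_le_of_normalizer_eq_of_isNilpotent hQ₂n hC₂.2 hM.1
        have hc'' : Cfsg.IsCarterSubgroup (MulAut.conj g' • (MulAut.conj g • C₁)) :=
          isCarterSubgroup_conj g' hC₁'c
        have hle'' : MulAut.conj g' • (MulAut.conj g • C₁) ≤ Subgroup.normalizer (Q₂ : Set G) := by
          intro y hy
          rw [mem_conj_smul_iff] at hy
          have h1 := hQ₁n hy
          rw [mem_normalizer_iff_conj_smul_eq] at h1 ⊢
          rw [hg', ← conj_mul_smul]
          have e : y * g' = g' * (g'⁻¹ * y * g') := by group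
          rw [e, conj_mul_smul, h1]
        have e1 : MulAut.conj g' • (MulAut.conj g • C₁) = Subgroup.normalizer (Q₂ : Set G) :=
          eq_of_le_of_normalizer_eq_of_isNilpotent hle'' hc''.2 hM.1
        exact ⟨g', by rw [e1, ← e2]⟩
      · obtain ⟨l, -, hl⟩ := hsub (C₂ ⊔ N) hL (MulAut.conj g • C₁) C₂ (hsupeq ▸ le_sup_left)
          le_sup_left hC₁'c hC₂
        exact ⟨l, hl⟩
    · rw [not_nontrivial_iff_subsingleton] at hG
      refine ⟨1, ?_⟩
      rw [conj_one_smul, Subgroup.eq_bot_of_subsingleton C₁, Subgroup.eq_bot_of_subsingleton C₂]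

end Cfsg.Agent.Lib.helper12
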