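import Mathlib
import Cfsg.Agent.S0543
import Cfsg.Agent.S0540
import Cfsg.Agent.Lib.lead.Hall
import Cfsg.Agent.Lib.helper12.Conj
import Cfsg.Agent.Lib.helper12.MinNormal
import Cfsg.Agent.Lib.helper12.SylowNormal
import Cfsg.Agent.Lib.helper12.Carter

/-!
Tools for "subgroups of the same order are conjugate" arguments in finite solvable groups
(used for S4022).
-/

set_option autoImplicit false

namespace Cfsg.Agent.Lib.helper12

open Pointwise

section SameOrder

variable {G : Type*} [Group G]

/-- In a finite cyclic group, two subgroups of the same order are equal. -/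
theorem so_eq_of_card_eq_of_isCyclic {α : Type*} [Group α] [Finite α] [IsCyclic α]
    (H K : Subgroup α) (h : Nat.card H = Nat.card K) : H = K := by
  classical
  have := Fintype.ofFinite α
  set n := Nat.card H with hn
  have hn0 : 0 < n := Nat.card_pos
  have key : ∀ L : Subgroup α, Nat.card L = n → (L : Set α) = {a : α | a ^ n = 1} := by
    intro L hL
    have hsub : (L : Set α) ⊆ {a : α | a ^ n = 1} := by
      intro x hx
      have h1 : (⟨x, hx⟩ : L) ^ Nat.card L = 1 := pow_card_eq_one'
      rw [hL] at h1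
      exact congrArg Subtype.val h1
    apply Set.eq_of_subset_of_ncard_le hsub ?_ (Set.toFinite _)
    have h1 := IsCyclic.card_pow_eq_one_le (α := α) hn0
    have h2 : {a : α | a ^ n = 1} = ↑(Finset.univ.filter (fun a : α => a ^ n = 1)) := by
      ext x; simp
    rw [h2, Set.ncard_coe_finset]
    have h3 : (L : Set α).ncard = Nat.card L := (Nat.card_coe_set_eq (L : Set α)).symm
    rw [h3]
    exact h1.trans hL.symm.le
  apply SetLike.coe_injective
  rw [key H rfl, key K h.symm]

/-- Two subgroups of the same order inside a cyclic subgroup are equal. -/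
theorem so_eq_of_le_cyclic [Finite G] (P H K : Subgroup G) [IsCyclic P] (hH : H ≤ P)
    (hK : K ≤ P) (h : Nat.card H = Nat.card K) : H = K := by
  have h1 : H.subgroupOf P = K.subgroupOf P := by
    apply so_eq_of_card_eq_of_isCyclic
    rw [Nat.card_congr (Subgroup.subgroupOfEquivOfLe hH).toEquiv,
      Nat.card_congr (Subgroup.subgroupOfEquivOfLe hK).toEquiv, h]
  ext x
  constructor
  · intro hx
    have : (⟨x, hH hx⟩ : P) ∈ H.subgroupOf P := by rw [Subgroup.mem_subgroupOf]; exact hx
    rw [h1, Subgroup.mem_subgroupOf] at this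
    exact this
  · intro hx
    have : (⟨x, hK hx⟩ : P) ∈ K.subgroupOf P := by rw [Subgroup.mem_subgroupOf]; exact hx
    rw [← h1, Subgroup.mem_subgroupOf] at this
    exact this

/-- The order of the image of `A` in `G ⧸ N`. -/
theorem so_card_map_mk [Finite G] (N : Subgroup G) [N.Normal] (A : Subgroup G) :
    Nat.card (A.map (QuotientGroup.mk' N)) * (A ⊔ N).index = Nat.card (G ⧸ N) := by
  have h1 := Subgroup.card_mul_index (A.map (QuotientGroup.mk' N))
  rw [Subgroup.index_map, QuotientGroup.ker_mk',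
    MonoidHom.range_eq_top.mpr (QuotientGroup.mk'_surjective N), Subgroup.index_top, mul_one] at h1
  exact h1

/-- Images of subgroups of the same order containing `N` have the same order. -/
theorem so_card_map_eq [Finite G] (N : Subgroup G) [N.Normal] (A B : Subgroup G) (hA : N ≤ A)
    (hB : N ≤ B) (h : Nat.card A = Nat.card B) :
    Nat.card (A.map (QuotientGroup.mk' N)) = Nat.card (B.map (QuotientGroup.mk' N)) := by
  have h1 := so_card_map_mk N A
  have h2 := so_card_map_mk N B
  rw [sup_of_le_left hA] at h1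
  rw [sup_of_le_left hB] at h2
  have h3 : A.index = B.index := by
    have ha := Subgroup.card_mul_index A
    have hb := Subgroup.card_mul_index B
    rw [h] at ha
    have hpos : 0 < Nat.card B := Nat.card_pos
    exact Nat.eq_of_mul_eq_mul_left hpos (ha.trans hb.symm)
  rw [h3] at h1
  have hpos : 0 < B.index := Nat.pos_of_ne_zero Subgroup.index_ne_zero_of_finite
  exact Nat.eq_of_mul_eq_mul_right hpos (h1.trans h2.symm)

/-- If `A ∩ N = 1` then the image of `A` in `G ⧸ N` has the order of `A`. -/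
theorem so_card_map_of_disjoint (N : Subgroup G) [N.Normal] (A : Subgroup G)
    (h : A ⊓ N = ⊥) : Nat.card (A.map (QuotientGroup.mk' N)) = Nat.card A := by
  have hinj : Function.Injective ((QuotientGroup.mk' N).comp A.subtype) := by
    rw [injective_iff_map_eq_one]
    intro a ha
    have h1 : (a : G) ∈ N := by
      rw [MonoidHom.comp_apply] at ha
      exact (QuotientGroup.eq_one_iff _).mp ha
    have h2 : (a : G) ∈ A ⊓ N := ⟨a.2, h1⟩
    rw [h] at h2
    exact Subtype.ext (Subgroup.mem_bot.mp h2)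
  have hr : A.map (QuotientGroup.mk' N) = ((QuotientGroup.mk' N).comp A.subtype).range := by
    rw [MonoidHom.range_comp, Subgroup.range_subtype]
  rw [hr]
  exact (Nat.card_congr (MonoidHom.ofInjective hinj).toEquiv).symm

/-- Lifting a conjugation from `G ⧸ N` for subgroups containing `N`. -/
theorem so_lift_conj (N : Subgroup G) [N.Normal] (A B : Subgroup G) (hA : N ≤ A) (hB : N ≤ B)
    (g : G) (h : B.map (QuotientGroup.mk' N) =
      MulAut.conj (QuotientGroup.mk' N g) • A.map (QuotientGroup.mk' N)) :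
    B = MulAut.conj g • A := by
  have h1 : (MulAut.conj g • A).map (QuotientGroup.mk' N) = B.map (QuotientGroup.mk' N) := by
    rw [map_conj_smul, h]
  have h2 := congrArg (Subgroup.comap (QuotientGroup.mk' N)) h1
  rw [Subgroup.comap_map_eq, Subgroup.comap_map_eq, QuotientGroup.ker_mk'] at h2
  have h3 : N ≤ MulAut.conj g • A := by
    have : MulAut.conj g • N = N := Subgroup.Normal.conj_smul_eq_self g N
    rw [← this]
    exact conj_smul_mono g hA
  rw [sup_of_le_left h3, sup_of_le_left hB] at h2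
  exact h2.symm

/-- Conjugating `A ∩ N` for normal `N`. -/
theorem so_conj_smul_inf_normal (g : G) (A N : Subgroup G) [hN : N.Normal] :
    MulAut.conj g • (A ⊓ N) = MulAut.conj g • A ⊓ N := by
  ext x
  rw [mem_conj_smul_iff, Subgroup.mem_inf, Subgroup.mem_inf, mem_conj_smul_iff]
  constructor
  · rintro ⟨h1, h2⟩
    refine ⟨h1, ?_⟩
    have := hN.conj_mem _ h2 g
    simpa [mul_assoc] using this
  · rintro ⟨h1, h2⟩
    refine ⟨h1, ?_⟩
    have := hN.conj_mem _ h2 g⁻¹
    simpa [mul_assoc] using this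

/-- `A` normalizes `A ∩ N` for normal `N`. -/
theorem so_le_normalizer_inf_normal (A N : Subgroup G) [hN : N.Normal] :
    A ≤ Subgroup.normalizer ((A ⊓ N : Subgroup G) : Set G) := by
  intro a ha
  rw [mem_normalizer_iff_conj_smul_eq, so_conj_smul_inf_normal,
    Subgroup.conj_smul_eq_self_of_mem ha]

/-- If `A ⊔ N = B ⊔ N`, `|A| = |B|` is prime to `|N|` and `G` is solvable, then `A` and `B`
are conjugate. -/
theorem so_conj_of_sup_eq [Finite G] [Group.IsSolvable G] (N : Subgroup G) [N.Normal]
    (A B : Subgroup G) (hcard : Nat.card A = Nat.card B)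
    (hcop : (Nat.card A).Coprime (Nat.card N)) (h : A ⊔ N = B ⊔ N) :
    ∃ x : G, B = MulAut.conj x • A := by
  set L : Subgroup G := A ⊔ N with hL
  have hAL : A ≤ L := le_sup_left
  have hBL : B ≤ L := by rw [h]; exact le_sup_left
  have h1 : Nat.card (A.subgroupOf L) = Nat.card A :=
    Nat.card_congr (Subgroup.subgroupOfEquivOfLe hAL).toEquiv
  have h2 : Nat.card (B.subgroupOf L) = Nat.card B :=
    Nat.card_congr (Subgroup.subgroupOfEquivOfLe hBL).toEquiv
  have h3 : (Nat.card (A.subgroupOf L)).Coprime (A.subgroupOf L).index := by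
    rw [h1]
    have : (A.subgroupOf L).index = A.relIndex N := by
      rw [relIndex_eq_relIndex_sup_of_normal A N]; rfl
    rw [this]
    exact Nat.Coprime.coprime_dvd_right (Subgroup.relIndex_dvd_card A N) hcop
  obtain ⟨m, hm⟩ := Cfsg.Agent.Lib.lead.conj_of_coprime_of_isSolvable (A.subgroupOf L)
    (B.subgroupOf L) h3 (by rw [h1, h2, hcard])
  refine ⟨(m : G), ?_⟩
  have h4 := congrArg (Subgroup.map L.subtype) hm
  rw [Cfsg.Agent.S0543.map_conj_eq_smul, Cfsg.Agent.S0540.map_subtype_conj_smul,
    Subgroup.subgroupOf_map_subtype, Subgroup.subgroupOf_map_subtype, inf_of_le_left hBL,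
    inf_of_le_left hAL] at h4
  exact h4

/-- Cyclic Sylow subgroups pass to quotients. -/
theorem so_cyclic_sylow_quot [Finite G] (N : Subgroup G) [N.Normal] (q : ℕ) [Fact q.Prime]
    (h : ∀ P : Sylow q G, IsCyclic P) : ∀ P : Sylow q (G ⧸ N), IsCyclic P := by
  intro P
  obtain ⟨P0, rfl⟩ := Sylow.mapSurjective_surjective (QuotientGroup.mk'_surjective N) q P
  have := h P0
  exact isCyclic_of_surjective ((QuotientGroup.mk' N).subgroupMap (P0 : Subgroup G))
    ((QuotientGroup.mk' N).subgroupMap_surjective _)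

/-- Cyclic Sylow subgroups pass to subgroups. -/
theorem so_cyclic_sylow_sub [Finite G] (q : ℕ) [Fact q.Prime]
    (h : ∀ P : Sylow q G, IsCyclic P) (M : Subgroup G) : ∀ P : Sylow q M, IsCyclic P := by
  intro P
  have hP' : IsPGroup q ((P : Subgroup M).map M.subtype) := P.2.map _
  obtain ⟨Q, hQ⟩ := hP'.exists_le_sylow
  have := h Q
  let φ : (P : Subgroup M) →* (Q : Subgroup G) :=
    { toFun := fun x => ⟨((x : M) : G), hQ ⟨(x : M), x.2, rfl⟩⟩
      map_one' := rfl
      map_mul' := fun _ _ => rfl }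
  have hφ : Function.Injective φ := by
    intro x y hxy
    have := congrArg Subtype.val hxy
    exact Subtype.ext (Subtype.ext this)
  exact isCyclic_of_injective φ hφ

/-- A minimal-type normal subgroup of exponent `p` inside a cyclic subgroup has order `p`. -/
theorem so_card_of_exponent_of_le_cyclic [Finite G] {p : ℕ} (hp : p.Prime) (N S : Subgroup G)
    [IsCyclic S] (hNS : N ≤ S) (hN : N ≠ ⊥) (hexp : ∀ x ∈ N, x ^ p = 1) : Nat.card N = p := by
  have : IsCyclic N := isCyclic_of_injective (Subgroup.inclusion hNS)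
    (Subgroup.inclusion_injective hNS)
  have h1 : Monoid.exponent N ∣ p :=
    Monoid.exponent_dvd_of_forall_pow_eq_one (fun g => Subtype.ext (by simpa using hexp g g.2))
  rw [IsCyclic.exponent_eq_card] at h1
  rcases (Nat.dvd_prime hp).mp h1 with h | h
  · exact absurd (Subgroup.card_eq_one.mp h) hN
  · exact h

/-- If a normal subgroup `N` of order `p` lies in a group with cyclic Sylow `p`-subgroups, then
every subgroup of order divisible by `p` contains `N`. -/
theorem so_le_of_dvd [Finite G] {p : ℕ} [hp : Fact p.Prime] (N : Subgroup G) [N.Normal]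
    (hNcard : Nat.card N = p) (hcyc : ∀ P : Sylow p G, IsCyclic P) (A : Subgroup G)
    (hpA : p ∣ Nat.card A) : N ≤ A := by
  obtain ⟨x, hx⟩ := exists_prime_orderOf_dvd_card' (G := A) p hpA
  have hy : orderOf (x : G) = p := by rw [Subgroup.orderOf_coe]; exact hx
  have hZcard : Nat.card (Subgroup.zpowers (x : G)) = p := by rw [Nat.card_zpowers, hy]
  have hZp : IsPGroup p (Subgroup.zpowers (x : G)) :=
    IsPGroup.of_card (n := 1) (by rw [hZcard, pow_one])
  have hNp : IsPGroup p N := IsPGroup.of_card (n := 1) (by rw [hNcard, pow_one])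
  have hsup : IsPGroup p (Subgroup.zpowers (x : G) ⊔ N : Subgroup G) :=
    IsPGroup.to_sup_of_normal_right hZp hNp
  obtain ⟨Q, hQ⟩ := hsup.exists_le_sylow
  have := hcyc Q
  have heq : Subgroup.zpowers (x : G) = N :=
    so_eq_of_le_cyclic (Q : Subgroup G) _ _ (le_sup_left.trans hQ) (le_sup_right.trans hQ)
      (hZcard.trans hNcard.symm)
  rw [← heq]
  exact (Subgroup.zpowers_le).mpr x.2

/-- A `p`-subgroup meets a subgroup of order prime to `p` trivially. -/
theorem so_inf_eq_bot_of_not_dvd [Finite G] {p : ℕ} [hp : Fact p.Prime] {N A : Subgroup G}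
    (hNp : IsPGroup p N) (h : ¬ p ∣ Nat.card A) : A ⊓ N = ⊥ := by
  obtain ⟨k, hk⟩ := IsPGroup.iff_card.mp hNp
  have h1 : Nat.card (A ⊓ N : Subgroup G) ∣ Nat.card A := Subgroup.card_dvd_of_le inf_le_left
  have h2 : Nat.card (A ⊓ N : Subgroup G) ∣ p ^ k := hk ▸ Subgroup.card_dvd_of_le inf_le_right
  obtain ⟨j, -, hj⟩ := (Nat.dvd_prime_pow hp.out).mp h2
  have hj0 : j = 0 := by
    by_contra hne
    apply h
    exact (dvd_pow_self p hne).trans (hj ▸ h1)
  rw [hj0, pow_zero] at hj
  exact Subgroup.card_eq_one.mp hj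

/-- If `N` is the only subgroup of its order `p ^ m` and `p ^ m` divides `|A|` then `N ≤ A`. -/
theorem so_le_of_pow_dvd [Finite G] {p : ℕ} [hp : Fact p.Prime] (N : Subgroup G) {m : ℕ}
    (hm : Nat.card N = p ^ m) (hU : ∀ T : Subgroup G, Nat.card T = Nat.card N → T = N)
    (A : Subgroup G) (hdiv : p ^ m ∣ Nat.card A) : N ≤ A := by
  obtain ⟨K0, hK0⟩ := Sylow.exists_subgroup_card_pow_prime p (G := A) hdiv
  have hT : Nat.card (K0.map A.subtype) = Nat.card N := by
    rw [Subgroup.card_map_of_injective A.subtype_injective, hK0, hm]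
  rw [← hU _ hT]
  exact Subgroup.map_subtype_le K0

/-- If `N` is the only subgroup of its order `p ^ m` and `p ^ m` does not divide `|A|` then
`A ∩ N` has the order of a Sylow `p`-subgroup of `A`. -/
theorem so_card_inf [Finite G] {p : ℕ} [hp : Fact p.Prime] (N : Subgroup G) {m : ℕ}
    (hm : Nat.card N = p ^ m) (hU : ∀ T : Subgroup G, Nat.card T = Nat.card N → T = N)
    (A : Subgroup G) (hdiv : ¬ p ^ m ∣ Nat.card A) :
    Nat.card (A ⊓ N : Subgroup G) = p ^ (Nat.card A).factorization p := by
  set a := (Nat.card A).factorization p with ha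
  have hAne : Nat.card A ≠ 0 := Nat.card_pos.ne'
  have ham : a ≤ m := by
    by_contra hcon
    push Not at hcon
    exact hdiv ((pow_dvd_pow p hcon.le).trans (Nat.ordProj_dvd _ _))
  obtain ⟨K0, hK0⟩ := Sylow.exists_subgroup_card_pow_prime p (G := A)
    (Nat.ordProj_dvd (Nat.card A) p)
  have hTcard : Nat.card (K0.map A.subtype) = p ^ a := by
    rw [Subgroup.card_map_of_injective A.subtype_injective, hK0]
  have hTA : K0.map A.subtype ≤ A := Subgroup.map_subtype_le K0
  have hdvdG : p ^ m ∣ Nat.card G := hm ▸ Subgroup.card_subgroup_dvd_card N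
  obtain ⟨T1, hT1, hTT1⟩ := Sylow.exists_subgroup_card_pow_prime_le p hdvdG
    (K0.map A.subtype) hTcard ham
  have hT1N : T1 = N := hU T1 (hT1.trans hm.symm)
  have hTle : K0.map A.subtype ≤ A ⊓ N := le_inf hTA (hT1N ▸ hTT1)
  have h2 : Nat.card (A ⊓ N : Subgroup G) ∣ p ^ m := hm ▸ Subgroup.card_dvd_of_le inf_le_right
  obtain ⟨j, -, hj⟩ := (Nat.dvd_prime_pow hp.out).mp h2
  have h1 : Nat.card (A ⊓ N : Subgroup G) ∣ Nat.card A := Subgroup.card_dvd_of_le inf_le_left
  have hja : j ≤ a := (Nat.Prime.pow_dvd_iff_le_factorization hp.out hAne).mp (hj ▸ h1)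
  have h3 : p ^ a ≤ p ^ j := by
    rw [← hTcard, ← hj]
    exact Subgroup.card_le_of_le hTle
  have haj : a ≤ j := (Nat.pow_le_pow_iff_right hp.out.one_lt).mp h3
  rw [hj, le_antisymm hja haj]

/-- The order of the preimage in `G` of a subgroup of `G ⧸ N`. -/
theorem so_card_comap [Finite G] (N : Subgroup G) [N.Normal] (Hb : Subgroup (G ⧸ N)) :
    Nat.card (Hb.comap (QuotientGroup.mk' N)) = Nat.card Hb * Nat.card N := by
  have h1 := Subgroup.card_mul_index (Hb.comap (QuotientGroup.mk' N))
  rw [Subgroup.index_comap_of_surjective Hb (QuotientGroup.mk'_surjective N)] at h1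
  have h2 := Subgroup.card_mul_index Hb
  have h3 := card_quotient_mul_card N
  have hpos : 0 < Hb.index := Nat.pos_of_ne_zero Subgroup.index_ne_zero_of_finite
  apply Nat.eq_of_mul_eq_mul_right hpos
  rw [h1, ← h3, ← h2]
  ring

/-- Every `q`-subgroup of `G ⧸ N`, `N` a `p`-group, is the image of a `q`-subgroup of `G` whose
order only depends on the order of the given subgroup. -/
theorem so_lift_pgroup [Finite G] (N : Subgroup G) [N.Normal] {p q : ℕ} [hp : Fact p.Prime]
    [hq : Fact q.Prime] (hNp : IsPGroup p N) (Hb : Subgroup (G ⧸ N)) (hH : IsPGroup q Hb) :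
    ∃ H' : Subgroup G, IsPGroup q H' ∧ H'.map (QuotientGroup.mk' N) = Hb ∧
      Nat.card H' = if q = p then Nat.card Hb * Nat.card N else Nat.card Hb := by
  obtain ⟨j, hj⟩ := IsPGroup.iff_card.mp hH
  obtain ⟨m, hm⟩ := IsPGroup.iff_card.mp hNp
  by_cases hqp : q = p
  · subst hqp
    refine ⟨Hb.comap (QuotientGroup.mk' N), ?_, ?_, ?_⟩
    · apply IsPGroup.of_card (n := j + m)
      rw [so_card_comap, hj, hm, pow_add]
    · exact Subgroup.map_comap_eq_self_of_surjective (QuotientGroup.mk'_surjective N) Hb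
    · rw [if_pos rfl, so_card_comap]
  · set H := Hb.comap (QuotientGroup.mk' N) with hHdef
    have hdvd : q ^ j ∣ Nat.card H := by
      rw [so_card_comap, hj]; exact dvd_mul_right _ _
    obtain ⟨K0, hK0⟩ := Sylow.exists_subgroup_card_pow_prime q (G := H) hdvd
    have hcard : Nat.card (K0.map H.subtype) = q ^ j := by
      rw [Subgroup.card_map_of_injective H.subtype_injective, hK0]
    have hle : K0.map H.subtype ≤ H := Subgroup.map_subtype_le K0
    have hqg : IsPGroup q (K0.map H.subtype) := IsPGroup.of_card hcard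
    have hnd : ¬ p ∣ Nat.card (K0.map H.subtype) := by
      rw [hcard]
      intro h
      exact hqp ((Nat.prime_dvd_prime_iff_eq hp.out hq.out).mp (hp.out.dvd_of_dvd_pow h)).symm
    have hdisj : K0.map H.subtype ⊓ N = ⊥ := so_inf_eq_bot_of_not_dvd hNp hnd
    have hc2 : Nat.card ((K0.map H.subtype).map (QuotientGroup.mk' N)) = q ^ j := by
      rw [so_card_map_of_disjoint N _ hdisj, hcard]
    have hle2 : (K0.map H.subtype).map (QuotientGroup.mk' N) ≤ Hb :=
      Subgroup.map_le_iff_le_comap.mpr hle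
    refine ⟨K0.map H.subtype, hqg, ?_, ?_⟩
    · exact Subgroup.eq_of_le_of_card_ge hle2 (by rw [hc2, hj])
    · rw [if_neg hqp, hcard, hj]

/-- The hypothesis "`q`-subgroups of the same order are conjugate" passes to the quotient by a
normal `p`-subgroup. -/
theorem so_hD_quot [Finite G] (N : Subgroup G) [N.Normal] {p : ℕ} [hp : Fact p.Prime]
    (hNp : IsPGroup p N)
    (hD : ∀ q : ℕ, q.Prime → ∀ H K : Subgroup G, IsPGroup q H → IsPGroup q K →
      Nat.card H = Nat.card K → ∃ g : G, K = MulAut.conj g • H) :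
    ∀ q : ℕ, q.Prime → ∀ H K : Subgroup (G ⧸ N), IsPGroup q H → IsPGroup q K →
      Nat.card H = Nat.card K → ∃ g : G ⧸ N, K = MulAut.conj g • H := by
  intro q hq H K hH hK hcard
  have : Fact q.Prime := ⟨hq⟩
  obtain ⟨H', hH'q, hH'map, hH'card⟩ := so_lift_pgroup N hNp H hH
  obtain ⟨K', hK'q, hK'map, hK'card⟩ := so_lift_pgroup N hNp K hK
  obtain ⟨g, hg⟩ := hD q hq H' K' hH'q hK'q (by rw [hH'card, hK'card, hcard])
  refine ⟨QuotientGroup.mk' N g, ?_⟩
  rw [← hK'map, hg, map_conj_smul, hH'map]

/-- If `|A| = |B|` is prime to `p`, `N` is a normal `p`-subgroup and the images of `A`, `B` in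
`G ⧸ N` are conjugate, then `A` and `B` are conjugate (`G` solvable). -/
theorem so_coprime_step [Finite G] [Group.IsSolvable G] (N : Subgroup G) [N.Normal] {p : ℕ}
    [hp : Fact p.Prime] (hNp : IsPGroup p N) (A B : Subgroup G)
    (hAB : Nat.card A = Nat.card B) (hpA : ¬ p ∣ Nat.card A) (g : G)
    (hg : B.map (QuotientGroup.mk' N) =
      MulAut.conj (QuotientGroup.mk' N g) • A.map (QuotientGroup.mk' N)) :
    ∃ x : G, B = MulAut.conj x • A := by
  have hmapeq : (MulAut.conj g • A).map (QuotientGroup.mk' N) = B.map (QuotientGroup.mk' N) := by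
    rw [map_conj_smul, ← hg]
  have hsupeq : MulAut.conj g • A ⊔ N = B ⊔ N := by
    have := congrArg (Subgroup.comap (QuotientGroup.mk' N)) hmapeq
    rwa [Subgroup.comap_map_eq, Subgroup.comap_map_eq, QuotientGroup.ker_mk'] at this
  obtain ⟨k, hk⟩ := IsPGroup.iff_card.mp hNp
  have hcop : (Nat.card (MulAut.conj g • A : Subgroup G)).Coprime (Nat.card N) := by
    rw [card_conj_smul, hk]
    exact Nat.Coprime.pow_right k ((Nat.Prime.coprime_iff_not_dvd hp.out).mpr hpA).symm
  obtain ⟨x, hx⟩ := so_conj_of_sup_eq N (MulAut.conj g • A) B ((card_conj_smul g A).trans hAB)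
    hcop hsupeq
  exact ⟨x * g, by rw [hx, conj_mul_smul]⟩

/-- In a finite solvable group whose Sylow `q`-subgroups are cyclic for all primes `q ≠ r`, two
subgroups of the same order prime to `r` are conjugate. -/
theorem so_zconj.{u} : ∀ (n : ℕ) (G : Type u) [Group G] [Finite G] [Group.IsSolvable G],
    Nat.card G = n → ∀ (r : ℕ), (∀ q : ℕ, q.Prime → q ≠ r → ∀ P : Sylow q G, IsCyclic P) →
    ∀ A B : Subgroup G, Nat.card A = Nat.card B → ¬ r ∣ Nat.card A →
    ∃ g : G, B = MulAut.conj g • A := by
  intro n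
  induction n using Nat.strong_induction_on with
  | _ n ih =>
    intro G _ _ _ hn r hcyc A B hAB hr
    by_cases hG : Nontrivial G
    · obtain ⟨N, hNne, hNn, hmin⟩ := exists_minimal_normal (G := G)
      obtain ⟨p, hp, hexp⟩ := minimal_normal_exponent N hNne hmin
      have hfp : Fact p.Prime := ⟨hp⟩
      have hNp : IsPGroup p N := fun y =>
        ⟨1, by rw [pow_one]; exact Subtype.ext (by simpa using hexp y y.2)⟩
      have hπs : Function.Surjective (QuotientGroup.mk' N) := QuotientGroup.mk'_surjective N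
      have hlt : Nat.card (G ⧸ N) < n := hn ▸ card_quotient_lt N hNne
      have hcyc' : ∀ q : ℕ, q.Prime → q ≠ r → ∀ P : Sylow q (G ⧸ N), IsCyclic P := by
        intro q hq hqr
        have : Fact q.Prime := ⟨hq⟩
        exact so_cyclic_sylow_quot N q (hcyc q hq hqr)
      have hr' : ¬ r ∣ Nat.card (A.map (QuotientGroup.mk' N)) :=
        fun h => hr (h.trans (Subgroup.card_map_dvd A _))
      by_cases hpA : p ∣ Nat.card A
      · have hpr : p ≠ r := by rintro rfl; exact hr hpA
        obtain ⟨Q, hQ⟩ := hNp.exists_le_sylow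
        have hQc := hcyc p hp hpr Q
        have hNcard : Nat.card N = p :=
          so_card_of_exponent_of_le_cyclic hp N (Q : Subgroup G) hQ hNne hexp
        have hNA : N ≤ A := so_le_of_dvd N hNcard (hcyc p hp hpr) A hpA
        have hNB : N ≤ B := so_le_of_dvd N hNcard (hcyc p hp hpr) B (hAB ▸ hpA)
        obtain ⟨gb, hgb⟩ := ih _ hlt (G ⧸ N) rfl r hcyc' (A.map (QuotientGroup.mk' N))
          (B.map (QuotientGroup.mk' N)) (so_card_map_eq N A B hNA hNB hAB) hr'
        obtain ⟨g, rfl⟩ := hπs gb
        exact ⟨g, so_lift_conj N A B hNA hNB g hgb⟩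
      · have hAN : A ⊓ N = ⊥ := so_inf_eq_bot_of_not_dvd hNp hpA
        have hBN : B ⊓ N = ⊥ := so_inf_eq_bot_of_not_dvd hNp (hAB ▸ hpA)
        have hc : Nat.card (A.map (QuotientGroup.mk' N)) =
            Nat.card (B.map (QuotientGroup.mk' N)) := by
          rw [so_card_map_of_disjoint N A hAN, so_card_map_of_disjoint N B hBN, hAB]
        obtain ⟨gb, hgb⟩ := ih _ hlt (G ⧸ N) rfl r hcyc' (A.map (QuotientGroup.mk' N))
          (B.map (QuotientGroup.mk' N)) hc hr'
        obtain ⟨g, rfl⟩ := hπs gb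
        exact so_coprime_step N hNp A B hAB hpA g hgb
    · rw [not_nontrivial_iff_subsingleton] at hG
      refine ⟨1, ?_⟩
      rw [conj_one_smul]
      ext x
      rw [Subsingleton.elim x 1]
      simp

/-- If `A` and `B` have the same order, share the normal Sylow `p`-subgroup `T`, and the Sylow
`q`-subgroups of `G` are cyclic for `q ≠ p`, then `A` and `B` are conjugate. -/
theorem so_conj_of_common_normal_sylow [Finite G] [Group.IsSolvable G] {p : ℕ}
    [hp : Fact p.Prime] (hcyc : ∀ q : ℕ, q.Prime → q ≠ p → ∀ P : Sylow q G, IsCyclic P)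
    (A B T : Subgroup G) (hTA : T ≤ A) (hTB : T ≤ B)
    (hAn : A ≤ Subgroup.normalizer (T : Set G)) (hBn : B ≤ Subgroup.normalizer (T : Set G))
    (hcard : Nat.card A = Nat.card B) (hT : Nat.card T = p ^ (Nat.card A).factorization p) :
    ∃ m : G, B = MulAut.conj m • A := by
  have key : ∀ C : Subgroup G, T ≤ C → C ≤ Subgroup.normalizer (T : Set G) →
      Nat.card C = Nat.card A →
      ∃ D : Subgroup G, D ≤ C ∧ T ⊔ D = C ∧ Nat.card T * Nat.card D = Nat.card C := by
    intro C hTC hCn hCcard
    have : (T.subgroupOf C).Normal := (Subgroup.normal_subgroupOf_iff_le_normalizer hTC).mpr hCn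
    have hc1 : Nat.card (T.subgroupOf C) = Nat.card T :=
      Nat.card_congr (Subgroup.subgroupOfEquivOfLe hTC).toEquiv
    have hidx : Nat.card (T.subgroupOf C) * (T.subgroupOf C).index = Nat.card C :=
      Subgroup.card_mul_index _
    have hcop : (Nat.card (T.subgroupOf C)).Coprime (T.subgroupOf C).index := by
      have h1 : (T.subgroupOf C).index = Nat.card A / p ^ (Nat.card A).factorization p := by
        rw [hc1, hT, hCcard] at hidx
        exact (Nat.div_eq_of_eq_mul_right (pow_pos hp.out.pos _) hidx.symm).symm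
      rw [hc1, hT, h1]
      exact Nat.Coprime.pow_left _ (Nat.coprime_ordCompl hp.out Nat.card_pos.ne')
    obtain ⟨D', hD'⟩ := Subgroup.exists_right_complement'_of_coprime hcop
    refine ⟨D'.map C.subtype, Subgroup.map_subtype_le D', ?_, ?_⟩
    · have := congrArg (Subgroup.map C.subtype) hD'.sup_eq_top
      rw [Subgroup.map_sup, Subgroup.subgroupOf_map_subtype, inf_of_le_left hTC,
        ← MonoidHom.range_eq_map, Subgroup.range_subtype] at this
      exact this
    · rw [Subgroup.card_map_of_injective C.subtype_injective, ← hc1]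
      exact hD'.card_mul_card
  obtain ⟨D1, hD1A, hD1sup, hD1card⟩ := key A hTA hAn rfl
  obtain ⟨D2, hD2B, hD2sup, hD2card⟩ := key B hTB hBn hcard.symm
  have hD1M : D1 ≤ Subgroup.normalizer (T : Set G) := hD1A.trans hAn
  have hD2M : D2 ≤ Subgroup.normalizer (T : Set G) := hD2B.trans hBn
  have hTpos : 0 < Nat.card T := Nat.card_pos
  have hDcard : Nat.card D1 = Nat.card D2 := by
    apply Nat.eq_of_mul_eq_mul_left hTpos
    rw [hD1card, hD2card, hcard]
  have hnd : ¬ p ∣ Nat.card D1 := by
    intro h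
    have h1 : p ^ ((Nat.card A).factorization p + 1) ∣ Nat.card A := by
      have h0 : p ^ (Nat.card A).factorization p * p ∣ Nat.card T * Nat.card D1 := by
        rw [hT]; exact Nat.mul_dvd_mul_left _ h
      rw [hD1card] at h0
      rw [pow_succ]; exact h0
    have h2 := (Nat.Prime.pow_dvd_iff_le_factorization hp.out Nat.card_pos.ne').mp h1
    omega
  have hcycM : ∀ q : ℕ, q.Prime → q ≠ p →
      ∀ P : Sylow q (Subgroup.normalizer (T : Set G)), IsCyclic P := by
    intro q hq hqp
    have : Fact q.Prime := ⟨hq⟩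
    exact so_cyclic_sylow_sub q (hcyc q hq hqp) _
  have hc1 : Nat.card (D1.subgroupOf (Subgroup.normalizer (T : Set G))) = Nat.card D1 :=
    Nat.card_congr (Subgroup.subgroupOfEquivOfLe hD1M).toEquiv
  have hc2 : Nat.card (D2.subgroupOf (Subgroup.normalizer (T : Set G))) = Nat.card D2 :=
    Nat.card_congr (Subgroup.subgroupOfEquivOfLe hD2M).toEquiv
  obtain ⟨m, hm⟩ := so_zconj _ (Subgroup.normalizer (T : Set G)) rfl p hcycM
    (D1.subgroupOf _) (D2.subgroupOf _) (by rw [hc1, hc2, hDcard]) (by rw [hc1]; exact hnd)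
  refine ⟨(m : G), ?_⟩
  have h1 := congrArg (Subgroup.map (Subgroup.normalizer (T : Set G)).subtype) hm
  rw [Subgroup.subgroupOf_map_subtype, Cfsg.Agent.S0540.map_subtype_conj_smul,
    Subgroup.subgroupOf_map_subtype, inf_of_le_left hD2M, inf_of_le_left hD1M] at h1
  have hmT : MulAut.conj (m : G) • T = T := mem_normalizer_iff_conj_smul_eq.mp m.2
  rw [← hD2sup, h1, ← hD1sup, conj_smul_sup, hmT]

/-- Main theorem: in a finite solvable group in which `q`-subgroups of the same order are
conjugate for every prime `q`, and whose Sylow `q`-subgroups are cyclic for all primes `q ≠ r`,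
any two subgroups of the same order are conjugate. -/
theorem so_main.{u} : ∀ (n : ℕ) (G : Type u) [Group G] [Finite G] [Group.IsSolvable G],
    Nat.card G = n → ∀ (r : ℕ),
    (∀ q : ℕ, q.Prime → ∀ H K : Subgroup G, IsPGroup q H → IsPGroup q K →
      Nat.card H = Nat.card K → ∃ g : G, K = MulAut.conj g • H) →
    (∀ q : ℕ, q.Prime → q ≠ r → ∀ P : Sylow q G, IsCyclic P) →
    ∀ A B : Subgroup G, Nat.card A = Nat.card B → ∃ g : G, B = MulAut.conj g • A := by
  intro n
  induction n using Nat.strong_induction_on with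
  | _ n ih =>
    intro G _ _ _ hn r hD hcyc A B hAB
    by_cases hG : Nontrivial G
    · obtain ⟨N, hNne, hNn, hmin⟩ := exists_minimal_normal (G := G)
      obtain ⟨p, hp, hexp⟩ := minimal_normal_exponent N hNne hmin
      have hfp : Fact p.Prime := ⟨hp⟩
      have hNp : IsPGroup p N := fun y =>
        ⟨1, by rw [pow_one]; exact Subtype.ext (by simpa using hexp y y.2)⟩
      obtain ⟨m, hm⟩ := IsPGroup.iff_card.mp hNp
      have hπs : Function.Surjective (QuotientGroup.mk' N) := QuotientGroup.mk'_surjective N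
      have hlt : Nat.card (G ⧸ N) < n := hn ▸ card_quotient_lt N hNne
      have hcyc' : ∀ q : ℕ, q.Prime → q ≠ r → ∀ P : Sylow q (G ⧸ N), IsCyclic P := by
        intro q hq hqr
        have : Fact q.Prime := ⟨hq⟩
        exact so_cyclic_sylow_quot N q (hcyc q hq hqr)
      have hD' := so_hD_quot N hNp hD
      have hU : ∀ T : Subgroup G, Nat.card T = Nat.card N → T = N := by
        intro T hT
        have hTp : IsPGroup p T := IsPGroup.of_card (hT.trans hm)
        obtain ⟨g, hg⟩ := hD p hp N T hNp hTp hT.symm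
        rw [hg, Subgroup.Normal.conj_smul_eq_self]
      by_cases hdiv : p ^ m ∣ Nat.card A
      · have hNA : N ≤ A := so_le_of_pow_dvd N hm hU A hdiv
        have hNB : N ≤ B := so_le_of_pow_dvd N hm hU B (hAB ▸ hdiv)
        obtain ⟨gb, hgb⟩ := ih _ hlt (G ⧸ N) rfl r hD' hcyc' (A.map (QuotientGroup.mk' N))
          (B.map (QuotientGroup.mk' N)) (so_card_map_eq N A B hNA hNB hAB)
        obtain ⟨g, rfl⟩ := hπs gb
        exact ⟨g, so_lift_conj N A B hNA hNB g hgb⟩
      · by_cases hpr : p = r
        · subst hpr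
          have hcA := so_card_inf N hm hU A hdiv
          have hcB := so_card_inf N hm hU B (hAB ▸ hdiv)
          obtain ⟨g, hg⟩ := hD p hp (A ⊓ N) (B ⊓ N) (hNp.to_le inf_le_right)
            (hNp.to_le inf_le_right) (by rw [hcA, hcB, hAB])
          have hA'N : MulAut.conj g • A ⊓ N = B ⊓ N := by rw [hg, so_conj_smul_inf_normal]
          have hA'card : Nat.card (MulAut.conj g • A : Subgroup G) = Nat.card A :=
            card_conj_smul g A
          have h1 : B ⊓ N ≤ MulAut.conj g • A := by rw [← hA'N]; exact inf_le_left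
          have h2 : MulAut.conj g • A ≤ Subgroup.normalizer ((B ⊓ N : Subgroup G) : Set G) := by
            rw [← hA'N]; exact so_le_normalizer_inf_normal _ N
          obtain ⟨x, hx⟩ := so_conj_of_common_normal_sylow (fun q hq hqp => hcyc q hq hqp)
            (MulAut.conj g • A) B (B ⊓ N) h1 inf_le_left h2 (so_le_normalizer_inf_normal B N)
            (hA'card.trans hAB) (by rw [hA'card, hcB, hAB])
          exact ⟨x * g, by rw [hx, conj_mul_smul]⟩
        · obtain ⟨Q, hQ⟩ := hNp.exists_le_sylow
          have hQc := hcyc p hp hpr Q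
          have hNcard : Nat.card N = p :=
            so_card_of_exponent_of_le_cyclic hp N (Q : Subgroup G) hQ hNne hexp
          have hpA : ¬ p ∣ Nat.card A := by
            intro h
            apply hdiv
            have hm1 : p ^ m = p := hm.symm.trans hNcard
            rw [hm1]; exact h
          have hAN : A ⊓ N = ⊥ := so_inf_eq_bot_of_not_dvd hNp hpA
          have hBN : B ⊓ N = ⊥ := so_inf_eq_bot_of_not_dvd hNp (hAB ▸ hpA)
          have hc : Nat.card (A.map (QuotientGroup.mk' N)) =
              Nat.card (B.map (QuotientGroup.mk' N)) := by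
            rw [so_card_map_of_disjoint N A hAN, so_card_map_of_disjoint N B hBN, hAB]
          obtain ⟨gb, hgb⟩ := ih _ hlt (G ⧸ N) rfl r hD' hcyc' (A.map (QuotientGroup.mk' N))
            (B.map (QuotientGroup.mk' N)) hc
          obtain ⟨g, rfl⟩ := hπs gb
          exact so_coprime_step N hNp A B hAB hpA g hgb
    · rw [not_nontrivial_iff_subsingleton] at hG
      refine ⟨1, ?_⟩
      rw [conj_one_smul]
      ext x
      rw [Subsingleton.elim x 1]
      simp

/-- `so_main` with conjugation written as `Subgroup.map (MulAut.conj g).toMonoidHom`. -/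
theorem so_main_map {G : Type*} [Group G] [Finite G] [Group.IsSolvable G]
    (hD : ∀ p : ℕ, p.Prime → ∀ H K : Subgroup G, IsPGroup p H → IsPGroup p K →
      Nat.card H = Nat.card K → ∃ g : G, K = H.map (MulAut.conj g).toMonoidHom)
    (r : ℕ) (hcyc : ∀ p : ℕ, p.Prime → p ≠ r → ∀ P : Sylow p G, IsCyclic P) :
    ∀ H K : Subgroup G, Nat.card H = Nat.card K →
      ∃ g : G, K = H.map (MulAut.conj g).toMonoidHom := by
  intro H K hHK
  have hD' : ∀ q : ℕ, q.Prime → ∀ H K : Subgroup G, IsPGroup q H → IsPGroup q K →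
      Nat.card H = Nat.card K → ∃ g : G, K = MulAut.conj g • H := by
    intro q hq H K hH hK hc
    obtain ⟨g, hg⟩ := hD q hq H K hH hK hc
    exact ⟨g, by rw [hg, Cfsg.Agent.S0543.map_conj_eq_smul]⟩
  obtain ⟨g, hg⟩ := so_main _ G rfl r hD' hcyc H K hHK
  exact ⟨g, by rw [hg, Cfsg.Agent.S0543.map_conj_eq_smul]⟩

end SameOrder

end Cfsg.Agent.Lib.helper12
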