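import Mathlib
import Cfsg.Agent.Lib.helper95.APDefs

/-!
S2276 piece INTV (racing copy by helper12), core: `h12_intv_core` = the statement of `intv`
with the statement of GPC as a hypothesis.

Construction: `b := (FW 0 l₁)⁻¹ * FW l₁ l₂ * FW (l₁ + l₂) l₃ * ⋯`, where `FW s l` is the forward
cycle `x ↦ x + 1` on `[s, s + l)` (last ↦ first).  Only the first interval is reversed.
-/

set_option autoImplicit false
set_option linter.unusedVariables false
set_option linter.unusedSectionVars false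

namespace Cfsg.Agent.Lib.helper95.AP

open Equiv

/-- the embedding `x ↦ s + x` of `Fin l` into `Fin M` -/
def h12_emb (M s l : ℕ) (h : s + l ≤ M) : Fin l ↪ Fin M where
  toFun x := ⟨s + x.val, by have := x.isLt; omega⟩
  inj' := by
    intro x y hxy
    have h1 := congrArg Fin.val hxy
    simp only at h1
    exact Fin.ext (by omega)

theorem h12_emb_val (M s l : ℕ) (h : s + l ≤ M) (x : Fin l) :
    ((h12_emb M s l h x : Fin M) : ℕ) = s + x.val := rfl

/-- the forward cycle on `[s, s + l)` -/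
def h12_FW (M s l : ℕ) : Perm (Fin M) :=
  if h : s + l ≤ M ∧ 1 ≤ l then (finRotate l).viaFintypeEmbedding (h12_emb M s l h.1) else 1

theorem h12_FW_val (M s l : ℕ) (h : s + l ≤ M) (hl : 1 ≤ l) (z : Fin M) :
    ((h12_FW M s l z : Fin M) : ℕ) =
      if s ≤ z.val ∧ z.val + 1 < s + l then z.val + 1
      else if z.val + 1 = s + l then s else z.val := by
  unfold h12_FW
  rw [dif_pos ⟨h, hl⟩]
  by_cases hz : s ≤ z.val ∧ z.val < s + l
  · obtain ⟨k, hk, rfl⟩ : ∃ (k : ℕ) (hk : k < l), z = h12_emb M s l h ⟨k, hk⟩ :=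
      ⟨z.val - s, by omega, Fin.ext (by rw [h12_emb_val]; show z.val = s + (z.val - s); omega)⟩
    rw [Equiv.Perm.viaFintypeEmbedding_apply_image, h12_emb_val, h12_emb_val]
    obtain ⟨n, rfl⟩ : ∃ n, l = n + 1 := ⟨l - 1, by omega⟩
    rw [coe_finRotate]
    simp only [Fin.ext_iff, Fin.val_last]
    split_ifs <;> omega
  · rw [Equiv.Perm.viaFintypeEmbedding_apply_notMem_range]
    · rw [if_neg (by omega), if_neg (by omega)]
    · rintro ⟨x, hx⟩
      have h1 := congrArg Fin.val hx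
      rw [h12_emb_val] at h1
      have h2 := x.isLt
      omega

theorem h12_FW_fix (M s l : ℕ) (z : Fin M) (hz : z.val < s ∨ s + l ≤ z.val) :
    h12_FW M s l z = z := by
  by_cases h : s + l ≤ M ∧ 1 ≤ l
  · apply Fin.ext
    rw [h12_FW_val M s l h.1 h.2, if_neg (by omega), if_neg (by omega)]
  · unfold h12_FW
    rw [dif_neg h]
    rfl

theorem h12_FW_ge (M s l : ℕ) (z : Fin M) (hz : s ≤ z.val) : s ≤ (h12_FW M s l z).val := by
  by_cases h : s + l ≤ M ∧ 1 ≤ l
  · rw [h12_FW_val M s l h.1 h.2]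
    split_ifs <;> omega
  · unfold h12_FW
    rw [dif_neg h]
    exact hz

theorem h12_FW_succ_ne (M s l : ℕ) (hl : 3 ≤ l) (z : Fin M) :
    (h12_FW M s l z).val + 1 ≠ z.val := by
  by_cases h : s + l ≤ M ∧ 1 ≤ l
  · rw [h12_FW_val M s l h.1 h.2]
    split_ifs <;> omega
  · unfold h12_FW
    rw [dif_neg h]
    show z.val + 1 ≠ z.val
    omega

theorem h12_FW_mod (M s l p : ℕ) (hs : p ∣ s) (hl : p ∣ l) (z : Fin M) :
    (h12_FW M s l z).val % p = z.val % p ∨ (h12_FW M s l z).val % p = (z.val + 1) % p := by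
  by_cases h : s + l ≤ M ∧ 1 ≤ l
  · rw [h12_FW_val M s l h.1 h.2]
    split_ifs with h1 h2
    · right; rfl
    · right
      obtain ⟨c, rfl⟩ := hl
      rw [h2, Nat.add_mul_mod_self_left]
    · left; rfl
  · unfold h12_FW
    rw [dif_neg h]
    left; rfl

theorem h12_FW_cycleType (M s l : ℕ) (h : s + l ≤ M) (hl : 2 ≤ l) :
    (h12_FW M s l).cycleType = {l} := by
  unfold h12_FW
  rw [dif_pos ⟨h, by omega⟩, Equiv.Perm.viaFintypeEmbedding, Equiv.Perm.cycleType_extendDomain,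
    cycleType_finRotate_of_le hl]

/-- forward cycles on consecutive intervals starting at `s` -/
def h12_FWs (M : ℕ) : List ℕ → ℕ → Perm (Fin M)
  | [], _ => 1
  | l :: L, s => h12_FW M s l * h12_FWs M L (s + l)

theorem h12_FWs_lt (M : ℕ) (L : List ℕ) : ∀ (s : ℕ) (z : Fin M), z.val < s →
    h12_FWs M L s z = z := by
  induction L with
  | nil => intro s z _; rfl
  | cons l L ih =>
    intro s z hz
    show h12_FW M s l (h12_FWs M L (s + l) z) = z
    rw [ih (s + l) z (by omega)]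
    exact h12_FW_fix M s l z (Or.inl hz)

theorem h12_FWs_ge (M : ℕ) (L : List ℕ) : ∀ (s : ℕ) (z : Fin M), s ≤ z.val →
    s ≤ (h12_FWs M L s z).val := by
  induction L with
  | nil => intro s z hz; exact hz
  | cons l L ih =>
    intro s z hz
    show s ≤ (h12_FW M s l (h12_FWs M L (s + l) z)).val
    by_cases h : z.val < s + l
    · rw [h12_FWs_lt M L (s + l) z h]
      exact h12_FW_ge M s l z hz
    · have h1 := ih (s + l) z (by omega)
      exact h12_FW_ge M s l _ (by omega)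

theorem h12_FWs_cons_apply (M : ℕ) (l : ℕ) (L : List ℕ) (s : ℕ) (z : Fin M) :
    h12_FWs M (l :: L) s z = if z.val < s + l then h12_FW M s l z else h12_FWs M L (s + l) z := by
  show h12_FW M s l (h12_FWs M L (s + l) z) = _
  split_ifs with h
  · rw [h12_FWs_lt M L (s + l) z h]
  · have h1 := h12_FWs_ge M L (s + l) z (by omega)
    exact h12_FW_fix M s l _ (Or.inr h1)

theorem h12_FWs_succ_ne (M : ℕ) (L : List ℕ) : ∀ (s : ℕ), (∀ l ∈ L, 3 ≤ l) → ∀ z : Fin M,
    (h12_FWs M L s z).val + 1 ≠ z.val := by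
  induction L with
  | nil =>
    intro s _ z
    show z.val + 1 ≠ z.val
    omega
  | cons l L ih =>
    intro s hL z
    rw [h12_FWs_cons_apply]
    split_ifs with h
    · exact h12_FW_succ_ne M s l (hL l List.mem_cons_self) z
    · exact ih (s + l) (fun l' hl' => hL l' (List.mem_cons_of_mem _ hl')) z

theorem h12_FWs_mod (M p : ℕ) (L : List ℕ) : ∀ (s : ℕ), p ∣ s → (∀ l ∈ L, p ∣ l) → ∀ z : Fin M,
    (h12_FWs M L s z).val % p = z.val % p ∨ (h12_FWs M L s z).val % p = (z.val + 1) % p := by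
  induction L with
  | nil =>
    intro s _ _ z
    left; rfl
  | cons l L ih =>
    intro s hs hL z
    rw [h12_FWs_cons_apply]
    split_ifs with h
    · exact h12_FW_mod M s l p hs (hL l List.mem_cons_self) z
    · exact ih (s + l) (dvd_add hs (hL l List.mem_cons_self))
        (fun l' hl' => hL l' (List.mem_cons_of_mem _ hl')) z

theorem h12_FWs_cycleType (M : ℕ) (L : List ℕ) : ∀ (s : ℕ), s + L.sum ≤ M → (∀ l ∈ L, 2 ≤ l) →
    (h12_FWs M L s).cycleType = (L : Multiset ℕ) := by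
  induction L with
  | nil =>
    intro s _ _
    show (1 : Perm (Fin M)).cycleType = _
    rw [Equiv.Perm.cycleType_one]
    rfl
  | cons l L ih =>
    intro s hs hL
    rw [List.sum_cons] at hs
    show (h12_FW M s l * h12_FWs M L (s + l)).cycleType = _
    have hd : Equiv.Perm.Disjoint (h12_FW M s l) (h12_FWs M L (s + l)) := by
      intro z
      by_cases h : z.val < s + l
      · right
        exact h12_FWs_lt M L (s + l) z h
      · left
        exact h12_FW_fix M s l z (Or.inr (by omega))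
    rw [hd.cycleType_mul, h12_FW_cycleType M s l (by omega) (hL l List.mem_cons_self),
      ih (s + l) (by omega) (fun l' hl' => hL l' (List.mem_cons_of_mem _ hl')),
      Multiset.singleton_add, Multiset.cons_coe]

/-- the value of the rotation -/
theorem h12_rot_val (M : ℕ) (w : Fin M) :
    ((finRotate M w : Fin M) : ℕ) = if w.val + 1 = M then 0 else w.val + 1 := by
  obtain ⟨N, rfl⟩ : ∃ N, M = N + 1 := ⟨M - 1, by have := w.isLt; omega⟩
  rw [coe_finRotate]
  simp only [Fin.ext_iff, Fin.val_last]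
  split_ifs <;> omega

/-- INTV for a general modulus `M = p ^ e`; `hgpc` is the statement of GPC. -/
theorem h12_intv_gen (p : ℕ) (hp : p.Prime) (hp3 : 3 ≤ p) (e M : ℕ) (hM : M = p ^ e)
    (hgpc : ∀ (b : Perm (Fin M)) (x y : Fin M),
      ((p ^ (e - 1) : ℕ) : ℤ) ∣ ((x : ℕ) : ℤ) - ((y : ℕ) : ℤ) →
      ¬ (p : ℤ) ∣ (((b x : Fin M) : ℕ) : ℤ) - (((b y : Fin M) : ℕ) : ℤ) →
      ∀ f : ℕ,
        (Finset.univ.filter (fun z : Fin M => (finRotate M * b) z = z)).card = f →
        2 ≤ f → ¬ p ∣ f → Good p (finRotate M) b)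
    (L : List ℕ) (hL0 : L ≠ [])
    (hpow : ∀ l ∈ L, ∃ j : ℕ, 1 ≤ j ∧ l = p ^ j ∧ l < p ^ e)
    (hsum : L.sum ≤ M) :
    ∃ b : Perm (Fin M), b.cycleType = (L : Multiset ℕ) ∧ GoodBoth p (finRotate M) b := by
  obtain ⟨l₁, L', rfl⟩ := List.exists_cons_of_ne_nil hL0
  rw [List.sum_cons] at hsum
  have hp2 : 2 ≤ p := by omega
  have hpart : ∀ l ∈ l₁ :: L', 3 ≤ l ∧ p ∣ l ∧ l ≤ p ^ (e - 1) ∧ 2 ≤ e := by
    intro l hl
    obtain ⟨j, hj1, rfl, hlt⟩ := hpow l hl
    have hje : j < e := (Nat.pow_lt_pow_iff_right (by omega)).mp hlt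
    refine ⟨?_, dvd_pow_self p (by omega), Nat.pow_le_pow_right (by omega) (by omega), by omega⟩
    calc 3 ≤ p := hp3
      _ = p ^ 1 := (pow_one p).symm
      _ ≤ p ^ j := Nat.pow_le_pow_right (by omega) hj1
  obtain ⟨hl3, hpl, hle, he2⟩ := hpart l₁ List.mem_cons_self
  have hL' : ∀ l ∈ L', 3 ≤ l ∧ p ∣ l := fun l hl =>
    ⟨(hpart l (List.mem_cons_of_mem _ hl)).1, (hpart l (List.mem_cons_of_mem _ hl)).2.1⟩
  -- arithmetic of `M`
  obtain ⟨P, hP⟩ : ∃ P : ℕ, P = p ^ (e - 1) := ⟨_, rfl⟩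
  have hMP : M = p * P := by
    rw [hM, hP, ← pow_succ']
    congr 1
    omega
  have hPpos : 1 ≤ P := by rw [hP]; exact Nat.one_le_pow _ _ (by omega)
  have hpP : p ∣ P := by rw [hP]; exact dvd_pow_self p (by omega)
  obtain ⟨Y, hY⟩ : ∃ Y : ℕ, Y = (p - 1) * P := ⟨_, rfl⟩
  have hYM : Y + P = M := by
    have h := Nat.succ_mul (p - 1) P
    rw [Nat.succ_eq_add_one, Nat.sub_add_cancel (by omega : 1 ≤ p)] at h
    rw [hY, hMP]
    exact h.symm
  have hPY : P ≤ Y := by rw [hY]; exact Nat.le_mul_of_pos_left P (by omega)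
  have hpY : p ∣ Y := by rw [hY]; exact Dvd.dvd.mul_left hpP _
  have hl₁P : l₁ ≤ P := by rw [hP]; exact hle
  have hl₁M : 0 + l₁ ≤ M := by omega
  -- the permutation
  obtain ⟨b, hbdef⟩ : ∃ b : Perm (Fin M), b = (h12_FW M 0 l₁)⁻¹ * h12_FWs M L' l₁ := ⟨_, rfl⟩
  have hb_ge : ∀ z : Fin M, l₁ ≤ z.val → b z = h12_FWs M L' l₁ z := by
    intro z hz
    rw [hbdef]
    show (h12_FW M 0 l₁)⁻¹ (h12_FWs M L' l₁ z) = _
    rw [Equiv.Perm.inv_eq_iff_eq]
    have h1 := h12_FWs_ge M L' l₁ z hz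
    exact (h12_FW_fix M 0 l₁ _ (Or.inr (by omega))).symm
  have hb_lt : ∀ z : Fin M, z.val < l₁ → b z = (h12_FW M 0 l₁)⁻¹ z := by
    intro z hz
    rw [hbdef]
    show (h12_FW M 0 l₁)⁻¹ (h12_FWs M L' l₁ z) = _
    rw [h12_FWs_lt M L' l₁ z hz]
  have hb_pos : ∀ z : Fin M, 1 ≤ z.val → z.val < l₁ → (b z).val + 1 = z.val := by
    intro z hz1 hz2
    rw [hb_lt z hz2]
    have h1 : (h12_FW M 0 l₁)⁻¹ z = ⟨z.val - 1, by have := z.isLt; omega⟩ := by
      rw [Equiv.Perm.inv_eq_iff_eq]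
      apply Fin.ext
      rw [h12_FW_val M 0 l₁ hl₁M (by omega)]
      simp only [Fin.val_mk]
      rw [if_pos (by omega)]
      omega
    rw [h1]
    show z.val - 1 + 1 = z.val
    omega
  have hb_zero : ∀ z : Fin M, z.val = 0 → (b z).val = l₁ - 1 := by
    intro z hz
    rw [hb_lt z (by omega)]
    have h1 : (h12_FW M 0 l₁)⁻¹ z = ⟨l₁ - 1, by omega⟩ := by
      rw [Equiv.Perm.inv_eq_iff_eq]
      apply Fin.ext
      rw [h12_FW_val M 0 l₁ hl₁M (by omega)]
      simp only [Fin.val_mk]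
      rw [if_neg (by omega), if_pos (by omega)]
      exact hz
    rw [h1]
  -- cycle type
  have hcyc : b.cycleType = ((l₁ :: L' : List ℕ) : Multiset ℕ) := by
    rw [hbdef]
    have hd : Equiv.Perm.Disjoint ((h12_FW M 0 l₁)⁻¹) (h12_FWs M L' l₁) := by
      intro z
      by_cases h : z.val < l₁
      · right
        exact h12_FWs_lt M L' l₁ z h
      · left
        rw [Equiv.Perm.inv_eq_iff_eq]
        exact (h12_FW_fix M 0 l₁ z (Or.inr (by omega))).symm
    rw [hd.cycleType_mul, Equiv.Perm.cycleType_inv, h12_FW_cycleType M 0 l₁ hl₁M (by omega),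
      h12_FWs_cycleType M L' l₁ (by omega) (fun l hl => by have := (hL' l hl).1; omega),
      Multiset.singleton_add, Multiset.cons_coe]
  -- fixed points of the product
  have hfix : (Finset.univ.filter (fun z : Fin M => (finRotate M * b) z = z)).card = l₁ - 1 := by
    have hset : Finset.univ.filter (fun z : Fin M => (finRotate M * b) z = z)
        = Finset.univ.filter (fun z : Fin M => 1 ≤ z.val ∧ z.val < l₁) := by
      apply Finset.filter_congr
      intro z _
      show finRotate M (b z) = z ↔ _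
      rw [Fin.ext_iff, h12_rot_val]
      have hzM := z.isLt
      by_cases hz0 : z.val = 0
      · have h1 := hb_zero z hz0
        rw [h1]
        split_ifs <;> omega
      · by_cases hz1 : z.val < l₁
        · have h1 := hb_pos z (by omega) hz1
          split_ifs <;> omega
        · have h1 := h12_FWs_succ_ne M L' l₁ (fun l hl => (hL' l hl).1) z
          rw [hb_ge z (by omega)]
          split_ifs <;> omega
    rw [hset, ← Nat.card_Ico 1 l₁]
    apply Finset.card_bij (fun z _ => z.val)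
    · intro z hz
      rw [Finset.mem_filter] at hz
      exact Finset.mem_Ico.mpr hz.2
    · intro z₁ _ z₂ _ h
      exact Fin.ext h
    · intro k hk
      rw [Finset.mem_Ico] at hk
      exact ⟨⟨k, by omega⟩, by rw [Finset.mem_filter]; exact ⟨Finset.mem_univ _, hk⟩, rfl⟩
  -- the witness
  obtain ⟨x, hx⟩ : ∃ x : Fin M, x.val = 0 := ⟨⟨0, by omega⟩, rfl⟩
  obtain ⟨y, hy⟩ : ∃ y : Fin M, y.val = Y := ⟨⟨Y, by omega⟩, rfl⟩
  have hxy : ((p ^ (e - 1) : ℕ) : ℤ) ∣ ((x : ℕ) : ℤ) - ((y : ℕ) : ℤ) := by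
    rw [hx, hy, ← hP]
    have h1 : (P : ℤ) ∣ (Y : ℤ) := by
      rw [hY]
      exact Int.natCast_dvd_natCast.mpr (Dvd.intro_left _ rfl)
    rw [Nat.cast_zero, zero_sub, dvd_neg]
    exact h1
  have hbxy : ¬ (p : ℤ) ∣ (((b x : Fin M) : ℕ) : ℤ) - (((b y : Fin M) : ℕ) : ℤ) := by
    intro hdiv
    have h1 : (b y).val ≡ (b x).val [MOD p] := (Nat.modEq_iff_dvd).mpr hdiv
    have h2 : (b x).val = l₁ - 1 := hb_zero x hx
    have h3 := h12_FWs_mod M p L' l₁ hpl (fun l hl => (hL' l hl).2) y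
    rw [← hb_ge y (by omega)] at h3
    unfold Nat.ModEq at h1
    rw [h2] at h1
    obtain ⟨c, hc⟩ := hpl
    obtain ⟨d, hd⟩ := hpY
    have h4 : (l₁ - 1) % p = p - 1 := by
      have hc1 : 1 ≤ c := by
        rcases Nat.eq_zero_or_pos c with h0 | h0
        · rw [h0, Nat.mul_zero] at hc
          omega
        · exact h0
      have h7 : p * c = p * (c - 1) + p := by
        rw [← Nat.mul_succ]
        congr 1
        omega
      have h8 : l₁ - 1 = p * (c - 1) + (p - 1) := by omega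
      rw [h8, Nat.mul_add_mod, Nat.mod_eq_of_lt (by omega)]
    have h5 : y.val % p = 0 := by rw [hy, hd, Nat.mul_mod_right]
    have h6 : (y.val + 1) % p = 1 := by
      rw [hy, hd, Nat.mul_add_mod, Nat.mod_eq_of_lt (by omega)]
    rw [h5, h6] at h3
    omega
  have hgood : Good p (finRotate M) b :=
    hgpc b x y hxy hbxy (l₁ - 1) hfix (by omega) (by
      intro hdvd
      have h1 : p ∣ l₁ - (l₁ - 1) := Nat.dvd_sub hpl hdvd
      have h2 : l₁ - (l₁ - 1) = 1 := by omega
      rw [h2] at h1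
      have := Nat.le_of_dvd (by omega) h1
      omega)
  -- the odd companion
  have hcent : ¬ (Subgroup.centralizer {b} ≤ alternatingGroup (Fin M)) := by
    rw [Equiv.Perm.centralizer_le_alternating_iff]
    rintro ⟨-, hcard, hcount⟩
    rw [hcyc] at hcard hcount
    rw [Fintype.card_fin, Multiset.sum_coe, List.sum_cons] at hcard
    have hnodup : (l₁ :: L').Nodup := by
      rw [List.nodup_iff_count_le_one]
      intro a
      have := hcount a
      rwa [Multiset.coe_count] at this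
    have hsub : (l₁ :: L').toFinset ⊆ (Finset.Ico 1 e).image (fun j => p ^ j) := by
      intro l hl
      rw [List.mem_toFinset] at hl
      obtain ⟨j, hj1, rfl, hlt⟩ := hpow l hl
      have hje : j < e := (Nat.pow_lt_pow_iff_right (by omega)).mp hlt
      exact Finset.mem_image.mpr ⟨j, Finset.mem_Ico.mpr ⟨hj1, hje⟩, rfl⟩
    have hsum1 : (l₁ :: L').sum = ∑ x ∈ (l₁ :: L').toFinset, x := by
      rw [List.sum_toFinset _ hnodup]
      simp
    have hsum2 : ∑ x ∈ (l₁ :: L').toFinset, x ≤ ∑ j ∈ Finset.Ico 1 e, p ^ j := by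
      calc ∑ x ∈ (l₁ :: L').toFinset, x
          ≤ ∑ x ∈ (Finset.Ico 1 e).image (fun j => p ^ j), x :=
            Finset.sum_le_sum_of_subset hsub
        _ = ∑ j ∈ Finset.Ico 1 e, p ^ j :=
            Finset.sum_image (fun a _ b _ h => Nat.pow_right_injective hp2 h)
    have hgeo : ∑ j ∈ insert 0 (Finset.Ico 1 e), p ^ j < p ^ e :=
      Nat.geomSum_lt hp2 (by
        intro k hk
        rw [Finset.mem_insert, Finset.mem_Ico] at hk
        rcases hk with rfl | hk <;> omega)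
    rw [Finset.sum_insert (by simp), pow_zero] at hgeo
    rw [List.sum_cons] at hsum1
    omega
  obtain ⟨τ, hτc, hτa⟩ : ∃ τ ∈ Subgroup.centralizer {b}, τ ∉ alternatingGroup (Fin M) := by
    by_contra h
    apply hcent
    intro τ hτ
    by_contra h2
    exact h ⟨τ, hτ, h2⟩
  have hτb : τ * b * τ⁻¹ = b := by
    have h1 := Subgroup.mem_centralizer_iff.mp hτc b (Set.mem_singleton b)
    rw [← h1, mul_inv_cancel_right]
  have hsign : Equiv.Perm.sign τ = -1 := by
    rcases Int.units_eq_one_or (Equiv.Perm.sign τ) with h | h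
    · exact absurd (Equiv.Perm.mem_alternatingGroup.mpr h) hτa
    · exact h
  exact ⟨b, hcyc, hgood, τ, hsign, by rw [hτb]; exact hgood⟩

/-- INTV, core: `hgpc` is the statement of GPC (`gpc p hp hp3 e he` for this `p`, `e`).
The sortedness hypothesis of `intv` is not needed. -/
theorem h12_intv_core (p : ℕ) (hp : p.Prime) (hp3 : 3 ≤ p) (e : ℕ)
    (hgpc : ∀ (b : Perm (Fin (p ^ e))) (x y : Fin (p ^ e)),
      ((p ^ (e - 1) : ℕ) : ℤ) ∣ ((x : ℕ) : ℤ) - ((y : ℕ) : ℤ) →
      ¬ (p : ℤ) ∣ (((b x : Fin (p ^ e)) : ℕ) : ℤ) - (((b y : Fin (p ^ e)) : ℕ) : ℤ) →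
      ∀ f : ℕ,
        (Finset.univ.filter (fun z : Fin (p ^ e) => (finRotate (p ^ e) * b) z = z)).card = f →
        2 ≤ f → ¬ p ∣ f → Good p (finRotate (p ^ e)) b)
    (L : List ℕ) (hL0 : L ≠ [])
    (hpow : ∀ l ∈ L, ∃ j : ℕ, 1 ≤ j ∧ l = p ^ j ∧ l < p ^ e)
    (hsum : L.sum ≤ p ^ e) :
    ∃ b : Perm (Fin (p ^ e)), b.cycleType = (L : Multiset ℕ) ∧
      GoodBoth p (finRotate (p ^ e)) b :=
  h12_intv_gen p hp hp3 e (p ^ e) rfl hgpc L hL0 hpow hsum

end Cfsg.Agent.Lib.helper95.AP
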