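import Mathlib
import Cfsg.Agent.Lib.helper95.APDefs
import Cfsg.Agent.Lib.helper4.APPORD
import Cfsg.Agent.Lib.helper4.APNS
import Cfsg.Agent.Lib.helper98.APPRIM
import Cfsg.Agent.Lib.helper7.APGPCcore
import Cfsg.Agent.Lib.helper12.APINTVcore

/-!
S2276 piece INTV (racing copy by helper12): `h12_intv` = verbatim Skel statement of `intv` under a
prefixed name, from `h12_intv_core` and the landed pieces PORD, NS, PRIM and helper7's GPC core
(`h12_gpc` is a racing copy of the Skel statement of `gpc`).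
-/

set_option autoImplicit false
set_option linter.unusedVariables false
set_option linter.unusedSectionVars false

namespace Cfsg.Agent.Lib.helper95.AP

open Equiv

/-- [GPC] (racing copy) good pair criterion, from PORD, NS, PRIM and `helper7_gpc_core` -/
theorem h12_gpc (p : ℕ) (hp : p.Prime) (hp3 : 3 ≤ p) (e : ℕ) (he : 1 ≤ e) (b : Perm (Fin (p ^ e)))
    (x y : Fin (p ^ e)) (hxy : ((p ^ (e - 1) : ℕ) : ℤ) ∣ ((x : ℕ) : ℤ) - ((y : ℕ) : ℤ))
    (hbxy : ¬ (p : ℤ) ∣ (((b x : Fin (p ^ e)) : ℕ) : ℤ) - (((b y : Fin (p ^ e)) : ℕ) : ℤ))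
    (f : ℕ)
    (hf : (Finset.univ.filter (fun z : Fin (p ^ e) => (finRotate (p ^ e) * b) z = z)).card = f)
    (hf2 : 2 ≤ f) (hfp : ¬ p ∣ f) : Good p (finRotate (p ^ e)) b := by
  have hm : 2 ≤ p ^ e := by
    calc 2 ≤ p := by omega
      _ = p ^ 1 := (pow_one p).symm
      _ ≤ p ^ e := Nat.pow_le_pow_right (by omega) he
  exact helper7_gpc_core p hp e he b (fun g h => pord p hp g h)
    (fun H hprim hsol g hg => (ns hm H hprim hsol).2 g hg)
    (prim p hp e he _ (Subgroup.subset_closure (by simp)) b (Subgroup.subset_closure (by simp))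
      x y hxy hbxy) f hf hf2 hfp

/-- [INTV] (racing copy) interval model: a permutation of `Fin (p^e)` with cycle type `L` forming
a good pair with the rotation -/
theorem h12_intv (p : ℕ) (hp : p.Prime) (hp3 : 3 ≤ p) (e : ℕ) (L : List ℕ) (hL0 : L ≠ [])
    (hsort : L.Pairwise (· ≥ ·)) (hpow : ∀ l ∈ L, ∃ j : ℕ, 1 ≤ j ∧ l = p ^ j ∧ l < p ^ e)
    (hsum : L.sum ≤ p ^ e) :
    ∃ b : Perm (Fin (p ^ e)), b.cycleType = (L : Multiset ℕ) ∧ GoodBoth p (finRotate (p ^ e)) b := by
  have he : 1 ≤ e := by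
    obtain ⟨l₁, L', rfl⟩ := List.exists_cons_of_ne_nil hL0
    obtain ⟨j, hj1, rfl, hlt⟩ := hpow l₁ List.mem_cons_self
    have hje : j < e := (Nat.pow_lt_pow_iff_right (by omega)).mp hlt
    omega
  exact h12_intv_core p hp hp3 e
    (fun b x y hxy hbxy f hf hf2 hfp => h12_gpc p hp hp3 e he b x y hxy hbxy f hf hf2 hfp)
    L hL0 hpow hsum

end Cfsg.Agent.Lib.helper95.AP
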