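import Mathlib
import Cfsg.Agent.S3908
import Cfsg.Agent.S3909
import Cfsg.Agent.Lib.helper12.SameOrder

/-!
Finite groups in which abelian subgroups of the same order are conjugate ("B-groups"):
closure under quotients for solvable groups (used for S3912).
-/

set_option autoImplicit false

namespace Cfsg.Agent.Lib.helper12

open Pointwise

section BGroup

/-- `BG G`: any two abelian subgroups of `G` of the same order are conjugate. -/
def BG (G : Type*) [Group G] : Prop :=
  ∀ A B : Subgroup G, IsMulCommutative ↥A → IsMulCommutative ↥B → Nat.card ↥A = Nat.card ↥B →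
    ∃ g : G, B = A.map (MulAut.conj g).toMonoidHom

variable {G : Type*} [Group G]

theorem bg_smul (hB : BG G) (A B : Subgroup G) (hA : ∀ x ∈ A, ∀ y ∈ A, x * y = y * x)
    (hBc : ∀ x ∈ B, ∀ y ∈ B, x * y = y * x) (h : Nat.card A = Nat.card B) :
    ∃ g : G, B = MulAut.conj g • A := by
  have hA' : IsMulCommutative A := ⟨⟨fun a b => Subtype.ext (hA a a.2 b b.2)⟩⟩
  have hB' : IsMulCommutative B := ⟨⟨fun a b => Subtype.ext (hBc a a.2 b b.2)⟩⟩
  obtain ⟨g, hg⟩ := hB A B hA' hB' h
  exact ⟨g, by rw [hg, Cfsg.Agent.S0543.map_conj_eq_smul]⟩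

theorem bg_of_smul (h : ∀ A B : Subgroup G, (∀ x ∈ A, ∀ y ∈ A, x * y = y * x) →
    (∀ x ∈ B, ∀ y ∈ B, x * y = y * x) → Nat.card A = Nat.card B →
    ∃ g : G, B = MulAut.conj g • A) : BG G := by
  intro A B hA hB hc
  obtain ⟨g, hg⟩ := h A B (fun x hx y hy => setLike_mul_comm hx hy)
    (fun x hx y hy => setLike_mul_comm hx hy) hc
  exact ⟨g, by rw [hg, Cfsg.Agent.S0543.map_conj_eq_smul]⟩

/-- In a B-group, a normal subgroup containing an element of order `orderOf a` contains `a`. -/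
theorem bg_mem_of_orderOf [Finite G] (hB : BG G) (M : Subgroup G) [M.Normal] {m a : G}
    (hm : m ∈ M) (h : orderOf m = orderOf a) : a ∈ M :=
  (Cfsg.Agent.S3909.result hB M).1 a ⟨m, hm, h⟩

/-- The B-property is invariant under isomorphism. -/
theorem bg_transport {G' : Type*} [Group G'] (hB : BG G) (e : G ≃* G') : BG G' := by
  apply bg_of_smul
  intro A B hA hBc hc
  have hinj : Function.Injective e.symm.toMonoidHom := e.symm.injective
  obtain ⟨g, hg⟩ := bg_smul hB (A.map e.symm.toMonoidHom) (B.map e.symm.toMonoidHom)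
    (by
      rintro _ ⟨x, hx, rfl⟩ _ ⟨y, hy, rfl⟩
      rw [← map_mul, ← map_mul, hA x hx y hy])
    (by
      rintro _ ⟨x, hx, rfl⟩ _ ⟨y, hy, rfl⟩
      rw [← map_mul, ← map_mul, hBc x hx y hy])
    (by rw [Subgroup.card_map_of_injective hinj, Subgroup.card_map_of_injective hinj, hc])
  refine ⟨e g, ?_⟩
  have h1 := congrArg (Subgroup.map e.toMonoidHom) hg
  rw [map_conj_smul, Subgroup.map_map, Subgroup.map_map] at h1
  have h2 : e.toMonoidHom.comp e.symm.toMonoidHom = MonoidHom.id G' := by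
    ext x; simp
  rw [h2, Subgroup.map_id, Subgroup.map_id] at h1
  exact h1

/-- Descending a conjugation of full preimages to the quotient. -/
theorem bg_quot_conj (N : Subgroup G) [N.Normal] (Ab Bb : Subgroup (G ⧸ N)) (g : G)
    (h : Bb.comap (QuotientGroup.mk' N) = MulAut.conj g • Ab.comap (QuotientGroup.mk' N)) :
    Bb = MulAut.conj (QuotientGroup.mk' N g) • Ab := by
  have hs : Function.Surjective (QuotientGroup.mk' N) := QuotientGroup.mk'_surjective N
  have h1 := congrArg (Subgroup.map (QuotientGroup.mk' N)) h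
  rw [map_conj_smul, Subgroup.map_comap_eq_self_of_surjective hs,
    Subgroup.map_comap_eq_self_of_surjective hs] at h1
  exact h1

/-- Schur–Zassenhaus complement of a normal Hall subgroup `T` of `C`, as subgroups of `G`. -/
theorem bg_complement [Finite G] (T C : Subgroup G) (hTC : T ≤ C)
    (hn : ∀ c ∈ C, ∀ t ∈ T, c * t * c⁻¹ ∈ T)
    (hcop : (Nat.card T).Coprime (Nat.card C / Nat.card T)) :
    ∃ D : Subgroup G, D ≤ C ∧ T ⊔ D = C ∧ Nat.card T * Nat.card D = Nat.card C := by
  have hTn : (T.subgroupOf C).Normal := by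
    constructor
    intro t ht c
    rw [Subgroup.mem_subgroupOf] at ht ⊢
    exact hn c c.2 t ht
  have hc1 : Nat.card (T.subgroupOf C) = Nat.card T :=
    Nat.card_congr (Subgroup.subgroupOfEquivOfLe hTC).toEquiv
  have hidx : Nat.card (T.subgroupOf C) * (T.subgroupOf C).index = Nat.card C :=
    Subgroup.card_mul_index _
  have hcop' : (Nat.card (T.subgroupOf C)).Coprime (T.subgroupOf C).index := by
    have h1 : (T.subgroupOf C).index = Nat.card C / Nat.card T := by
      rw [hc1] at hidx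
      exact (Nat.div_eq_of_eq_mul_right Nat.card_pos hidx.symm).symm
    rw [hc1, h1]
    exact hcop
  obtain ⟨D', hD'⟩ := Subgroup.exists_right_complement'_of_coprime hcop'
  refine ⟨D'.map C.subtype, Subgroup.map_subtype_le D', ?_, ?_⟩
  · have := congrArg (Subgroup.map C.subtype) hD'.sup_eq_top
    rw [Subgroup.map_sup, Subgroup.subgroupOf_map_subtype, inf_of_le_left hTC,
      ← MonoidHom.range_eq_map, Subgroup.range_subtype] at this
    exact this
  · rw [Subgroup.card_map_of_injective C.subtype_injective, ← hc1]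
    exact hD'.card_mul_card

theorem bg_le_comap (N : Subgroup G) [N.Normal] (Cb : Subgroup (G ⧸ N)) :
    N ≤ Cb.comap (QuotientGroup.mk' N) := by
  intro x hx
  rw [Subgroup.mem_comap]
  have : QuotientGroup.mk' N x = 1 := (QuotientGroup.eq_one_iff x).mpr hx
  rw [this]; exact Cb.one_mem

/-- Elements of the preimage of an abelian subgroup of `G ⧸ N` commute modulo `N`. -/
theorem bg_comm_mem (N : Subgroup G) [N.Normal] (Cb : Subgroup (G ⧸ N))
    (hCc : ∀ x ∈ Cb, ∀ y ∈ Cb, x * y = y * x) {x y : G}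
    (hx : x ∈ Cb.comap (QuotientGroup.mk' N)) (hy : y ∈ Cb.comap (QuotientGroup.mk' N)) :
    (y * x)⁻¹ * (x * y) ∈ N := by
  have h1 : QuotientGroup.mk' N x * QuotientGroup.mk' N y =
      QuotientGroup.mk' N y * QuotientGroup.mk' N x := hCc _ hx _ hy
  have h2 : (QuotientGroup.mk' N (y * x)) = QuotientGroup.mk' N (x * y) := by
    rw [map_mul, map_mul, h1]
  exact QuotientGroup.eq.mp h2

/-- Case 1 of the quotient closure: `N` a normal `p`-subgroup, abelian subgroups of `G ⧸ N` of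
the same order prime to `p` are conjugate. -/
theorem bg_quot_case1 [Finite G] (hB : BG G) (N : Subgroup G) [hNn : N.Normal] {p : ℕ}
    [hp : Fact p.Prime] (hNp : IsPGroup p N) (Ab Bb : Subgroup (G ⧸ N))
    (hA : ∀ x ∈ Ab, ∀ y ∈ Ab, x * y = y * x) (hBc : ∀ x ∈ Bb, ∀ y ∈ Bb, x * y = y * x)
    (hc : Nat.card Ab = Nat.card Bb) (hpA : ¬ p ∣ Nat.card Ab) :
    ∃ g : G ⧸ N, Bb = MulAut.conj g • Ab := by
  have key : ∀ Cb : Subgroup (G ⧸ N), (∀ x ∈ Cb, ∀ y ∈ Cb, x * y = y * x) → ¬ p ∣ Nat.card Cb →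
      ∃ D : Subgroup G, N ⊔ D = Cb.comap (QuotientGroup.mk' N) ∧ Nat.card D = Nat.card Cb ∧
        ∀ x ∈ D, ∀ y ∈ D, x * y = y * x := by
    intro Cb hCc hpC
    have hNC : N ≤ Cb.comap (QuotientGroup.mk' N) := bg_le_comap N Cb
    have hCcard : Nat.card (Cb.comap (QuotientGroup.mk' N)) = Nat.card Cb * Nat.card N :=
      so_card_comap N Cb
    obtain ⟨k, hk⟩ := IsPGroup.iff_card.mp hNp
    have hcop : (Nat.card N).Coprime (Nat.card (Cb.comap (QuotientGroup.mk' N)) / Nat.card N) := by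
      rw [hCcard, Nat.mul_div_cancel _ Nat.card_pos, hk]
      exact Nat.Coprime.pow_left k ((Nat.Prime.coprime_iff_not_dvd hp.out).mpr hpC)
    obtain ⟨D, hDC, hsup, hcard⟩ := bg_complement N _ hNC
      (fun c _ t ht => hNn.conj_mem t ht c) hcop
    have hDcard : Nat.card D = Nat.card Cb := by
      have : Nat.card N * Nat.card D = Nat.card N * Nat.card Cb := by
        rw [hcard, hCcard, mul_comm]
      exact Nat.eq_of_mul_eq_mul_left Nat.card_pos this
    have hDN : D ⊓ N = ⊥ := so_inf_eq_bot_of_not_dvd hNp (hDcard ▸ hpC)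
    refine ⟨D, hsup, hDcard, ?_⟩
    intro x hx y hy
    have h2 : (y * x)⁻¹ * (x * y) ∈ N := bg_comm_mem N Cb hCc (hDC hx) (hDC hy)
    have h3 : (y * x)⁻¹ * (x * y) ∈ D ⊓ N :=
      ⟨D.mul_mem (D.inv_mem (D.mul_mem hy hx)) (D.mul_mem hx hy), h2⟩
    rw [hDN, Subgroup.mem_bot] at h3
    exact (inv_mul_eq_one.mp h3).symm
  obtain ⟨D1, hD1sup, hD1card, hD1c⟩ := key Ab hA hpA
  obtain ⟨D2, hD2sup, hD2card, hD2c⟩ := key Bb hBc (hc ▸ hpA)
  obtain ⟨g, hg⟩ := bg_smul hB D1 D2 hD1c hD2c (by rw [hD1card, hD2card, hc])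
  refine ⟨QuotientGroup.mk' N g, bg_quot_conj N Ab Bb g ?_⟩
  rw [← hD2sup, ← hD1sup, conj_smul_sup, Subgroup.Normal.conj_smul_eq_self g N, hg]

/-- Commutators with a central commutator are linear in the left variable. -/
theorem bg_pow_conj_left {x y c : G} (h : x * y * x⁻¹ = c * y) (hcx : Commute c x) (k : ℕ) :
    x ^ k * y * (x ^ k)⁻¹ = c ^ k * y := by
  induction k with
  | zero => simp
  | succ k ih =>
    have h1 : x ^ (k + 1) * y * (x ^ (k + 1))⁻¹ = x * (x ^ k * y * (x ^ k)⁻¹) * x⁻¹ := by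
      rw [pow_succ']; group
    rw [h1, ih]
    have h2 : x * (c ^ k * y) * x⁻¹ = (x * c ^ k * x⁻¹) * (x * y * x⁻¹) := by group
    have h3 : x * c ^ k * x⁻¹ = c ^ k := by
      have : Commute (c ^ k) x := hcx.pow_left k
      rw [← this.eq, mul_inv_cancel_right]
    rw [h2, h3, h, pow_succ, mul_assoc]

/-- Commutators with a central commutator are linear in the right variable. -/
theorem bg_pow_conj_right {x y c : G} (h : x * y * x⁻¹ = c * y) (hcy : Commute c y) (k : ℕ) :
    x * y ^ k * x⁻¹ = c ^ k * y ^ k := by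
  rw [← conj_pow, h, hcy.mul_pow]

/-- A subgroup of prime order is generated by any of its nontrivial elements. -/
theorem bg_zpowers_eq [Finite G] {p : ℕ} [hp : Fact p.Prime] (N : Subgroup G)
    (hN : Nat.card N = p) {b : G} (hb : b ∈ N) (hb1 : b ≠ 1) : Subgroup.zpowers b = N := by
  apply Subgroup.eq_of_le_of_card_ge (Subgroup.zpowers_le.mpr hb)
  rw [Nat.card_zpowers, hN]
  have h1 : orderOf b ∣ p := by
    have := Subgroup.card_dvd_of_le (Subgroup.zpowers_le.mpr hb)
    rwa [Nat.card_zpowers, hN] at this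
  rcases (Nat.dvd_prime hp.out).mp h1 with h | h
  · exact absurd (orderOf_eq_one_iff.mp h) hb1
  · exact h.ge

theorem bg_pow_eq_one_of_mem [Finite G] {p : ℕ} (N : Subgroup G)
    (hN : Nat.card N = p) {c : G} (hc : c ∈ N) : c ^ p = 1 := by
  have h1 : (⟨c, hc⟩ : N) ^ Nat.card N = 1 := pow_card_eq_one'
  rw [hN] at h1
  have h2 := congrArg Subtype.val h1
  simpa using h2

/-- `N` of prime order `p` is central in `A` if commutators of `A` lie in `N` and some
`p ^ i`-th power (`i ≥ 1`) of an element of `A` is a nontrivial element of `N`. -/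
theorem bg_central [Finite G] {p : ℕ} [hp : Fact p.Prime] (N A : Subgroup G)
    (hN : Nat.card N = p) (hcomm : ∀ u ∈ A, ∀ v ∈ A, u * v * u⁻¹ * v⁻¹ ∈ N)
    {x : G} (hx : x ∈ A) {i : ℕ} (hi : 1 ≤ i) (hb : x ^ p ^ i ∈ N) (hb1 : x ^ p ^ i ≠ 1) :
    ∀ n ∈ N, ∀ g ∈ A, g * n = n * g := by
  have hz := bg_zpowers_eq N hN hb hb1
  have key : ∀ g ∈ A, g * x ^ p ^ i * g⁻¹ = x ^ p ^ i := by
    intro g hg
    have hc : g * x * g⁻¹ * x⁻¹ ∈ N := hcomm g hg x hx
    have hcx : Commute (g * x * g⁻¹ * x⁻¹) x := by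
      rw [← hz] at hc
      obtain ⟨k, hk⟩ := Subgroup.mem_zpowers_iff.mp hc
      rw [← hk]
      exact ((Commute.refl x).pow_left _).zpow_left k
    have h1 : g * x * g⁻¹ = (g * x * g⁻¹ * x⁻¹) * x := by group
    rw [← conj_pow, h1, hcx.mul_pow]
    have h2 : (g * x * g⁻¹ * x⁻¹) ^ p ^ i = 1 := by
      obtain ⟨j, rfl⟩ : ∃ j, i = j + 1 := ⟨i - 1, by omega⟩
      rw [pow_succ', pow_mul, bg_pow_eq_one_of_mem N hN hc, one_pow]
    rw [h2, one_mul]
  intro n hn g hg
  rw [← hz] at hn
  obtain ⟨k, hk⟩ := Subgroup.mem_zpowers_iff.mp hn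
  have h3 : Commute g (x ^ p ^ i) := by
    have := key g hg
    rw [mul_inv_eq_iff_eq_mul] at this
    exact this
  rw [← hk]
  exact (h3.zpow_right k).eq

/-- The `p`-elements of `A` form a `p`-subgroup when commutators of `A` lie in the normal
subgroup `N` of exponent `p`. -/
theorem bg_pelements {p : ℕ} (N A : Subgroup G) [hNn : N.Normal]
    (hNp : ∀ n ∈ N, n ^ p = 1) (hcomm : ∀ u ∈ A, ∀ v ∈ A, u * v * u⁻¹ * v⁻¹ ∈ N) :
    ∃ Q : Subgroup G, IsPGroup p Q ∧ Q ≤ A ∧ (∀ g ∈ A, ∀ i : ℕ, g ^ p ^ i = 1 → g ∈ Q) ∧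
      ∀ a ∈ A, ∀ q ∈ Q, a * q * a⁻¹ ∈ Q := by
  let Q : Subgroup G :=
    { carrier := {g | g ∈ A ∧ ∃ i : ℕ, g ^ p ^ i = 1}
      mul_mem' := by
        rintro u v ⟨hu, i, hui⟩ ⟨hv, j, hvj⟩
        refine ⟨A.mul_mem hu hv, i + j + 1, ?_⟩
        have hc : Commute (QuotientGroup.mk' N u) (QuotientGroup.mk' N v) := by
          have h1 : QuotientGroup.mk' N (u * v * u⁻¹ * v⁻¹) = 1 :=
            (QuotientGroup.eq_one_iff _).mpr (hcomm u hu v hv)
          rw [map_mul, map_mul, map_mul, map_inv, map_inv, mul_inv_eq_one,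
            mul_inv_eq_iff_eq_mul] at h1
          exact h1
        have h2 : QuotientGroup.mk' N ((u * v) ^ p ^ (i + j)) = 1 := by
          rw [map_pow, map_mul, hc.mul_pow, ← map_pow, ← map_pow]
          have hu' : u ^ p ^ (i + j) = 1 := by rw [pow_add, pow_mul, hui, one_pow]
          have hv' : v ^ p ^ (i + j) = 1 := by rw [pow_add, mul_comm, pow_mul, hvj, one_pow]
          rw [hu', hv', map_one, mul_one]
        have h3 : (u * v) ^ p ^ (i + j) ∈ N := (QuotientGroup.eq_one_iff _).mp h2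
        rw [pow_succ, pow_mul]
        exact hNp _ h3
      one_mem' := ⟨A.one_mem, 0, one_pow _⟩
      inv_mem' := by
        rintro u ⟨hu, i, hui⟩
        exact ⟨A.inv_mem hu, i, by rw [inv_pow, hui, inv_one]⟩ }
  refine ⟨Q, ?_, fun g hg => hg.1, fun g hg i hi => ⟨hg, i, hi⟩, ?_⟩
  · rintro ⟨g, hg, i, hi⟩
    exact ⟨i, Subtype.ext hi⟩
  · rintro a ha q ⟨hq, i, hi⟩
    exact ⟨A.mul_mem (A.mul_mem ha hq) (A.inv_mem ha), i, by rw [conj_pow, hi, mul_one, mul_inv_cancel]⟩

/-- If `N` (of prime order `p`) is central in `A`, contains the commutators of `A`, and the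
`p`-elements of `A` commute pairwise, then `A` is abelian. -/
theorem bg_comm_of_pelements [Finite G] {p : ℕ} [hp : Fact p.Prime] (N A : Subgroup G)
    (hN : Nat.card N = p) (hcomm : ∀ u ∈ A, ∀ v ∈ A, u * v * u⁻¹ * v⁻¹ ∈ N)
    (hcen : ∀ n ∈ N, ∀ g ∈ A, g * n = n * g)
    (hpel : ∀ u ∈ A, ∀ v ∈ A, (∃ i : ℕ, u ^ p ^ i = 1) → (∃ j : ℕ, v ^ p ^ j = 1) →
      u * v = v * u) :
    ∀ x ∈ A, ∀ y ∈ A, x * y = y * x := by
  intro x hx y hy
  set m := (Nat.card A).factorization p with hm
  set k := Nat.card A / p ^ m with hk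
  have hcard : Nat.card A = p ^ m * k := (Nat.ordProj_mul_ordCompl_eq_self (Nat.card A) p).symm
  have hkcop : Nat.Coprime k p := (Nat.coprime_ordCompl hp.out Nat.card_pos.ne').symm
  have hpk : ∀ g ∈ A, (g ^ k) ^ p ^ m = 1 := by
    intro g hg
    have h1 : (⟨g, hg⟩ : A) ^ Nat.card A = 1 := pow_card_eq_one'
    have h2 := congrArg Subtype.val h1
    rw [hcard] at h2
    rw [← pow_mul, mul_comm]
    simpa using h2
  set c := x * y * x⁻¹ * y⁻¹ with hc
  have hcN : c ∈ N := hcomm x hx y hy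
  have hcx : Commute c x := (hcen c hcN x hx).symm
  have hcy : Commute c y := (hcen c hcN y hy).symm
  have h1 : x * y * x⁻¹ = c * y := by rw [hc]; group
  have h2 : x * y ^ k * x⁻¹ = c ^ k * y ^ k := bg_pow_conj_right h1 hcy k
  have h3 : x ^ k * y ^ k * (x ^ k)⁻¹ = (c ^ k) ^ k * y ^ k :=
    bg_pow_conj_left h2 (hcx.pow_left k) k
  have h4 : x ^ k * y ^ k = y ^ k * x ^ k :=
    hpel _ (A.pow_mem hx k) _ (A.pow_mem hy k) ⟨m, hpk x hx⟩ ⟨m, hpk y hy⟩
  rw [h4, mul_inv_cancel_right] at h3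
  have h5 : c ^ (k * k) = 1 := by
    rw [pow_mul]
    have := h3.symm
    rwa [mul_eq_right] at this
  have h6 : c ^ p = 1 := bg_pow_eq_one_of_mem N hN hcN
  have h7 : c ^ (k * k).gcd p = 1 := pow_gcd_eq_one.mpr ⟨h5, h6⟩
  have h8 : (k * k).gcd p = 1 := Nat.Coprime.mul_left hkcop hkcop
  rw [h8, pow_one] at h7
  rw [hc] at h7
  have h9 : x * y * x⁻¹ = y := by
    rw [mul_inv_eq_one] at h7
    exact h7
  rw [mul_inv_eq_iff_eq_mul] at h9
  exact h9

theorem bg_hcomm (N : Subgroup G) [N.Normal] (Cb : Subgroup (G ⧸ N))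
    (hCc : ∀ x ∈ Cb, ∀ y ∈ Cb, x * y = y * x) :
    ∀ u ∈ Cb.comap (QuotientGroup.mk' N), ∀ v ∈ Cb.comap (QuotientGroup.mk' N),
      u * v * u⁻¹ * v⁻¹ ∈ N := by
  intro u hu v hv
  have := bg_comm_mem N Cb hCc (x := u⁻¹) (y := v⁻¹) (inv_mem hu) (inv_mem hv)
  have h : (v⁻¹ * u⁻¹)⁻¹ * (u⁻¹ * v⁻¹) = u * v * u⁻¹ * v⁻¹ := by group
  rwa [h] at this

/-- `N` of order `p`, containing all elements of order `p`, is central in `A` if commutators of
`A` lie in `N` and `p ^ 2` divides `|A|`. -/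
theorem bg_central_of_dvd [Finite G] {p : ℕ} [hp : Fact p.Prime] (N A : Subgroup G)
    (hN : Nat.card N = p) (hN1 : ∀ x : G, orderOf x = p → x ∈ N)
    (hcomm : ∀ u ∈ A, ∀ v ∈ A, u * v * u⁻¹ * v⁻¹ ∈ N) (hdvd : p ^ 2 ∣ Nat.card A) :
    ∀ n ∈ N, ∀ g ∈ A, g * n = n * g := by
  obtain ⟨K0, hK0⟩ := Sylow.exists_subgroup_card_pow_prime p (G := A) hdvd
  have hEcard : Nat.card (K0.map A.subtype) = p ^ 2 := by
    rw [Subgroup.card_map_of_injective A.subtype_injective, hK0]
  have hEA : K0.map A.subtype ≤ A := Subgroup.map_subtype_le K0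
  have hnle : ¬ K0.map A.subtype ≤ N := by
    intro hle
    have h1 := Subgroup.card_le_of_le hle
    rw [hEcard, hN] at h1
    have := hp.out.one_lt
    nlinarith
  obtain ⟨x, hxE, hxN⟩ := SetLike.not_le_iff_exists.mp hnle
  have hx2 : x ^ p ^ 2 = 1 := by
    have h1 : (⟨x, hxE⟩ : K0.map A.subtype) ^ Nat.card (K0.map A.subtype) = 1 := pow_card_eq_one'
    rw [hEcard] at h1
    have h2 := congrArg Subtype.val h1
    simpa using h2
  have hb1 : x ^ p ^ 1 ≠ 1 := by
    rw [pow_one]
    intro h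
    rcases (Nat.dvd_prime hp.out).mp (orderOf_dvd_of_pow_eq_one h) with h1 | h1
    · rw [orderOf_eq_one_iff] at h1
      exact hxN (h1 ▸ N.one_mem)
    · exact hxN (hN1 x h1)
  have hb : x ^ p ^ 1 ∈ N := by
    apply hN1
    apply orderOf_eq_prime _ hb1
    rw [← pow_mul, pow_one, ← sq]
    exact hx2
  exact bg_central N A hN hcomm (hEA hxE) le_rfl hb hb1

/-- If the `p`-subgroups of `A` are abelian then `A` is abelian (`A / N` abelian, `|N| = p`,
`N` contains all elements of order `p`, `p ^ 2` divides `|A|`). -/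
theorem bg_comm_of_psub [Finite G] {p : ℕ} [hp : Fact p.Prime] (N A : Subgroup G) [hNn : N.Normal]
    (hN : Nat.card N = p) (hN1 : ∀ x : G, orderOf x = p → x ∈ N)
    (hcomm : ∀ u ∈ A, ∀ v ∈ A, u * v * u⁻¹ * v⁻¹ ∈ N) (hdvd : p ^ 2 ∣ Nat.card A)
    (hQ : ∀ Q : Subgroup G, IsPGroup p Q → Q ≤ A → ∀ x ∈ Q, ∀ y ∈ Q, x * y = y * x) :
    ∀ x ∈ A, ∀ y ∈ A, x * y = y * x := by
  have hcen := bg_central_of_dvd N A hN hN1 hcomm hdvd
  obtain ⟨Q, hQp, hQA, hQmem, -⟩ := bg_pelements (p := p) N A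
    (fun n hn => bg_pow_eq_one_of_mem N hN hn) hcomm
  apply bg_comm_of_pelements N A hN hcomm hcen
  rintro u hu v hv ⟨i, hi⟩ ⟨j, hj⟩
  exact hQ Q hQp hQA u (hQmem u hu i hi) v (hQmem v hv j hj)

/-- Groups of order `p ^ j`, `j ≤ 2`, are abelian. -/
theorem bg_comm_of_card_le_sq [Finite G] {p : ℕ} [hp : Fact p.Prime] (Q : Subgroup G) {j : ℕ}
    (hj : j ≤ 2) (hQ : Nat.card Q = p ^ j) : ∀ x ∈ Q, ∀ y ∈ Q, x * y = y * x := by
  intro x hx y hy
  interval_cases j
  · rw [pow_zero, Subgroup.card_eq_one] at hQ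
    rw [hQ, Subgroup.mem_bot] at hx hy
    rw [hx, hy]
  · rw [pow_one] at hQ
    have hcyc : IsCyclic Q := isCyclic_of_prime_card hQ
    obtain ⟨g, hg⟩ := IsCyclic.exists_generator (α := Q)
    obtain ⟨a, ha⟩ := Subgroup.mem_zpowers_iff.mp (hg ⟨x, hx⟩)
    obtain ⟨b, hb⟩ := Subgroup.mem_zpowers_iff.mp (hg ⟨y, hy⟩)
    have h1 : (⟨x, hx⟩ : Q) * ⟨y, hy⟩ = ⟨y, hy⟩ * ⟨x, hx⟩ := by
      rw [← ha, ← hb]
      exact (((Commute.refl g).zpow_left a).zpow_right b).eq
    exact congrArg Subtype.val h1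
  · have hc : IsMulCommutative Q := IsPGroup.isMulCommutative_of_card_eq_prime_sq hQ
    exact setLike_mul_comm hx hy

/-- Sylow's conjugacy theorem inside a subgroup `C`: two subgroups of `C` whose order is the
full power of `p` dividing `|G|` are conjugate by an element of `C`. -/
theorem bg_sylow_conj_in [Finite G] {p : ℕ} [hp : Fact p.Prime] (C X Y : Subgroup G)
    (hXC : X ≤ C) (hYC : Y ≤ C) (hX : Nat.card X = p ^ (Nat.card G).factorization p)
    (hY : Nat.card Y = p ^ (Nat.card G).factorization p) :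
    ∃ c ∈ C, Y = MulAut.conj c • X := by
  have hle : (Nat.card C).factorization p ≤ (Nat.card G).factorization p :=
    (Nat.factorization_le_iff_dvd Nat.card_pos.ne' Nat.card_pos.ne').mpr
      (Subgroup.card_subgroup_dvd_card C) p
  have key : ∀ Z : Subgroup G, Z ≤ C → Nat.card Z = p ^ (Nat.card G).factorization p →
      ∃ S : Sylow p C, (S : Subgroup C) = Z.subgroupOf C := by
    intro Z hZC hZ
    have hc1 : Nat.card (Z.subgroupOf C) = Nat.card Z :=
      Nat.card_congr (Subgroup.subgroupOfEquivOfLe hZC).toEquiv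
    have hZp : IsPGroup p (Z.subgroupOf C) := IsPGroup.of_card (hc1.trans hZ)
    obtain ⟨S, hS⟩ := hZp.exists_le_sylow
    refine ⟨S, (Subgroup.eq_of_le_of_card_ge hS ?_).symm⟩
    rw [hc1, hZ, Sylow.card_eq_multiplicity]
    exact Nat.pow_le_pow_right hp.out.pos hle
  obtain ⟨S1, hS1⟩ := key X hXC hX
  obtain ⟨S2, hS2⟩ := key Y hYC hY
  obtain ⟨c, hc⟩ := MulAction.exists_smul_eq C S1 S2
  refine ⟨(c : G), c.2, ?_⟩
  have h1 : (S2 : Subgroup C) = MulAut.conj c • (S1 : Subgroup C) := by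
    rw [← hc, Sylow.smul_def, Sylow.pointwise_smul_def]
  rw [hS1, hS2] at h1
  have h2 := congrArg (Subgroup.map C.subtype) h1
  rw [Subgroup.subgroupOf_map_subtype, Cfsg.Agent.S0540.map_subtype_conj_smul,
    Subgroup.subgroupOf_map_subtype, inf_of_le_left hYC, inf_of_le_left hXC] at h2
  exact h2

/-- Structure of `C` with `C / N` abelian when the `2`-part of `|C|` is `8 = |Sylow 2 G|`:
`C = Q × D` with `|Q| = 8` and `D` abelian of odd order. -/
theorem bg_split_eight [Finite G] (N : Subgroup G) [hNn : N.Normal]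
    (hN : Nat.card N = 2) (hN1 : ∀ x : G, orderOf x = 2 → x ∈ N)
    (hS : ∀ P : Sylow 2 G, Nat.card P = 8) (hfac : (Nat.card G).factorization 2 = 3)
    (C : Subgroup G) (hcommC : ∀ u ∈ C, ∀ v ∈ C, u * v * u⁻¹ * v⁻¹ ∈ N)
    (h8C : 8 ∣ Nat.card C) :
    ∃ Q D : Subgroup G, Q ⊔ D = C ∧ Nat.card Q = 8 ∧ 8 * Nat.card D = Nat.card C ∧
      (∀ x ∈ D, ∀ y ∈ D, x * y = y * x) ∧ (∀ x ∈ Q, ∀ y ∈ D, x * y = y * x) := by
  have : Fact (Nat.Prime 2) := ⟨Nat.prime_two⟩
  have hdvdC : 2 ^ 2 ∣ Nat.card C := Dvd.dvd.trans (by norm_num) h8C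
  have hcen := bg_central_of_dvd N C hN hN1 hcommC hdvdC
  obtain ⟨Q, hQp, hQC, hQmem, hQn⟩ := bg_pelements (p := 2) N C
    (fun n hn => bg_pow_eq_one_of_mem N hN hn) hcommC
  have hQ8 : Nat.card Q = 8 := by
    obtain ⟨K0, hK0⟩ := Sylow.exists_subgroup_card_pow_prime 2 (G := C) (n := 3)
      (by norm_num; exact h8C)
    have hle : K0.map C.subtype ≤ Q := by
      rintro _ ⟨k, hk, rfl⟩
      apply hQmem _ k.2 3
      have h1 : (⟨k, hk⟩ : K0) ^ Nat.card K0 = 1 := pow_card_eq_one'
      rw [hK0] at h1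
      have h2 := congrArg Subtype.val (congrArg Subtype.val h1)
      simpa using h2
    have h1 : 8 ≤ Nat.card Q := by
      have := Subgroup.card_le_of_le hle
      rw [Subgroup.card_map_of_injective C.subtype_injective, hK0] at this
      norm_num at this
      exact this
    obtain ⟨P, hP⟩ := hQp.exists_le_sylow
    have h2 : Nat.card Q ≤ 8 := by
      have := Subgroup.card_le_of_le hP
      rwa [hS P] at this
    omega
  have hodd : ¬ 2 ∣ Nat.card C / 8 := by
    intro h
    have h16 : 2 ^ 4 ∣ Nat.card G := by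
      have h1 : 2 * 8 ∣ Nat.card C := by
        obtain ⟨m, hm⟩ := h8C
        rw [hm, Nat.mul_div_cancel_left _ (by norm_num)] at h
        rw [hm, mul_comm 2 8]; exact Nat.mul_dvd_mul_left 8 h
      exact Dvd.dvd.trans (by norm_num) (h1.trans (Subgroup.card_subgroup_dvd_card C))
    have := (Nat.Prime.pow_dvd_iff_le_factorization Nat.prime_two Nat.card_pos.ne').mp h16
    omega
  have hcop : (Nat.card Q).Coprime (Nat.card C / Nat.card Q) := by
    rw [hQ8]
    have h1 : Nat.Coprime 2 (Nat.card C / 8) :=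
      (Nat.Prime.coprime_iff_not_dvd Nat.prime_two).mpr hodd
    have h2 : Nat.Coprime (2 ^ 3) (Nat.card C / 8) := Nat.Coprime.pow_left 3 h1
    norm_num at h2
    exact h2
  obtain ⟨D, hDC, hsup, hcard⟩ := bg_complement Q C hQC (fun c hc t ht => hQn c hc t ht) hcop
  rw [hQ8] at hcard
  have hDodd : ¬ 2 ∣ Nat.card D := by
    intro h
    apply hodd
    rw [← hcard, Nat.mul_div_cancel_left _ (by norm_num)]
    exact h
  have hN2 : ∀ c ∈ N, c ^ Nat.card D = 1 → c = 1 := by
    intro c hc hcd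
    have h2 : c ^ 2 = 1 := bg_pow_eq_one_of_mem N hN hc
    have h3 : c ^ (Nat.card D).gcd 2 = 1 := pow_gcd_eq_one.mpr ⟨hcd, h2⟩
    have h4 : (Nat.card D).gcd 2 = 1 :=
      ((Nat.Prime.coprime_iff_not_dvd Nat.prime_two).mpr hDodd).symm
    rwa [h4, pow_one] at h3
  have hpowD : ∀ y ∈ D, y ^ Nat.card D = 1 := by
    intro y hy
    have h1 : (⟨y, hy⟩ : D) ^ Nat.card D = 1 := pow_card_eq_one'
    have h2 := congrArg Subtype.val h1
    simpa only [Subgroup.coe_pow, Subgroup.coe_one] using h2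
  refine ⟨Q, D, hsup, hQ8, hcard, ?_, ?_⟩
  · intro x hx y hy
    have hcN := hcommC x (hDC hx) y (hDC hy)
    have hcD : x * y * x⁻¹ * y⁻¹ ∈ D :=
      D.mul_mem (D.mul_mem (D.mul_mem hx hy) (D.inv_mem hx)) (D.inv_mem hy)
    have h1 := hN2 _ hcN (hpowD _ hcD)
    rw [mul_inv_eq_one, mul_inv_eq_iff_eq_mul] at h1
    exact h1
  · intro x hx y hy
    have hcN := hcommC x (hQC hx) y (hDC hy)
    have hcy : Commute (x * y * x⁻¹ * y⁻¹) y := (hcen _ hcN y (hDC hy)).symm
    have h1 : x * y * x⁻¹ = (x * y * x⁻¹ * y⁻¹) * y := by group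
    have h2 := bg_pow_conj_right h1 hcy (Nat.card D)
    rw [hpowD y hy, mul_one, mul_one, mul_inv_cancel] at h2
    have h3 := hN2 _ hcN h2.symm
    rw [mul_inv_eq_one, mul_inv_eq_iff_eq_mul] at h3
    exact h3

/-- Case 2 of the quotient closure: `|N| = p`, abelian subgroups of `G ⧸ N` of the same order
divisible by `p` are conjugate, provided the Sylow `p`-subgroups of `G` are abelian or
`p = 2` and they have order `8`. -/
theorem bg_quot_case2 [Finite G] (hB : BG G) (N : Subgroup G) [hNn : N.Normal] {p : ℕ}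
    [hp : Fact p.Prime] (hN : Nat.card N = p)
    (hSyl : (∀ P : Sylow p G, ∀ x ∈ (P : Subgroup G), ∀ y ∈ (P : Subgroup G), x * y = y * x) ∨
      (p = 2 ∧ ∀ P : Sylow 2 G, Nat.card P = 8))
    (Ab Bb : Subgroup (G ⧸ N))
    (hA : ∀ x ∈ Ab, ∀ y ∈ Ab, x * y = y * x) (hBc : ∀ x ∈ Bb, ∀ y ∈ Bb, x * y = y * x)
    (hc : Nat.card Ab = Nat.card Bb) (hpA : p ∣ Nat.card Ab) :
    ∃ g : G ⧸ N, Bb = MulAut.conj g • Ab := by
  have hN1 : ∀ x : G, orderOf x = p → x ∈ N := by
    intro x hx
    obtain ⟨m, hm⟩ := exists_prime_orderOf_dvd_card' (G := N) p (by rw [hN])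
    exact bg_mem_of_orderOf hB N m.2 (by rw [Subgroup.orderOf_coe, hm, hx])
  obtain ⟨A, hAdef⟩ : ∃ A, A = Ab.comap (QuotientGroup.mk' N) := ⟨_, rfl⟩
  obtain ⟨B, hBdef⟩ : ∃ B, B = Bb.comap (QuotientGroup.mk' N) := ⟨_, rfl⟩
  have hAcard : Nat.card A = Nat.card Ab * p := by rw [hAdef, so_card_comap, hN]
  have hBcard : Nat.card B = Nat.card Bb * p := by rw [hBdef, so_card_comap, hN]
  have hABcard : Nat.card A = Nat.card B := by rw [hAcard, hBcard, hc]
  have hdvdA : p ^ 2 ∣ Nat.card A := by rw [hAcard, sq]; exact Nat.mul_dvd_mul_right hpA p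
  have hdvdB : p ^ 2 ∣ Nat.card B := hABcard ▸ hdvdA
  have hcommA : ∀ u ∈ A, ∀ v ∈ A, u * v * u⁻¹ * v⁻¹ ∈ N := by
    rw [hAdef]; exact bg_hcomm N Ab hA
  have hcommB : ∀ u ∈ B, ∀ v ∈ B, u * v * u⁻¹ * v⁻¹ ∈ N := by
    rw [hBdef]; exact bg_hcomm N Bb hBc
  have fin : (∀ x ∈ A, ∀ y ∈ A, x * y = y * x) → (∀ x ∈ B, ∀ y ∈ B, x * y = y * x) →
      ∃ g : G ⧸ N, Bb = MulAut.conj g • Ab := by
    intro h1 h2
    obtain ⟨g, hg⟩ := bg_smul hB A B h1 h2 hABcard
    exact ⟨QuotientGroup.mk' N g, bg_quot_conj N Ab Bb g (by rw [← hAdef, ← hBdef]; exact hg)⟩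
  rcases hSyl with hS | ⟨rfl, hS⟩
  · apply fin
    · apply bg_comm_of_psub N A hN hN1 hcommA hdvdA
      intro Q hQ _ x hx y hy
      obtain ⟨P, hP⟩ := hQ.exists_le_sylow
      exact hS P x (hP hx) y (hP hy)
    · apply bg_comm_of_psub N B hN hN1 hcommB hdvdB
      intro Q hQ _ x hx y hy
      obtain ⟨P, hP⟩ := hQ.exists_le_sylow
      exact hS P x (hP hx) y (hP hy)
  · have hfac : (Nat.card G).factorization 2 = 3 := by
      obtain ⟨P⟩ : Nonempty (Sylow 2 G) := inferInstance
      have h1 := P.card_eq_multiplicity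
      rw [hS P] at h1
      have h2 : (2 : ℕ) ^ 3 = 2 ^ (Nat.card G).factorization 2 := by
        rw [← h1]; norm_num
      exact (Nat.pow_right_injective (le_refl 2) h2).symm
    have small : ∀ C : Subgroup G, ¬ 8 ∣ Nat.card C →
        ∀ Q : Subgroup G, IsPGroup 2 Q → Q ≤ C → ∀ x ∈ Q, ∀ y ∈ Q, x * y = y * x := by
      intro C h8 Q hQ hQC
      obtain ⟨j, hj⟩ := IsPGroup.iff_card.mp hQ
      have hj2 : j ≤ 2 := by
        by_contra hlt
        push Not at hlt
        apply h8
        have h1 : 2 ^ 3 ∣ 2 ^ j := pow_dvd_pow 2 hlt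
        have h2 : 2 ^ 3 ∣ Nat.card C := h1.trans (hj ▸ Subgroup.card_dvd_of_le hQC)
        norm_num at h2
        exact h2
      exact bg_comm_of_card_le_sq Q hj2 hj
    by_cases h8 : 8 ∣ Nat.card A
    · obtain ⟨Q1, D1, hsup1, hQ1, hD1card, hD1c, hQD1⟩ :=
        bg_split_eight N hN hN1 hS hfac A hcommA h8
      obtain ⟨Q2, D2, hsup2, hQ2, hD2card, hD2c, hQD2⟩ :=
        bg_split_eight N hN hN1 hS hfac B hcommB (hABcard ▸ h8)
      have hDcard : Nat.card D1 = Nat.card D2 := by omega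
      obtain ⟨g, hg⟩ := bg_smul hB D1 D2 hD1c hD2c hDcard
      have hQ'C : MulAut.conj g • Q1 ≤ Subgroup.centralizer (D2 : Set G) := by
        intro x hx
        rw [mem_conj_smul_iff] at hx
        rw [Subgroup.mem_centralizer_iff]
        intro y hy
        have hy' : y ∈ D2 := hy
        rw [hg, mem_conj_smul_iff] at hy'
        have h1 := hQD1 _ hx _ hy'
        have h2 : g * ((g⁻¹ * x * g) * (g⁻¹ * y * g)) * g⁻¹ = x * y := by group
        have h3 : g * ((g⁻¹ * y * g) * (g⁻¹ * x * g)) * g⁻¹ = y * x := by group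
        rw [← h2, ← h3, h1]
      have hQ2C : Q2 ≤ Subgroup.centralizer (D2 : Set G) := by
        intro x hx
        rw [Subgroup.mem_centralizer_iff]
        intro y hy
        exact (hQD2 x hx y hy).symm
      obtain ⟨c, hcC, hc2⟩ := bg_sylow_conj_in (p := 2) _ (MulAut.conj g • Q1) Q2 hQ'C hQ2C
        (by rw [card_conj_smul, hQ1, hfac]; norm_num) (by rw [hQ2, hfac]; norm_num)
      have hcD2 : MulAut.conj c • D2 = D2 :=
        mem_normalizer_iff_conj_smul_eq.mp (Subgroup.centralizer_le_normalizer (D2 : Set G) hcC)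
      refine ⟨QuotientGroup.mk' N (c * g), bg_quot_conj N Ab Bb (c * g) ?_⟩
      rw [← hAdef, ← hBdef, ← hsup2, ← hsup1, conj_mul_smul, conj_smul_sup, conj_smul_sup,
        ← hg, hcD2, ← hc2]
    · apply fin
      · exact bg_comm_of_psub N A hN hN1 hcommA hdvdA (small A h8)
      · exact bg_comm_of_psub N B hN hN1 hcommB hdvdB (small B (hABcard ▸ h8))

theorem bg_comm_of_isCyclic (Q : Subgroup G) (hcyc : IsCyclic Q) :
    ∀ x ∈ Q, ∀ y ∈ Q, x * y = y * x := by
  intro x hx y hy
  obtain ⟨g, hg⟩ := IsCyclic.exists_generator (α := Q)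
  obtain ⟨a, ha⟩ := Subgroup.mem_zpowers_iff.mp (hg ⟨x, hx⟩)
  obtain ⟨b, hb⟩ := Subgroup.mem_zpowers_iff.mp (hg ⟨y, hy⟩)
  have h1 : (⟨x, hx⟩ : Q) * ⟨y, hy⟩ = ⟨y, hy⟩ * ⟨x, hx⟩ := by
    rw [← ha, ← hb]
    exact (((Commute.refl g).zpow_left a).zpow_right b).eq
  exact congrArg Subtype.val h1

/-- Closure step: the quotient of a B-group by a normal elementary abelian `p`-subgroup is a
B-group, provided (for `p = 2`) the Sylow `2`-subgroups are abelian or of order `8`. -/
theorem bg_quot_step [Finite G] (hB : BG G) (N : Subgroup G) [hNn : N.Normal] (hNne : N ≠ ⊥)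
    {p : ℕ} [hp : Fact p.Prime] (hNc : ∀ x ∈ N, ∀ y ∈ N, x * y = y * x)
    (hNe : ∀ x ∈ N, x ^ p = 1)
    (h2 : p = 2 → ∀ P : Sylow 2 G,
      (∀ x ∈ (P : Subgroup G), ∀ y ∈ (P : Subgroup G), x * y = y * x) ∨ Nat.card P = 8) :
    BG (G ⧸ N) := by
  apply bg_of_smul
  intro Ab Bb hA hBc hc
  have hNp : IsPGroup p N := fun y =>
    ⟨1, by rw [pow_one]; exact Subtype.ext (by simpa using hNe y y.2)⟩
  by_cases hpA : p ∣ Nat.card Ab
  · obtain ⟨t, ht⟩ := IsPGroup.iff_card.mp hNp
    rcases Nat.lt_or_ge t 2 with htlt | htge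
    · have hN : Nat.card N = p := by
        interval_cases t
        · rw [pow_zero] at ht
          exact absurd (Subgroup.card_eq_one.mp ht) hNne
        · rw [pow_one] at ht; exact ht
      have hN1 : ∀ x : G, orderOf x = p → x ∈ N := by
        intro x hx
        obtain ⟨m, hm⟩ := exists_prime_orderOf_dvd_card' (G := N) p (by rw [hN])
        exact bg_mem_of_orderOf hB N m.2 (by rw [Subgroup.orderOf_coe, hm, hx])
      have hSyl : (∀ P : Sylow p G, ∀ x ∈ (P : Subgroup G), ∀ y ∈ (P : Subgroup G),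
          x * y = y * x) ∨ (p = 2 ∧ ∀ P : Sylow 2 G, Nat.card P = 8) := by
        by_cases hp2 : p = 2
        · subst hp2
          by_cases h8 : ∀ P : Sylow 2 G, Nat.card P = 8
          · exact Or.inr ⟨rfl, h8⟩
          · left
            push Not at h8
            obtain ⟨P1, hP1⟩ := h8
            intro P
            rcases h2 rfl P with h | h
            · exact h
            · exfalso
              apply hP1
              rw [P1.card_eq_multiplicity, ← P.card_eq_multiplicity, h]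
        · left
          intro P
          rcases (Cfsg.Agent.S3908.result hB).2 p hp2 P with h | h
          · exact bg_comm_of_isCyclic _ h
          · have hPN : (P : Subgroup G) ≤ N := by
              intro x hx
              rcases (Nat.dvd_prime hp.out).mp (orderOf_dvd_of_pow_eq_one (h x hx)) with h1 | h1
              · rw [orderOf_eq_one_iff.mp h1]; exact N.one_mem
              · exact hN1 x h1
            intro x hx y hy
            exact hNc x (hPN hx) y (hPN hy)
      exact bg_quot_case2 hB N hN hSyl Ab Bb hA hBc hc hpA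
    · exfalso
      have hE : Cfsg.IsElementaryAbelian p N :=
        ⟨⟨⟨fun a b => Subtype.ext (hNc a a.2 b b.2)⟩⟩, hNe⟩
      obtain ⟨P⟩ : Nonempty (Sylow p G) := inferInstance
      have hPN := (Cfsg.Agent.S3909.result hB N).2 p t htge ht hE P
      have h1 : ¬ p ∣ (P : Subgroup G).index := P.not_dvd_index
      apply h1
      rw [hPN, Subgroup.index_eq_card]
      exact hpA.trans (Subgroup.card_subgroup_dvd_card Ab)
  · exact bg_quot_case1 hB N hNp Ab Bb hA hBc hc hpA

/-- Elements of a generalized quaternion group used below. -/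
theorem bg_quat_elts {H : Type*} [Group H] {k : ℕ} (φ : H ≃* QuaternionGroup (2 ^ k)) :
    ∃ u w : H, orderOf u = 4 ∧ orderOf w = 4 ∧ orderOf (u * w) = 2 * 2 ^ k := by
  have : NeZero (2 ^ k) := ⟨by positivity⟩
  have h : QuaternionGroup.xa (0 : ZMod (2 * 2 ^ k)) *
      QuaternionGroup.xa (1 - ((2 ^ k : ℕ) : ZMod (2 * 2 ^ k))) = QuaternionGroup.a 1 := by
    rw [QuaternionGroup.xa_mul_xa]; congr 1; ring
  refine ⟨φ.symm (QuaternionGroup.xa 0),
    φ.symm (QuaternionGroup.xa (1 - ((2 ^ k : ℕ) : ZMod (2 * 2 ^ k)))), ?_, ?_, ?_⟩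
  · rw [MulEquiv.orderOf_eq, QuaternionGroup.orderOf_xa]
  · rw [MulEquiv.orderOf_eq, QuaternionGroup.orderOf_xa]
  · rw [← map_mul, MulEquiv.orderOf_eq, h, QuaternionGroup.orderOf_a_one]

/-- In a finite solvable B-group, a generalized quaternion Sylow `2`-subgroup has order at
most `8`. -/
theorem bg_quat.{u} : ∀ (n : ℕ) (G : Type u) [Group G] [Finite G] [Group.IsSolvable G],
    Nat.card G = n → BG G → ∀ (P : Sylow 2 G) (k : ℕ),
    Nonempty ((P : Subgroup G) ≃* QuaternionGroup (2 ^ k)) → k ≤ 1 := by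
  intro n
  induction n using Nat.strong_induction_on with
  | _ n ih =>
    intro G _ _ _ hn hB P k ⟨φ⟩
    by_contra hk
    push Not at hk
    have hf2 : Fact (Nat.Prime 2) := ⟨Nat.prime_two⟩
    obtain ⟨u, w, hu4, hw4, huw⟩ := bg_quat_elts φ
    have hu4' : orderOf (u : G) = 4 := by rw [Subgroup.orderOf_coe]; exact hu4
    have hw4' : orderOf (w : G) = 4 := by rw [Subgroup.orderOf_coe]; exact hw4
    have huw' : orderOf ((u : G) * (w : G)) = 2 * 2 ^ k := by
      rw [← Subgroup.coe_mul, Subgroup.orderOf_coe]; exact huw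
    by_cases hodd : ∃ M : Subgroup G, M.Normal ∧ M ≠ ⊥ ∧ Odd (Nat.card M)
    · obtain ⟨M, hMn, hMne, hModd⟩ := hodd
      obtain ⟨N, hNM, hNne, hNn, hmin⟩ := exists_minimal_normal_le M hMne
      obtain ⟨p, hp, hexp⟩ := minimal_normal_exponent N hNne hmin
      have hfp : Fact p.Prime := ⟨hp⟩
      have hcommN := minimal_normal_comm N hNne hmin
      have hNp : IsPGroup p N := fun y =>
        ⟨1, by rw [pow_one]; exact Subtype.ext (by simpa using hexp y y.2)⟩
      have hNodd : Odd (Nat.card N) := hModd.of_dvd_nat (Subgroup.card_dvd_of_le hNM)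
      have hp2 : p ≠ 2 := by
        rintro rfl
        have h1 : 2 ∣ Nat.card N := dvd_card_of_isPGroup_of_ne_bot hNp hNne
        exact (Nat.not_even_iff_odd.mpr hNodd) (even_iff_two_dvd.mpr h1)
      have hBq : BG (G ⧸ N) := bg_quot_step hB N hNne hcommN hexp (fun h => absurd h hp2)
      have hP' : ((P.mapSurjective (QuotientGroup.mk'_surjective N) : Sylow 2 (G ⧸ N)) :
          Subgroup (G ⧸ N)) = (P : Subgroup G).map (QuotientGroup.mk' N) :=
        Sylow.coe_mapSurjective _ _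
      have hdisj : (P : Subgroup G) ⊓ N = ⊥ := by
        apply so_inf_eq_bot_of_not_dvd hNp
        obtain ⟨m, hm⟩ := IsPGroup.iff_card.mp P.isPGroup'
        rw [hm]
        intro h
        exact hp2 ((Nat.prime_dvd_prime_iff_eq hp Nat.prime_two).mp (hp.dvd_of_dvd_pow h))
      have hbij : Function.Bijective ((QuotientGroup.mk' N).subgroupMap (P : Subgroup G)) := by
        refine ⟨?_, MonoidHom.subgroupMap_surjective _ _⟩
        rw [injective_iff_map_eq_one]
        intro a ha
        have h1 : QuotientGroup.mk' N (a : G) = 1 := congrArg Subtype.val ha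
        have h2 : (a : G) ∈ (P : Subgroup G) ⊓ N := ⟨a.2, (QuotientGroup.eq_one_iff _).mp h1⟩
        rw [hdisj, Subgroup.mem_bot] at h2
        exact Subtype.ext h2
      have e : ((P.mapSurjective (QuotientGroup.mk'_surjective N) : Sylow 2 (G ⧸ N)) :
          Subgroup (G ⧸ N)) ≃* QuaternionGroup (2 ^ k) :=
        ((MulEquiv.subgroupCongr hP').trans (MulEquiv.ofBijective _ hbij).symm).trans φ
      have := ih _ (hn ▸ card_quotient_lt N hNne) (G ⧸ N) rfl hBq
        (P.mapSurjective (QuotientGroup.mk'_surjective N)) k ⟨e⟩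
      omega
    · push Not at hodd
      have hGnt : Nontrivial G := by
        refine ⟨⟨(u : G), 1, ?_⟩⟩
        intro h
        rw [h, orderOf_one] at hu4'
        omega
      obtain ⟨N, hNne, hNn, hmin⟩ := exists_minimal_normal (G := G)
      obtain ⟨p, hp, hexp⟩ := minimal_normal_exponent N hNne hmin
      have hfp : Fact p.Prime := ⟨hp⟩
      have hNp : IsPGroup p N := fun y =>
        ⟨1, by rw [pow_one]; exact Subtype.ext (by simpa using hexp y y.2)⟩
      obtain ⟨t, ht⟩ := IsPGroup.iff_card.mp hNp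
      have hp2 : p = 2 := by
        by_contra hne
        apply hodd N hNn hNne
        rw [ht]
        exact Odd.pow (hp.odd_of_ne_two hne)
      subst hp2
      have hN2 : Nat.card N = 2 := by
        rcases Nat.lt_or_ge t 2 with h | h
        · interval_cases t
          · rw [pow_zero] at ht
            exact absurd (Subgroup.card_eq_one.mp ht) hNne
          · rw [pow_one] at ht; exact ht
        · exfalso
          have hE : Cfsg.IsElementaryAbelian 2 N :=
            ⟨minimal_normal_isMulCommutative N hNne hmin, hexp⟩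
          have hPN := (Cfsg.Agent.S3909.result hB N).2 2 t h ht hE P
          have hu2 : (u : G) ^ 2 = 1 := hexp _ (hPN ▸ u.2)
          have := orderOf_dvd_of_pow_eq_one hu2
          rw [hu4'] at this
          omega
      have hN1 : ∀ x : G, orderOf x = 2 → x ∈ N := by
        intro x hx
        obtain ⟨m, hm⟩ := exists_prime_orderOf_dvd_card' (G := N) 2 (by rw [hN2])
        exact bg_mem_of_orderOf hB N m.2 (by rw [Subgroup.orderOf_coe, hm, hx])
      have hNtop : N ≠ ⊤ := by
        intro h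
        have h1 : (u : G) ∈ N := h ▸ Subgroup.mem_top _
        have h2 := bg_pow_eq_one_of_mem N hN2 h1
        have := orderOf_dvd_of_pow_eq_one h2
        rw [hu4'] at this
        omega
      have hQnt : Nontrivial (G ⧸ N) := nontrivial_quotient_of_ne_top N hNtop
      obtain ⟨Lb, hLne, hLn, hLmin⟩ := exists_minimal_normal (G := G ⧸ N)
      obtain ⟨q, hq, hLexp⟩ := minimal_normal_exponent Lb hLne hLmin
      have hfq : Fact q.Prime := ⟨hq⟩
      have hLp : IsPGroup q Lb := fun y =>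
        ⟨1, by rw [pow_one]; exact Subtype.ext (by simpa using hLexp y y.2)⟩
      obtain ⟨s, hs⟩ := IsPGroup.iff_card.mp hLp
      have hs0 : s ≠ 0 := by
        rintro rfl
        rw [pow_zero] at hs
        exact hLne (Subgroup.card_eq_one.mp hs)
      obtain ⟨L, hLdef⟩ : ∃ L, L = Lb.comap (QuotientGroup.mk' N) := ⟨_, rfl⟩
      have hLn' : L.Normal := by rw [hLdef]; exact hLn.comap _
      have hLcard : Nat.card L = q ^ s * 2 := by rw [hLdef, so_card_comap, hN2, hs]
      have hmemL : ∀ x : G, x ∈ L ↔ QuotientGroup.mk' N x ∈ Lb := by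
        intro x; rw [hLdef, Subgroup.mem_comap]
      have hsqN : ∀ x ∈ L, x ^ q ∈ N := by
        intro x hx
        have h1 := hLexp _ ((hmemL x).mp hx)
        rw [← map_pow] at h1
        exact (QuotientGroup.eq_one_iff _).mp h1
      by_cases hq2 : q = 2
      · subst hq2
        have hLN : ¬ L ≤ N := by
          intro h
          have h1 := Subgroup.card_le_of_le h
          rw [hLcard, hN2] at h1
          have h2 : 2 ^ 1 ≤ 2 ^ s := Nat.pow_le_pow_right (by norm_num) (by omega)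
          omega
        obtain ⟨x, hxL, hxN⟩ := SetLike.not_le_iff_exists.mp hLN
        have hx4 : orderOf x = 4 := by
          have h4 : x ^ 2 ^ (1 + 1) = 1 := by
            have h1 := bg_pow_eq_one_of_mem N hN2 (hsqN x hxL)
            rw [← pow_mul] at h1
            exact h1
          have h2 : ¬ x ^ 2 ^ 1 = 1 := by
            rw [pow_one]
            intro h
            rcases (Nat.dvd_prime Nat.prime_two).mp (orderOf_dvd_of_pow_eq_one h) with h1 | h1
            · exact hxN ((orderOf_eq_one_iff.mp h1) ▸ N.one_mem)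
            · exact hxN (hN1 x h1)
          exact orderOf_eq_prime_pow h2 h4
        have hL4 : ∀ y : G, orderOf y = 4 → y ∈ L := fun y hy =>
          bg_mem_of_orderOf hB L hxL (hx4.trans hy.symm)
        have huwL : (u : G) * (w : G) ∈ L := L.mul_mem (hL4 _ hu4') (hL4 _ hw4')
        have h2 : ((u : G) * (w : G)) ^ 4 = 1 := by
          have h1 := bg_pow_eq_one_of_mem N hN2 (hsqN _ huwL)
          rw [← pow_mul] at h1
          exact h1
        have h3 := orderOf_dvd_of_pow_eq_one h2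
        rw [huw'] at h3
        have h5 := Nat.le_of_dvd (by norm_num) h3
        have h6 : 2 ^ 2 ≤ 2 ^ k := Nat.pow_le_pow_right (by norm_num) hk
        omega
      · obtain ⟨Q0⟩ : Nonempty (Sylow q L) := inferInstance
        have hQcard : Nat.card Q0 = q ^ s := by
          rw [Q0.card_eq_multiplicity, hLcard]
          congr 1
          rw [Nat.factorization_mul (pow_ne_zero _ hq.ne_zero) two_ne_zero,
            Nat.Prime.factorization_pow hq]
          have h1 : (Nat.factorization 2) q = 0 := by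
            rw [Nat.Prime.factorization Nat.prime_two]
            simp [Ne.symm hq2]
          simp [h1]
        have hidx : (Q0 : Subgroup L).index = 2 := by
          have h1 := Subgroup.card_mul_index (Q0 : Subgroup L)
          rw [hQcard, hLcard] at h1
          exact Nat.eq_of_mul_eq_mul_left (pow_pos hq.pos s) h1
        have hQn : (Q0 : Subgroup L).Normal := Subgroup.normal_of_index_eq_two hidx
        have hQchar : (Q0 : Subgroup L).Characteristic := Q0.characteristic_of_normal hQn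
        have hQG : ((Q0 : Subgroup L).map L.subtype).Normal :=
          ConjAct.normal_of_characteristic_of_normal
        have hQ0card : Nat.card ((Q0 : Subgroup L).map L.subtype) = q ^ s := by
          rw [Subgroup.card_map_of_injective L.subtype_injective, hQcard]
        apply hodd _ hQG
        · intro h
          rw [h, Subgroup.card_bot] at hQ0card
          have : 1 < q ^ s := Nat.one_lt_pow hs0 hq.one_lt
          omega
        · rw [hQ0card]
          exact Odd.pow (hq.odd_of_ne_two hq2)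

/-- In a finite solvable B-group the Sylow `2`-subgroups are abelian or of order `8`. -/
theorem bg_sylow_two [Finite G] [Group.IsSolvable G] (hB : BG G) (P : Sylow 2 G) :
    (∀ x ∈ (P : Subgroup G), ∀ y ∈ (P : Subgroup G), x * y = y * x) ∨ Nat.card P = 8 := by
  have hf2 : Fact (Nat.Prime 2) := ⟨Nat.prime_two⟩
  rcases (Cfsg.Agent.S3908.result hB).1 P with h | h | ⟨k, ⟨φ⟩⟩
  · exact Or.inl (bg_comm_of_isCyclic _ h)
  · left
    intro x hx y hy
    have := h.1
    exact setLike_mul_comm hx hy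
  · have hk := bg_quat _ G rfl hB P k ⟨φ⟩
    have : NeZero (2 ^ k) := ⟨by positivity⟩
    have hcard : Nat.card (P : Subgroup G) = 4 * 2 ^ k := by
      rw [Nat.card_congr φ.toEquiv, Nat.card_eq_fintype_card, QuaternionGroup.card]
    interval_cases k
    · left
      exact bg_comm_of_card_le_sq (p := 2) (P : Subgroup G) (j := 2) le_rfl
        (by rw [hcard]; norm_num)
    · right
      rw [hcard]; norm_num

/-- The quotient of a finite solvable B-group by a minimal normal subgroup is a B-group. -/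
theorem bg_quot_min [Finite G] [Group.IsSolvable G] (hB : BG G) (N : Subgroup G) [hNn : N.Normal]
    (hNne : N ≠ ⊥) (hmin : ∀ L : Subgroup G, L.Normal → L ≤ N → L = ⊥ ∨ L = N) :
    BG (G ⧸ N) := by
  obtain ⟨p, hp, hexp⟩ := minimal_normal_exponent N hNne hmin
  have hfp : Fact p.Prime := ⟨hp⟩
  exact bg_quot_step hB N hNne (minimal_normal_comm N hNne hmin) hexp
    (fun _ P => bg_sylow_two hB P)

/-- Every quotient of a finite solvable B-group is a B-group. -/
theorem bg_quot_all.{u} : ∀ (n : ℕ) (G : Type u) [Group G] [Finite G] [Group.IsSolvable G],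
    Nat.card G = n → BG G → ∀ (M : Subgroup G) [M.Normal], BG (G ⧸ M) := by
  intro n
  induction n using Nat.strong_induction_on with
  | _ n ih =>
    intro G _ _ _ hn hB M hMn
    by_cases hM : M = ⊥
    · subst hM
      exact bg_transport hB (QuotientGroup.quotientBot (G := G)).symm
    · obtain ⟨N, hNM, hNne, hNn, hmin⟩ := exists_minimal_normal_le M hM
      have hBq : BG (G ⧸ N) := bg_quot_min hB N hNne hmin
      have hMn' : (M.map (QuotientGroup.mk' N)).Normal :=
        Subgroup.Normal.map hMn _ (QuotientGroup.mk'_surjective N)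
      have h1 := ih _ (hn ▸ card_quotient_lt N hNne) (G ⧸ N) rfl hBq
        (M.map (QuotientGroup.mk' N))
      exact bg_transport h1 (QuotientGroup.quotientQuotientEquivQuotient N M hNM)

end BGroup

end Cfsg.Agent.Lib.helper12
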