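import Mathlib
import Cfsg.Agent.Lib.helper12.Carter

/-!
More on Carter subgroups and system normalizers: images in quotients, conjugates of system
normalizers, and the case of nilpotent-by-nilpotent groups.
-/

set_option autoImplicit false

namespace Cfsg.Agent.Lib.helper12

open Pointwise

/-- The image of a Carter subgroup in a quotient of a finite solvable group is a Carter
subgroup. -/
theorem isCarterSubgroup_map_mk' {G : Type*} [Group G] [Finite G] [Group.IsSolvable G]
    (N : Subgroup G) [N.Normal] {C : Subgroup G} (hC : Cfsg.IsCarterSubgroup C) :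
    Cfsg.IsCarterSubgroup (C.map (QuotientGroup.mk' N)) := by
  have hπs : Function.Surjective (QuotientGroup.mk' N) := QuotientGroup.mk'_surjective N
  have hnil : Group.IsNilpotent C := hC.1
  refine ⟨Group.nilpotent_of_surjective ((QuotientGroup.mk' N).subgroupMap C)
    ((QuotientGroup.mk' N).subgroupMap_surjective C), ?_⟩
  apply le_antisymm _ Subgroup.le_normalizer
  intro y hy
  obtain ⟨x, rfl⟩ := hπs y
  have h2 : x ∈ (Subgroup.normalizer
      ((C.map (QuotientGroup.mk' N) : Subgroup (G ⧸ N)) : Set (G ⧸ N))).comap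
      (QuotientGroup.mk' N) := hy
  rw [Subgroup.comap_normalizer_eq_of_surjective _ hπs, Subgroup.comap_map_eq,
    QuotientGroup.ker_mk'] at h2
  have h3 : MulAut.conj x • C ≤ C ⊔ N := by
    calc MulAut.conj x • C ≤ MulAut.conj x • (C ⊔ N) := conj_smul_mono x le_sup_left
      _ = C ⊔ N := mem_normalizer_iff_conj_smul_eq.mp h2
  obtain ⟨l, hl⟩ := carter_conj _ (C ⊔ N : Subgroup G) rfl (C.subgroupOf (C ⊔ N))
    ((MulAut.conj x • C).subgroupOf (C ⊔ N)) (isCarterSubgroup_subgroupOf le_sup_left hC)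
    (isCarterSubgroup_subgroupOf h3 (isCarterSubgroup_conj x hC))
  have hcl : MulAut.conj x • C = MulAut.conj (l : G) • C := by
    have h1 := congrArg (Subgroup.map (C ⊔ N : Subgroup G).subtype) hl
    rw [Subgroup.subgroupOf_map_subtype, Cfsg.Agent.S0540.map_subtype_conj_smul,
      Subgroup.subgroupOf_map_subtype, inf_of_le_left h3, inf_of_le_left le_sup_left] at h1
    exact h1
  have h4 : (l : G)⁻¹ * x ∈ Subgroup.normalizer (C : Set G) := by
    rw [mem_normalizer_iff_conj_smul_eq, conj_mul_smul, hcl, conj_inv_smul_conj_smul]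
  rw [hC.2] at h4
  have h5 : x ∈ C ⊔ N := by
    have : x = (l : G) * ((l : G)⁻¹ * x) := by group
    rw [this]; exact Subgroup.mul_mem _ l.2 (Subgroup.mem_sup_left h4)
  have h6 := Subgroup.mem_map_of_mem (QuotientGroup.mk' N) h5
  rwa [Subgroup.map_sup, QuotientGroup.map_mk'_self, sup_bot_eq] at h6

/-- The system normalizer of a conjugated system is the conjugate of the system normalizer. -/
theorem systemNormalizer_conj {G : Type*} [Group G] (K : Nat.Primes → Subgroup G) (g : G) :
    Cfsg.systemNormalizer (fun q => MulAut.conj g • K q) = MulAut.conj g • Cfsg.systemNormalizer K := by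
  ext x
  rw [mem_conj_smul_iff]
  show x ∈ ⨅ q : Nat.Primes, Subgroup.normalizer ((MulAut.conj g • K q : Subgroup G) : Set G) ↔
    g⁻¹ * x * g ∈ ⨅ q : Nat.Primes, Subgroup.normalizer (K q : Set G)
  rw [Subgroup.mem_iInf, Subgroup.mem_iInf]
  apply forall_congr'
  intro q
  rw [mem_normalizer_iff_conj_smul_eq, mem_normalizer_iff_conj_smul_eq]
  constructor
  · intro h1
    have h2 := congrArg (fun A => MulAut.conj g⁻¹ • A) h1
    rw [← conj_mul_smul, ← conj_mul_smul, conj_inv_smul_conj_smul] at h2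
    exact h2
  · intro h1
    have h2 := congrArg (fun A => MulAut.conj g • A) h1
    rw [← conj_mul_smul] at h2
    have e : g * (g⁻¹ * x * g) = x * g := by group
    rw [e, conj_mul_smul] at h2
    exact h2

/-- Conjugating a complement system gives a complement system. -/
theorem isComplementSystem_conj {G : Type*} [Group G] [Finite G] {K : Nat.Primes → Subgroup G}
    (hK : Cfsg.IsComplementSystem K) (g : G) :
    Cfsg.IsComplementSystem (fun q => MulAut.conj g • K q) := by
  intro q
  show (MulAut.conj g • K q).index = _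
  rw [Cfsg.Agent.S0561.index_conj_smul, hK q]

/-- A Hall `q'`-subgroup of a subgroup of a finite solvable group. -/
theorem exists_hall_compl_le {G : Type*} [Group G] [Finite G] [Group.IsSolvable G]
    (C : Subgroup G) {q : ℕ} (hq : q.Prime) :
    ∃ Q : Subgroup G, Q ≤ C ∧ (Nat.card Q).Coprime q ∧ ∃ v, Q.relIndex C = q ^ v := by
  set v := (Nat.card C).factorization q with hv
  set m := Nat.card C / q ^ v with hm
  have hCm : Nat.card C = m * q ^ v := (Nat.div_mul_cancel (Nat.ordProj_dvd _ _)).symm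
  have hmcop : m.Coprime q := (Nat.coprime_ordCompl hq Nat.card_pos.ne').symm
  have hmpos : 0 < m := Nat.div_pos (Nat.le_of_dvd Nat.card_pos (Nat.ordProj_dvd _ _))
    (pow_pos hq.pos _)
  obtain ⟨Q', hQ'⟩ := Cfsg.Agent.Lib.lead.exists_subgroup_card_eq_of_isSolvable (G := C)
    hCm (Nat.Coprime.pow_right v hmcop)
  have hQC : Q'.map C.subtype ≤ C := Subgroup.map_subtype_le Q'
  have hQcard : Nat.card (Q'.map C.subtype) = m := by
    rw [Subgroup.card_map_of_injective C.subtype_injective, hQ']
  refine ⟨Q'.map C.subtype, hQC, by rw [hQcard]; exact hmcop, v, ?_⟩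
  have := card_mul_relIndex hQC
  rw [hQcard, hCm] at this
  exact Nat.eq_of_mul_eq_mul_left hmpos this

/-- A Hall subgroup of a nilpotent normal subgroup is normal in the whole group. -/
theorem normal_of_hall_of_normal_nilpotent {G : Type*} [Group G] [Finite G] (F : Subgroup G)
    [hFn : F.Normal] [Group.IsNilpotent F] (Q : Subgroup G) (hQF : Q ≤ F)
    (hcop : (Nat.card Q).Coprime (Q.relIndex F)) : Q.Normal := by
  have hFQ : F ≤ Subgroup.normalizer (Q : Set G) :=
    le_normalizer_of_coprime_of_isNilpotent F Q hQF hcop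
  constructor
  intro n hn g
  have h1 : g * n * g⁻¹ ∈ F := hFn.conj_mem n (hQF hn) g
  apply mem_of_mem_normalizer_of_coprime_relIndex Q F _ h1 (hFQ h1)
  have ho : orderOf (g * n * g⁻¹) ∣ Nat.card Q := by
    have h2 : orderOf (g * n * g⁻¹) = orderOf n := by
      rw [← MulAut.conj_apply]
      exact orderOf_injective (MulAut.conj g).toMonoidHom (MulAut.conj g).injective n
    rw [h2, ← Subgroup.orderOf_mk n hn]
    exact orderOf_dvd_natCard _
  exact Nat.Coprime.coprime_dvd_left ho hcop

/-- In a group with a nilpotent normal subgroup `F` and nilpotent quotient `G/F`, a Carter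
subgroup into which the complement system `K` reduces normalizes every member of `K`. -/
theorem carter_le_systemNormalizer_of_nilpotent_by_nilpotent {G : Type*} [Group G] [Finite G]
    [Group.IsSolvable G] (F : Subgroup G) [hFn : F.Normal] (hF : Group.IsNilpotent F)
    (hGF : Group.IsNilpotent (G ⧸ F)) (K : Nat.Primes → Subgroup G)
    (hK : Cfsg.IsComplementSystem K) (C : Subgroup G) (hC : Cfsg.IsCarterSubgroup C)
    (hE : ∀ (q : Nat.Primes), ∀ c ∈ C, ¬ ((q : ℕ) ∣ orderOf c) → c ∈ K q) :
    C ≤ Cfsg.systemNormalizer K := by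
  have hnilC : Group.IsNilpotent C := hC.1
  have hπs : Function.Surjective (QuotientGroup.mk' F) := QuotientGroup.mk'_surjective F
  have hCmap : C.map (QuotientGroup.mk' F) = ⊤ :=
    eq_top_of_normalizer_eq_of_isNilpotent _ (isCarterSubgroup_map_mk' F hC).2
  show C ≤ ⨅ q : Nat.Primes, Subgroup.normalizer (K q : Set G)
  apply le_iInf
  intro q
  obtain ⟨Fq, hFqF, hFqcop, vF, hFqrel⟩ := exists_hall_compl_le F q.2
  obtain ⟨Cq, hCqC, hCqcop, vC, hCqrel⟩ := exists_hall_compl_le C q.2
  have hFqn : Fq.Normal := normal_of_hall_of_normal_nilpotent F Fq hFqF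
    (by rw [hFqrel]; exact Nat.Coprime.pow_right vF hFqcop)
  have hCqn : C ≤ Subgroup.normalizer (Cq : Set G) :=
    le_normalizer_of_coprime_of_isNilpotent C Cq hCqC
      (by rw [hCqrel]; exact Nat.Coprime.pow_right vC hCqcop)
  have hFqK : Fq ≤ K q := by
    apply le_of_normal_of_coprime_card_index
    rw [hK q]; exact Nat.Coprime.pow_right _ hFqcop
  have hCqK : Cq ≤ K q := by
    intro c hc
    apply hE q c (hCqC hc)
    intro hd
    have ho : orderOf c ∣ Nat.card Cq := by
      rw [← Subgroup.orderOf_mk c hc]; exact orderOf_dvd_natCard _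
    exact (Nat.Prime.coprime_iff_not_dvd q.2).mp hCqcop.symm (hd.trans ho)
  have hTK : Fq ⊔ Cq ≤ K q := sup_le hFqK hCqK
  -- index of `Fq ⊔ Cq` is a power of `q`
  have hTle : Fq ⊔ Cq ≤ Cq ⊔ F := sup_le (hFqF.trans le_sup_right) le_sup_left
  have hidx1 : (Fq ⊔ Cq).relIndex (Cq ⊔ F) ∣ (q : ℕ) ^ vF := by
    have e : (Fq ⊔ Cq) ⊔ F = Cq ⊔ F := by
      rw [sup_assoc, sup_comm Cq F, ← sup_assoc, sup_eq_right.mpr hFqF, sup_comm]
    rw [← e, ← relIndex_eq_relIndex_sup_of_normal (Fq ⊔ Cq) F, ← hFqrel]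
    exact Subgroup.relIndex_dvd_of_le_left F le_sup_left
  have hidx2 : (Cq ⊔ F).index ∣ (q : ℕ) ^ vC := by
    have h1 : ((Cq ⊔ F).map (QuotientGroup.mk' F)).index = (Cq ⊔ F).index :=
      Subgroup.index_map_eq _ hπs (by rw [QuotientGroup.ker_mk']; exact le_sup_right)
    have h2 : (Cq ⊔ F).map (QuotientGroup.mk' F) = Cq.map (QuotientGroup.mk' F) := by
      rw [Subgroup.map_sup, QuotientGroup.map_mk'_self, sup_bot_eq]
    have hψs : Function.Surjective ((QuotientGroup.mk' F).comp C.subtype) := by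
      intro y
      have hy : y ∈ C.map (QuotientGroup.mk' F) := hCmap ▸ Subgroup.mem_top y
      obtain ⟨c, hc, rfl⟩ := hy
      exact ⟨⟨c, hc⟩, rfl⟩
    have h3 : (Cq.subgroupOf C).map ((QuotientGroup.mk' F).comp C.subtype)
        = Cq.map (QuotientGroup.mk' F) := by
      rw [← Subgroup.map_map, Subgroup.subgroupOf_map_subtype, inf_of_le_left hCqC]
    have h4 := Subgroup.index_map_dvd (Cq.subgroupOf C) hψs
    rw [h3] at h4
    rw [← h1, h2, ← hCqrel]
    exact h4
  have hidx : (Fq ⊔ Cq).index ∣ (q : ℕ) ^ (vF + vC) := by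
    rw [← Subgroup.relIndex_mul_index hTle, pow_add]
    exact Nat.mul_dvd_mul hidx1 hidx2
  obtain ⟨e, -, he⟩ := (Nat.dvd_prime_pow q.2).mp hidx
  have hTeq : Fq ⊔ Cq = K q := by
    apply Subgroup.eq_of_le_of_card_ge hTK
    have h1 := Subgroup.card_mul_index (Fq ⊔ Cq)
    have h2 := Subgroup.card_mul_index (K q)
    rw [he] at h1
    rw [hK q] at h2
    have hcop : (Nat.card (K q)).Coprime ((q : ℕ) ^ e) :=
      Nat.Coprime.pow_right e ((Nat.Prime.coprime_iff_not_dvd q.2).mpr
        (Cfsg.Agent.S0544.not_dvd_card_of_isComplementSystem hK q)).symm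
    have hd : Nat.card (K q) ∣ Nat.card (Fq ⊔ Cq : Subgroup G) :=
      hcop.dvd_of_dvd_mul_right (h1 ▸ ⟨_, h2.symm⟩)
    exact Nat.le_of_dvd Nat.card_pos hd
  intro c hc
  rw [mem_normalizer_iff_conj_smul_eq, ← hTeq, conj_smul_sup,
    Subgroup.Normal.conj_smul_eq_self c Fq, mem_normalizer_iff_conj_smul_eq.mp (hCqn hc)]

end Cfsg.Agent.Lib.helper12
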