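import Mathlib
import Cfsg.Agent.Lib.helper84.Frobenius
import Cfsg.Agent.Lib.helper82.CharQuot
import Cfsg.Agent.Lib.helper12.ProdCard

/-!
# The Frobenius–Wielandt theorem (helper12)

`frobenius_wielandt` : let `K ≤ L ≤ G` with `K` normal in `L` and `L ∩ L^g ≤ K` for all
`g ∉ L`.  Then the set `N` of elements `x` all of whose conjugates lying in `L` lie in `K`
is a normal subgroup of `G` with `N ∩ L = K` and `|N| |L| = |G| |K|` (so `N L = G`).

The proof follows helper84's proof of Frobenius' theorem (`Lib/helper84/Frobenius.lean`),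
using the irreducible characters of `L` inflated from `L/K`.
-/

set_option autoImplicit false

namespace Cfsg.Agent.Lib.helper12

open Cfsg Cfsg.Agent.Lib.helper83 Cfsg.Agent.Lib.helper19 Cfsg.Agent.Lib.helper84
open scoped ComplexConjugate Pointwise

universe u

variable {G : Type u} [Group G]

/-- If `L ∩ L^g ≤ K` for `g ∉ L`, a class function of `L` vanishing on `K` induces to a
function restricting back to itself. -/
theorem fw_ind_restrict [Fintype G] (H K : Subgroup G) [Fintype H]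
    (hTI : ∀ g : G, g ∉ H → H ⊓ (MulAut.conj g • H) ≤ K)
    (θ : H → ℂ) (hθ : IsClassFunction H θ) (h0 : ∀ l : H, (l : G) ∈ K → θ l = 0) (h : H) :
    indFun H θ (h : G) = θ h := by
  classical
  have hH0 : (Nat.card H : ℂ) ≠ 0 := by exact_mod_cast Nat.card_pos.ne'
  rw [indFun_apply]
  have hterm : ∀ x : G, extendByZero H θ (x⁻¹ * (h : G) * x) = if x ∈ H then θ h else 0 := by
    intro x
    split_ifs with hx
    · have hmem : x⁻¹ * (h : G) * x ∈ H := H.mul_mem (H.mul_mem (H.inv_mem hx) h.2) hx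
      rw [extendByZero_of_mem H θ _ hmem]
      have := hθ h (⟨x, hx⟩ : H)⁻¹
      rw [inv_inv] at this
      rw [← this]
      rfl
    · by_cases hmem : x⁻¹ * (h : G) * x ∈ H
      · rw [extendByZero_of_mem H θ _ hmem]
        apply h0
        have hx' : x⁻¹ ∉ H := fun hh => hx (by simpa using H.inv_mem hh)
        have hm2 : x⁻¹ * (h : G) * x ∈ MulAut.conj x⁻¹ • H := by
          rw [Cfsg.Agent.Lib.helper84.mem_conj_smul_iff]
          have e : (x⁻¹)⁻¹ * (x⁻¹ * (h : G) * x) * x⁻¹ = (h : G) := by group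
          rw [e]
          exact h.2
        exact hTI x⁻¹ hx' (Subgroup.mem_inf.mpr ⟨hmem, hm2⟩)
      · exact extendByZero_of_not_mem H θ _ hmem
  simp_rw [hterm]
  rw [Finset.sum_ite, Finset.sum_const_zero, add_zero, Finset.sum_const, nsmul_eq_mul]
  have hcard : ((Finset.univ : Finset G).filter (· ∈ H)).card = Nat.card H := by
    rw [Nat.card_eq_fintype_card, Fintype.card_subtype]
  rw [hcard]
  field_simp

/-- An induced function of a function vanishing on `K` vanishes at the elements none of whose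
conjugates lies in `L \ K`. -/
theorem fw_ind_vanish [Fintype G] (H K : Subgroup G) (θ : H → ℂ)
    (h0 : ∀ l : H, (l : G) ∈ K → θ l = 0) (x : G)
    (hx : ∀ g : G, g⁻¹ * x * g ∈ H → g⁻¹ * x * g ∈ K) : indFun H θ x = 0 := by
  rw [indFun_apply]
  have : ∀ y : G, extendByZero H θ (y⁻¹ * x * y) = 0 := by
    intro y
    by_cases hmem : y⁻¹ * x * y ∈ H
    · rw [extendByZero_of_mem H θ _ hmem]
      exact h0 _ (hx y hmem)
    · exact extendByZero_of_not_mem H θ _ hmem
  simp [this]

/-- The key step: an irreducible character `φ` of `L` that is constant on `K` extends to an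
irreducible character of `G` which is constant (equal to `φ 1`) on the elements none of whose
conjugates lies in `L \ K`. -/
theorem fw_extension [Fintype G] (H K : Subgroup G) [Fintype H]
    (hTI : ∀ g : G, g ∉ H → H ⊓ (MulAut.conj g • H) ≤ K) (φ : IrrCharacter H)
    (hφK : ∀ l : H, (l : G) ∈ K → (φ : H → ℂ) l = (φ : H → ℂ) 1) :
    IsIrrCharacter G
        (fun g => indFun H (fun h : H => (φ : H → ℂ) h - (φ : H → ℂ) 1) g + (φ : H → ℂ) 1) ∧
      (∀ h : H, indFun H (fun h : H => (φ : H → ℂ) h - (φ : H → ℂ) 1) (h : G) + (φ : H → ℂ) 1 =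
        (φ : H → ℂ) h) ∧
      (∀ x : G, (∀ g : G, g⁻¹ * x * g ∈ H → g⁻¹ * x * g ∈ K) →
        indFun H (fun h : H => (φ : H → ℂ) h - (φ : H → ℂ) 1) x + (φ : H → ℂ) 1 =
          (φ : H → ℂ) 1) := by
  classical
  set θ : H → ℂ := fun h : H => (φ : H → ℂ) h - (φ : H → ℂ) 1 with hθdef
  obtain ⟨d, hd, hd1⟩ := irr_exists_degree φ
  have hθcf : IsClassFunction H θ := by
    intro g y
    simp only [hθdef]
    rw [isClassFunction_irr φ g y]
  have hθ1 : ∀ l : H, (l : G) ∈ K → θ l = 0 := by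
    intro l hl
    simp [hθdef, hφK l hl]
  have hres : ∀ h : H, indFun H θ (h : G) + (φ : H → ℂ) 1 = (φ : H → ℂ) h := by
    intro h
    rw [fw_ind_restrict H K hTI θ hθcf hθ1 h]
    simp [hθdef]
  have hvan : ∀ x : G, (∀ g : G, g⁻¹ * x * g ∈ H → g⁻¹ * x * g ∈ K) →
      indFun H θ x + (φ : H → ℂ) 1 = (φ : H → ℂ) 1 := by
    intro x hx
    rw [fw_ind_vanish H K θ hθ1 x hx, zero_add]
  refine ⟨?_, hres, hvan⟩
  set Φ : G → ℂ := fun g => indFun H θ g + (φ : H → ℂ) 1 with hΦdef
  have hΦcf : IsClassFunction G Φ := by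
    intro g y
    simp only [hΦdef]
    rw [indFun_isClassFunction H θ g y]
  -- ε = ⟨1_H, φ⟩ is real
  set ε : ℂ := classInner (fun _ : H => (1 : ℂ)) (φ : H → ℂ) with hεdef
  have hε : conj ε = ε := by
    have : ε = if trivIrr H = φ then 1 else 0 := classInner_irr (trivIrr H) φ
    rw [this]
    split_ifs <;> simp
  have hε' : classInner (φ : H → ℂ) (fun _ : H => (1 : ℂ)) = ε := by
    rw [← classInner_conj_symm, ← hεdef, hε]
  have h11H : classInner (fun _ : H => (1 : ℂ)) (fun _ : H => (1 : ℂ)) = 1 := by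
    have := classInner_irr (trivIrr H) (trivIrr H)
    rw [if_pos rfl] at this
    exact this
  have h11G : classInner (fun _ : G => (1 : ℂ)) (fun _ : G => (1 : ℂ)) = 1 := by
    have := classInner_irr (trivIrr G) (trivIrr G)
    rw [if_pos rfl] at this
    exact this
  have hφφ : classInner (φ : H → ℂ) (φ : H → ℂ) = 1 := by
    have := classInner_irr φ φ
    simpa using this
  -- inner products of θ
  have hθφ : classInner θ (φ : H → ℂ) = 1 - d * ε := by
    simp only [hθdef]
    rw [classInner_sub_left, hφφ, classInner_const_left, hd1]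
  have hθ1' : classInner θ (fun _ : H => (1 : ℂ)) = ε - d := by
    simp only [hθdef]
    rw [classInner_sub_left, hε', classInner_const_left, h11H, hd1, mul_one]
  -- ⟨Φ, 1_G⟩ = ε
  have hΦ1 : classInner Φ (fun _ : G => (1 : ℂ)) = ε := by
    simp only [hΦdef]
    rw [classInner_add_left, classInner_const_left, h11G,
      frobenius_reciprocity H θ (fun _ : G => (1 : ℂ)) (isClassFunction_irr (trivIrr G))]
    rw [hθ1', hd1]
    ring
  have h1Φ : classInner (fun _ : G => (1 : ℂ)) Φ = ε := by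
    rw [← classInner_conj_symm, hΦ1, hε]
  -- restriction of Φ to H is φ
  have hΦres : (fun h : H => Φ (h : G)) = (φ : H → ℂ) := by
    funext h
    exact hres h
  have hnorm : classInner Φ Φ = 1 := by
    have e1 : classInner Φ Φ =
        classInner (indFun H θ) Φ + (φ : H → ℂ) 1 * classInner (fun _ : G => (1 : ℂ)) Φ := by
      conv_lhs => rw [hΦdef]
      rw [classInner_add_left, classInner_const_left]
    rw [e1, frobenius_reciprocity H θ Φ hΦcf, hΦres, hθφ, h1Φ, hd1]
    ring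
  have hint : ∀ χ : IrrCharacter G, ∃ n : ℤ, classInner Φ (χ : G → ℂ) = n := by
    intro χ
    have e1 : classInner Φ (χ : G → ℂ) =
        classInner (indFun H θ) (χ : G → ℂ) +
          (φ : H → ℂ) 1 * classInner (fun _ : G => (1 : ℂ)) (χ : G → ℂ) := by
      simp only [hΦdef]
      rw [classInner_add_left, classInner_const_left]
    have hχres : IsCharacter H (fun h : H => (χ : G → ℂ) h) :=
      isCharacter_restrict H (isCharacter_of_irr χ.2)
    obtain ⟨m₁, hm₁⟩ := classInner_isCharacter_nat hχres (isCharacter_of_irr φ.2)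
    obtain ⟨m₂, hm₂⟩ := classInner_isCharacter_nat hχres (isCharacter_of_irr (trivIrr H).2)
    have hm₁' : classInner (φ : H → ℂ) (fun h : H => (χ : G → ℂ) h) = m₁ := by
      rw [← classInner_conj_symm, hm₁]; simp
    have hm₂' : classInner (fun _ : H => (1 : ℂ)) (fun h : H => (χ : G → ℂ) h) = m₂ := by
      rw [← classInner_conj_symm]
      have : (trivIrr H : H → ℂ) = fun _ : H => (1 : ℂ) := rfl
      rw [this] at hm₂
      rw [hm₂]; simp
    have e2 : classInner (indFun H θ) (χ : G → ℂ) = (m₁ : ℂ) - d * m₂ := by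
      rw [frobenius_reciprocity H θ _ (isClassFunction_irr χ)]
      simp only [hθdef]
      rw [classInner_sub_left, hm₁', classInner_const_left, hm₂', hd1]
    have e3 : classInner (fun _ : G => (1 : ℂ)) (χ : G → ℂ) = if trivIrr G = χ then 1 else 0 :=
      classInner_irr (trivIrr G) χ
    refine ⟨(m₁ : ℤ) - d * m₂ + d * (if trivIrr G = χ then 1 else 0), ?_⟩
    rw [e1, e2, e3, hd1]
    split_ifs <;> push_cast <;> ring
  have hpos : 0 < (Φ 1).re := by
    have : Φ 1 = (d : ℂ) := by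
      have := hres 1
      simp only [Subgroup.coe_one] at this
      rw [← hd1]
      exact this
    rw [this]
    simpa using hd
  exact isIrrCharacter_of_norm_one Φ hΦcf hint hnorm hpos


/-- **Frobenius–Wielandt theorem**: let `K ≤ L` be subgroups of the finite group `G` with `K`
normal in `L` and `L ∩ L^g ≤ K` for every `g ∉ L`.  Then the elements `x` all of whose
conjugates lying in `L` lie in `K` form a normal subgroup `N` with `N ∩ L = K` and
`|N| |L| = |G| |K|`. -/
theorem frobenius_wielandt [Finite G] (L K : Subgroup G) (hKL : K ≤ L)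
    (hKn : (K.subgroupOf L).Normal)
    (hTI : ∀ g : G, g ∉ L → L ⊓ (MulAut.conj g • L) ≤ K) :
    ∃ N : Subgroup G, N.Normal ∧
      (∀ x : G, x ∈ N ↔ ∀ g : G, g⁻¹ * x * g ∈ L → g⁻¹ * x * g ∈ K) ∧ N ⊓ L = K ∧
      Nat.card N * Nat.card L = Nat.card G * Nat.card K := by
  classical
  have := Fintype.ofFinite G
  have := Fintype.ofFinite L
  have := Fintype.ofFinite (↥L ⧸ K.subgroupOf L)
  have := Fintype.ofFinite (IrrCharacter (↥L ⧸ K.subgroupOf L))
  -- inflated characters
  let φ : IrrCharacter (↥L ⧸ K.subgroupOf L) → IrrCharacter L := fun ψ =>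
    ⟨fun l : L => (ψ : ↥L ⧸ K.subgroupOf L → ℂ) (l : ↥L ⧸ K.subgroupOf L),
      Cfsg.Agent.Lib.helper82.isIrrCharacter_inflation (K.subgroupOf L) ψ.2⟩
  have hφapp : ∀ (ψ : IrrCharacter (↥L ⧸ K.subgroupOf L)) (l : L),
      (φ ψ : L → ℂ) l = (ψ : ↥L ⧸ K.subgroupOf L → ℂ) (l : ↥L ⧸ K.subgroupOf L) := fun _ _ => rfl
  have hφone : ∀ ψ : IrrCharacter (↥L ⧸ K.subgroupOf L),
      (φ ψ : L → ℂ) 1 = (ψ : ↥L ⧸ K.subgroupOf L → ℂ) 1 := fun _ => rfl
  have hφK : ∀ (ψ : IrrCharacter (↥L ⧸ K.subgroupOf L)) (l : L), (l : G) ∈ K →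
      (φ ψ : L → ℂ) l = (φ ψ : L → ℂ) 1 := by
    intro ψ l hl
    rw [hφapp, hφone]
    have : (l : ↥L ⧸ K.subgroupOf L) = 1 :=
      (QuotientGroup.eq_one_iff l).mpr (Subgroup.mem_subgroupOf.mpr hl)
    rw [this]
  -- the extended characters and representations affording them
  have hex : ∀ ψ : IrrCharacter (↥L ⧸ K.subgroupOf L),
      ∃ (n : ℕ) (ρ : Representation ℂ G (Fin n → ℂ)),
      ρ.character =
        (fun g => indFun L (fun h : L => (φ ψ : L → ℂ) h - (φ ψ : L → ℂ) 1) g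
          + (φ ψ : L → ℂ) 1) := by
    intro ψ
    obtain ⟨n, ρ, -, h⟩ := (fw_extension L K hTI (φ ψ) (hφK ψ)).1
    exact ⟨n, ρ, h⟩
  choose n ρ hρ using hex
  have hres : ∀ (ψ : IrrCharacter (↥L ⧸ K.subgroupOf L)) (h : L),
      (ρ ψ).character (h : G) = (φ ψ : L → ℂ) h := by
    intro ψ h
    rw [hρ]
    exact (fw_extension L K hTI (φ ψ) (hφK ψ)).2.1 h
  have hvan : ∀ (ψ : IrrCharacter (↥L ⧸ K.subgroupOf L)) (x : G),
      (∀ g : G, g⁻¹ * x * g ∈ L → g⁻¹ * x * g ∈ K) →
      (ρ ψ).character x = (φ ψ : L → ℂ) 1 := by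
    intro ψ x hx
    rw [hρ]
    exact (fw_extension L K hTI (φ ψ) (hφK ψ)).2.2 x hx
  have hone : ∀ ψ : IrrCharacter (↥L ⧸ K.subgroupOf L),
      (φ ψ : L → ℂ) 1 = (Module.finrank ℂ (Fin (n ψ) → ℂ) : ℂ) := by
    intro ψ
    rw [← Representation.char_one (ρ ψ)]
    have := hres ψ 1
    simpa using this.symm
  let M : Subgroup G := ⨅ ψ : IrrCharacter (↥L ⧸ K.subgroupOf L), (ρ ψ : G →* _).ker
  have hMnormal : M.Normal := Subgroup.normal_iInf_normal fun ψ => MonoidHom.normal_ker _
  have hmemM : ∀ x : G, x ∈ M ↔ ∀ ψ : IrrCharacter (↥L ⧸ K.subgroupOf L), ρ ψ x = 1 := by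
    intro x
    simp only [M, Subgroup.mem_iInf, MonoidHom.mem_ker]
  -- good elements lie in M
  have hgood_le : ∀ x : G, (∀ g : G, g⁻¹ * x * g ∈ L → g⁻¹ * x * g ∈ K) → x ∈ M := by
    intro x hx
    rw [hmemM]
    intro ψ
    apply Cfsg.Agent.Lib.helper82.rep_eq_one_of_char_eq
    rw [hvan ψ x hx, hone ψ]
  -- M ∩ L ≤ K
  have hML : ∀ x ∈ M, x ∈ L → x ∈ K := by
    intro x hxM hxL
    rw [hmemM] at hxM
    have hval : ∀ ψ : IrrCharacter (↥L ⧸ K.subgroupOf L),
        (ψ : ↥L ⧸ K.subgroupOf L → ℂ) ((⟨x, hxL⟩ : L) : ↥L ⧸ K.subgroupOf L)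
          = (ψ : ↥L ⧸ K.subgroupOf L → ℂ) 1 := by
      intro ψ
      rw [← hφapp ψ ⟨x, hxL⟩, ← hφone ψ, ← hres ψ ⟨x, hxL⟩, hone ψ]
      simp [Representation.character, hxM ψ]
    have h1 := second_orthogonality (G := ↥L ⧸ K.subgroupOf L)
      ((⟨x, hxL⟩ : L) : ↥L ⧸ K.subgroupOf L) 1
    have h2 := second_orthogonality_of_isConj (G := ↥L ⧸ K.subgroupOf L)
      (IsConj.refl (1 : ↥L ⧸ K.subgroupOf L))
    simp_rw [hval] at h1
    rw [h2] at h1
    have hne : (Nat.card (Subgroup.centralizer ({(1 : ↥L ⧸ K.subgroupOf L)} :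
        Set (↥L ⧸ K.subgroupOf L))) : ℂ) ≠ 0 := by
      exact_mod_cast Nat.card_pos.ne'
    by_cases hc : IsConj (((⟨x, hxL⟩ : L) : ↥L ⧸ K.subgroupOf L)) 1
    · have h3 := isConj_one_left.1 hc
      have h4 := (QuotientGroup.eq_one_iff (⟨x, hxL⟩ : L)).mp h3
      exact Subgroup.mem_subgroupOf.mp h4
    · rw [if_neg hc] at h1
      exact absurd h1 hne
  -- elements of M are good
  have hM_good : ∀ x ∈ M, ∀ g : G, g⁻¹ * x * g ∈ L → g⁻¹ * x * g ∈ K := by
    intro x hx g hg
    have hM' : g⁻¹ * x * g ∈ M := by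
      have := hMnormal.conj_mem x hx g⁻¹
      simpa using this
    exact hML _ hM' hg
  -- K normal in L
  have hKconj : ∀ l ∈ L, ∀ k ∈ K, l * k * l⁻¹ ∈ K := by
    intro l hl k hk
    have := hKn.conj_mem (⟨k, hKL hk⟩ : L) (Subgroup.mem_subgroupOf.mpr hk) ⟨l, hl⟩
    exact Subgroup.mem_subgroupOf.mp this
  -- elements of K are good
  have hK_good : ∀ k ∈ K, ∀ g : G, g⁻¹ * k * g ∈ L → g⁻¹ * k * g ∈ K := by
    intro k hk g hg
    by_cases hgL : g ∈ L
    · have := hKconj g⁻¹ (L.inv_mem hgL) k hk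
      simpa using this
    · have hx' : g⁻¹ ∉ L := fun hh => hgL (by simpa using L.inv_mem hh)
      have hm2 : g⁻¹ * k * g ∈ MulAut.conj g⁻¹ • L := by
        rw [Cfsg.Agent.Lib.helper84.mem_conj_smul_iff]
        have e : (g⁻¹)⁻¹ * (g⁻¹ * k * g) * g⁻¹ = k := by group
        rw [e]
        exact hKL hk
      exact hTI g⁻¹ hx' (Subgroup.mem_inf.mpr ⟨hg, hm2⟩)
  have hKM : K ≤ M := fun k hk => hgood_le k (hK_good k hk)
  have hinf : M ⊓ L = K := by
    apply le_antisymm
    · intro x hx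
      exact hML x hx.1 hx.2
    · exact le_inf hKM hKL
  refine ⟨M, hMnormal, fun x => ⟨hM_good x, hgood_le x⟩, hinf, ?_⟩
  -- upper bound
  have hup : Nat.card M * Nat.card L ≤ Nat.card G * Nat.card K := by
    have h1 := card_mul_set_mul_card_inf M L
    rw [hinf] at h1
    rw [← h1]
    apply Nat.mul_le_mul_right
    exact Nat.card_le_card_of_injective (fun x : ((M : Set G) * (L : Set G) : Set G) => (x : G))
      Subtype.val_injective
  -- lower bound: elements outside M are conjugate into L \ K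
  have hex2 : ∀ x : {x : G // x ∉ M}, ∃ q : G ⧸ L,
      q.out⁻¹ * (x : G) * q.out ∈ L ∧ q.out⁻¹ * (x : G) * q.out ∉ K := by
    intro x
    have hx : ¬ ∀ g : G, g⁻¹ * (x : G) * g ∈ L → g⁻¹ * (x : G) * g ∈ K :=
      fun h => x.2 (hgood_le _ h)
    simp only [not_forall] at hx
    obtain ⟨g, hg, hgK⟩ := hx
    obtain ⟨h₀, hh₀⟩ := QuotientGroup.mk_out_eq_mul L g
    refine ⟨QuotientGroup.mk g, ?_⟩
    rw [hh₀]
    have e : (g * (h₀ : G))⁻¹ * (x : G) * (g * (h₀ : G))
        = (h₀ : G)⁻¹ * (g⁻¹ * (x : G) * g) * h₀ := by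
      group
    rw [e]
    refine ⟨L.mul_mem (L.mul_mem (L.inv_mem h₀.2) hg) h₀.2, ?_⟩
    intro hk
    apply hgK
    have := hKconj (h₀ : G) h₀.2 _ hk
    have e2 : (h₀ : G) * ((h₀ : G)⁻¹ * (g⁻¹ * (x : G) * g) * h₀) * (h₀ : G)⁻¹
        = g⁻¹ * (x : G) * g := by group
    rw [e2] at this
    exact this
  choose q hq using hex2
  have hinj : Function.Injective
      (fun x : {x : G // x ∉ M} =>
        ((q x, ⟨⟨(q x).out⁻¹ * (x : G) * (q x).out, (hq x).1⟩, (hq x).2⟩) :
          (G ⧸ L) × {l : L // (l : G) ∉ K})) := by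
    intro x y hxy
    have hq' : q x = q y := congrArg Prod.fst hxy
    have hv : (q x).out⁻¹ * (x : G) * (q x).out = (q y).out⁻¹ * (y : G) * (q y).out := by
      have := congrArg (fun p : (G ⧸ L) × {l : L // (l : G) ∉ K} => ((p.2 : L) : G)) hxy
      exact this
    rw [hq'] at hv
    apply Subtype.ext
    exact mul_left_cancel (mul_right_cancel hv)
  have hcard1 := Nat.card_le_card_of_injective _ hinj
  rw [Nat.card_prod] at hcard1
  have hc1 : Nat.card {x : G // x ∉ M} = Nat.card G - Nat.card M := by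
    rw [Nat.card_eq_fintype_card, Nat.card_eq_fintype_card, Nat.card_eq_fintype_card]
    exact Fintype.card_subtype_compl _
  have hc2 : Nat.card {l : L // (l : G) ∉ K} = Nat.card L - Nat.card K := by
    have e1 : Nat.card {l : L // (l : G) ∉ K} = Nat.card L - Nat.card {l : L // (l : G) ∈ K} := by
      rw [Nat.card_eq_fintype_card, Nat.card_eq_fintype_card, Nat.card_eq_fintype_card]
      exact Fintype.card_subtype_compl _
    have e2 : Nat.card {l : L // (l : G) ∈ K} = Nat.card K := by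
      have : Nat.card (K.subgroupOf L) = Nat.card K :=
        Nat.card_congr (Subgroup.subgroupOfEquivOfLe hKL).toEquiv
      rw [← this]
      rfl
    rw [e1, e2]
  rw [hc1, hc2] at hcard1
  have hG : Nat.card G = Nat.card (G ⧸ L) * Nat.card L :=
    Subgroup.card_eq_card_quotient_mul_card_subgroup L
  have hMle : Nat.card M ≤ Nat.card G := Subgroup.card_le_card_group M
  have hKle : Nat.card K ≤ Nat.card L := Subgroup.card_le_of_le hKL
  -- arithmetic
  have h3 : Nat.card (G ⧸ L) * Nat.card K ≤ Nat.card M := by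
    have e : Nat.card (G ⧸ L) * (Nat.card L - Nat.card K)
        = Nat.card (G ⧸ L) * Nat.card L - Nat.card (G ⧸ L) * Nat.card K := Nat.mul_sub _ _ _
    have e' : Nat.card (G ⧸ L) * Nat.card K ≤ Nat.card (G ⧸ L) * Nat.card L :=
      Nat.mul_le_mul_left _ hKle
    rw [e, ← hG] at hcard1
    rw [← hG] at e'
    omega
  have h4 : Nat.card G * Nat.card K ≤ Nat.card M * Nat.card L := by
    calc Nat.card G * Nat.card K = Nat.card (G ⧸ L) * Nat.card K * Nat.card L := by
          rw [hG]; ring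
      _ ≤ Nat.card M * Nat.card L := Nat.mul_le_mul_right _ h3
  exact le_antisymm hup h4

end Cfsg.Agent.Lib.helper12
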