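import Mathlib
import Cfsg.Agent.Lib.helper86.IvDefs

/-!
S3928 piece ORBIT (racing copy by helper12): `h12_iv_orbit` = verbatim Skel statement of
`iv_orbit` under a prefixed name.
-/

set_option autoImplicit false
set_option linter.unusedVariables false
set_option linter.unusedSectionVars false

namespace Cfsg.Agent.Lib.helper86.IV

/-- an automorphism `φ` of `G` with `φ(N) = N` preserves the relative index of centralizers -/
theorem h12_relIndex_cent {G : Type*} [Group G] (φ : G ≃* G) (N : Subgroup G)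
    (hφN : N.map (φ : G →* G) = N) (v : G) :
    (Subgroup.centralizer {φ v}).relIndex N = (Subgroup.centralizer {v}).relIndex N := by
  have h1 : Subgroup.centralizer {φ v} = (Subgroup.centralizer {v}).map (φ : G →* G) := by
    ext x
    simp only [Subgroup.mem_centralizer_singleton_iff, Subgroup.mem_map, MonoidHom.coe_coe]
    constructor
    · intro hx
      refine ⟨φ.symm x, ?_, by simp⟩
      apply φ.injective
      rw [map_mul, map_mul, MulEquiv.apply_symm_apply]
      exact hx
    · rintro ⟨y, hy, rfl⟩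
      rw [← map_mul, hy, map_mul]
  have h3 : (Subgroup.centralizer {φ v}).relIndex N
      = ((Subgroup.centralizer {v}).map (φ : G →* G)).relIndex (N.map (φ : G →* G)) := by
    rw [h1, hφN]
  rw [h3]
  exact Subgroup.relIndex_map_map_of_injective _ _ φ.injective

/-- ORBIT (racing copy): a minimal `α`-invariant normal subgroup is generated by the
`(G, α)`-orbit of any of its nontrivial elements. -/
theorem h12_iv_orbit {G : Type*} [Group G] [Finite G] (α : MulAut G) (h2 : ∀ g, α (α g) = g)
    (N : Subgroup G) [N.Normal] (hN : ∀ n ∈ N, α n ∈ N)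
    (hmin : ∀ L : Subgroup G, L.Normal → (∀ n ∈ L, α n ∈ L) → L ≤ N → L = ⊥ ∨ L = N)
    (v : G) (hv : v ∈ N) (hv1 : v ≠ 1) :
    ∃ O : Finset G, Subgroup.closure (O : Set G) = N ∧
      O.card ≤ 2 * (Subgroup.centralizer {v}).index ∧
      ∀ o ∈ O, orderOf o = orderOf v ∧
        (Subgroup.centralizer {o}).relIndex N = (Subgroup.centralizer {v}).relIndex N := by
  classical
  haveI : Fintype G := Fintype.ofFinite G
  haveI : Fintype (G ⧸ Subgroup.centralizer {v}) := Fintype.ofFinite _
  -- the conjugates, indexed by the cosets of the centralizer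
  obtain ⟨f, hfdef⟩ : ∃ f : G ⧸ Subgroup.centralizer {v} → G,
      f = fun q => q.out * v * q.out⁻¹ := ⟨_, rfl⟩
  have hf : ∀ g : G, f (QuotientGroup.mk g) = g * v * g⁻¹ := by
    intro g
    obtain ⟨c, hc⟩ := QuotientGroup.mk_out_eq_mul (Subgroup.centralizer {v}) g
    have hcv : (c : G) * v = v * c := Subgroup.mem_centralizer_singleton_iff.mp c.2
    rw [hfdef]
    show (QuotientGroup.mk g : G ⧸ Subgroup.centralizer {v}).out * v *
      ((QuotientGroup.mk g : G ⧸ Subgroup.centralizer {v}).out)⁻¹ = _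
    rw [hc]
    calc g * ↑c * v * (g * ↑c)⁻¹ = g * (↑c * v) * (↑c : G)⁻¹ * g⁻¹ := by group
      _ = g * (v * ↑c) * (↑c : G)⁻¹ * g⁻¹ := by rw [hcv]
      _ = g * v * g⁻¹ := by group
  obtain ⟨O1, hO1⟩ : ∃ O1 : Finset G, O1 = Finset.univ.image f := ⟨_, rfl⟩
  obtain ⟨O, hO⟩ : ∃ O : Finset G, O = O1 ∪ O1.image (fun u => α u) := ⟨_, rfl⟩
  have hmemO1 : ∀ u, u ∈ O1 ↔ ∃ g : G, u = g * v * g⁻¹ := by
    intro u
    rw [hO1, Finset.mem_image]
    constructor
    · rintro ⟨q, -, rfl⟩
      exact ⟨q.out, by rw [hfdef]⟩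
    · rintro ⟨g, rfl⟩
      exact ⟨QuotientGroup.mk g, Finset.mem_univ _, hf g⟩
  have hmemO : ∀ u, u ∈ O ↔ (∃ g : G, u = g * v * g⁻¹) ∨ ∃ g : G, u = α (g * v * g⁻¹) := by
    intro u
    rw [hO, Finset.mem_union, Finset.mem_image, hmemO1]
    constructor
    · rintro (h | ⟨w, hw, rfl⟩)
      · exact Or.inl h
      · obtain ⟨g, rfl⟩ := (hmemO1 w).mp hw
        exact Or.inr ⟨g, rfl⟩
    · rintro (h | ⟨g, rfl⟩)
      · exact Or.inl h
      · exact Or.inr ⟨g * v * g⁻¹, (hmemO1 _).mpr ⟨g, rfl⟩, rfl⟩
  -- card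
  have hcard1 : O1.card ≤ (Subgroup.centralizer {v}).index := by
    calc O1.card ≤ (Finset.univ : Finset (G ⧸ Subgroup.centralizer {v})).card := by
          rw [hO1]; exact Finset.card_image_le
      _ = Fintype.card (G ⧸ Subgroup.centralizer {v}) := Finset.card_univ
      _ = (Subgroup.centralizer {v}).index := by
          rw [Subgroup.index, Nat.card_eq_fintype_card]
  have hcard : O.card ≤ 2 * (Subgroup.centralizer {v}).index := by
    calc O.card ≤ O1.card + (O1.image (fun u => α u)).card := by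
          rw [hO]; exact Finset.card_union_le _ _
      _ ≤ O1.card + O1.card := Nat.add_le_add_left Finset.card_image_le _
      _ ≤ 2 * (Subgroup.centralizer {v}).index := by omega
  -- O ⊆ N
  have hON : ∀ u ∈ O, u ∈ N := by
    intro u hu
    rcases (hmemO u).mp hu with ⟨g, rfl⟩ | ⟨g, rfl⟩
    · exact Subgroup.Normal.conj_mem inferInstance v hv g
    · exact hN _ (Subgroup.Normal.conj_mem inferInstance v hv g)
  -- O closed under conjugation
  have hOconj : ∀ (h : G), ∀ u ∈ O, h * u * h⁻¹ ∈ O := by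
    intro h u hu
    rcases (hmemO u).mp hu with ⟨g, rfl⟩ | ⟨g, rfl⟩
    · exact (hmemO _).mpr (Or.inl ⟨h * g, by group⟩)
    · refine (hmemO _).mpr (Or.inr ⟨α h * g, ?_⟩)
      simp only [map_mul, map_inv, h2, mul_inv_rev]
      group
  have hOα : ∀ u ∈ O, α u ∈ O := by
    intro u hu
    rcases (hmemO u).mp hu with ⟨g, rfl⟩ | ⟨g, rfl⟩
    · exact (hmemO _).mpr (Or.inr ⟨g, rfl⟩)
    · exact (hmemO _).mpr (Or.inl ⟨g, h2 _⟩)
  -- closure
  have hLnorm : (Subgroup.closure (O : Set G)).Normal := by
    constructor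
    intro n hn g
    induction hn using Subgroup.closure_induction with
    | mem x hx => exact Subgroup.subset_closure (hOconj g x hx)
    | one => simp
    | mul x y _ _ ihx ihy =>
      have : g * (x * y) * g⁻¹ = (g * x * g⁻¹) * (g * y * g⁻¹) := by group
      rw [this]; exact mul_mem ihx ihy
    | inv x _ ihx =>
      have : g * x⁻¹ * g⁻¹ = (g * x * g⁻¹)⁻¹ := by group
      rw [this]; exact inv_mem ihx
  have hLα : ∀ n ∈ Subgroup.closure (O : Set G), α n ∈ Subgroup.closure (O : Set G) := by
    intro n hn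
    induction hn using Subgroup.closure_induction with
    | mem x hx => exact Subgroup.subset_closure (hOα x hx)
    | one => simp
    | mul x y _ _ ihx ihy => rw [map_mul]; exact mul_mem ihx ihy
    | inv x _ ihx => rw [map_inv]; exact inv_mem ihx
  have hLN : Subgroup.closure (O : Set G) ≤ N :=
    (Subgroup.closure_le N).mpr (fun u hu => hON u hu)
  have hvO : v ∈ O := (hmemO v).mpr (Or.inl ⟨1, by simp⟩)
  have hLbot : Subgroup.closure (O : Set G) ≠ ⊥ := by
    intro hbot
    have : v ∈ Subgroup.closure (O : Set G) := Subgroup.subset_closure hvO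
    rw [hbot, Subgroup.mem_bot] at this
    exact hv1 this
  have hLeq : Subgroup.closure (O : Set G) = N := (hmin _ hLnorm hLα hLN).resolve_left hLbot
  refine ⟨O, hLeq, hcard, ?_⟩
  intro o ho
  have hαN : N.map ((α : G ≃* G) : G →* G) = N := iv_map_eq α h2 N hN
  have hconjN : ∀ g : G, N.map ((MulAut.conj g : G ≃* G) : G →* G) = N := by
    intro g
    ext x
    simp only [Subgroup.mem_map, MonoidHom.coe_coe, MulAut.conj_apply]
    constructor
    · rintro ⟨n, hn, rfl⟩
      exact Subgroup.Normal.conj_mem inferInstance n hn g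
    · intro hx
      refine ⟨g⁻¹ * x * g, ?_, by group⟩
      have := Subgroup.Normal.conj_mem (inferInstance : N.Normal) x hx g⁻¹
      simpa using this
  have hord : ∀ g : G, orderOf (g * v * g⁻¹) = orderOf v := by
    intro g
    have := MulEquiv.orderOf_eq (MulAut.conj g) v
    rwa [MulAut.conj_apply] at this
  have hrel : ∀ g : G, (Subgroup.centralizer {g * v * g⁻¹}).relIndex N
      = (Subgroup.centralizer {v}).relIndex N := by
    intro g
    have := h12_relIndex_cent (MulAut.conj g) N (hconjN g) v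
    rwa [MulAut.conj_apply] at this
  rcases (hmemO o).mp ho with ⟨g, rfl⟩ | ⟨g, rfl⟩
  · exact ⟨hord g, hrel g⟩
  · constructor
    · rw [MulEquiv.orderOf_eq α]
      exact hord g
    · rw [h12_relIndex_cent α N hαN]
      exact hrel g

end Cfsg.Agent.Lib.helper86.IV
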