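import Mathlib
import Cfsg.Prelude.Def_LieTypeChar
import Cfsg.Agent.Lib.helper44.LODefs
import Cfsg.Agent.Lib.helper53.LOARITHr
import Cfsg.Agent.S0243

/-!
# S2363 piece PSL2 (racing copy): `h12_lo_psl_two`
-/

set_option autoImplicit false

namespace Cfsg.Agent.Lib.helper44.LO

open Cfsg

/-- PSL2. -/
theorem h12_lo_psl_two {F : Type} [Field F] [Fintype F] (p : ℕ) (hp : p.Prime) [CharP F p] :
    Nat.card (Matrix.ProjectiveSpecialLinearGroup (Fin 2) F) <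
        p ^ (3 * (Nat.card (Matrix.ProjectiveSpecialLinearGroup (Fin 2) F)).factorization p) ∧
      Fintype.card F = p ^ (Nat.card (Matrix.ProjectiveSpecialLinearGroup (Fin 2) F)).factorization p := by
  obtain ⟨f, -, hf⟩ := FiniteField.card F p
  have hf1 : 1 ≤ (f : ℕ) := f.pos
  have hS := Cfsg.Agent.S0243.result (F := F) (q := p ^ (f : ℕ)) hf 2 le_rfl
  rw [Fin.prod_univ_two] at hS
  simp only [Fin.val_zero, Fin.val_one, pow_zero, pow_one] at hS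
  generalize hn : Nat.card (Matrix.ProjectiveSpecialLinearGroup (Fin 2) F) = n at hS ⊢
  have hp2 : 2 ≤ p := hp.two_le
  have hq2 : 2 ≤ p ^ (f : ℕ) := le_trans hp2 (Nat.le_self_pow (by omega) p)
  have hpq : p ∣ p ^ (f : ℕ) := dvd_pow_self p (by omega)
  generalize hq : p ^ (f : ℕ) = q at hS hq2 hpq hf
  have hnd : ∀ j, 1 ≤ j → ¬ p ∣ q ^ j - 1 := by
    intro j hj h
    have h1 : p ∣ q ^ j := dvd_trans hpq (dvd_pow_self q (by omega))
    have h2 : 1 ≤ q ^ j := Nat.one_le_pow _ _ (by omega)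
    have h3 : p ∣ q ^ j - (q ^ j - 1) := Nat.dvd_sub h1 h
    rw [Nat.sub_sub_self h2] at h3
    exact hp.one_lt.ne' (Nat.dvd_one.mp h3)
  have hnd1 : ¬ p ∣ q - 1 := by
    have := hnd 1 le_rfl
    rwa [pow_one] at this
  have hqq : q ^ 2 - q = q * (q - 1) := by
    rw [Nat.mul_sub, mul_one, sq]
  have hgpos : 1 ≤ Nat.gcd 2 (q - 1) := Nat.gcd_pos_of_pos_left _ (by norm_num)
  have hc : Nat.gcd 2 (q - 1) * (q - 1) * n = (p ^ (f : ℕ)) ^ 1 * ((q ^ 2 - 1) * (q - 1)) := by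
    rw [hq, pow_one, mul_assoc, hS, hqq]
    ring
  have hcp : ¬ p ∣ Nat.gcd 2 (q - 1) * (q - 1) := by
    intro h
    rcases (Nat.Prime.dvd_mul hp).mp h with h' | h'
    · exact hnd1 (dvd_trans h' (Nat.gcd_dvd_right _ _))
    · exact hnd1 h'
  have hMp : ¬ p ∣ (q ^ 2 - 1) * (q - 1) := by
    intro h
    rcases (Nat.Prime.dvd_mul hp).mp h with h' | h'
    · exact hnd 2 (by norm_num) h'
    · exact hnd1 h'
  have hM : (q ^ 2 - 1) * (q - 1) < Nat.gcd 2 (q - 1) * (q - 1) * (p ^ (f : ℕ)) ^ 2 := by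
    rw [hq]
    have hq1 : 0 < q - 1 := by omega
    have hq2' : 0 < q ^ 2 := by positivity
    calc (q ^ 2 - 1) * (q - 1) < q ^ 2 * (q - 1) :=
          Nat.mul_lt_mul_of_pos_right (Nat.sub_lt hq2' one_pos) hq1
      _ = 1 * ((q - 1) * q ^ 2) := by ring
      _ ≤ Nat.gcd 2 (q - 1) * ((q - 1) * q ^ 2) := Nat.mul_le_mul_right _ hgpos
      _ = Nat.gcd 2 (q - 1) * (q - 1) * q ^ 2 := by ring
  obtain ⟨hk, hlt⟩ := h53_lo_arith hp (f : ℕ) hf1 (Nat.gcd 2 (q - 1) * (q - 1)) n 1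
    ((q ^ 2 - 1) * (q - 1)) 2 hc hcp hMp hM
  rw [mul_one] at hk
  rw [hk]
  refine ⟨?_, ?_⟩
  · calc n < (p ^ (f : ℕ)) ^ (1 + 2) := hlt
      _ = p ^ (3 * (f : ℕ)) := by rw [← pow_mul]; congr 1; ring
  · rw [hf, hq]

end Cfsg.Agent.Lib.helper44.LO
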