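import Mathlib

set_option autoImplicit false

namespace Cfsg.Agent.Lib.helper12.MC

open Subgroup

/-- IDX: a subgroup between `K` and `H` with `K.relIndex H` prime is `K` or `H`. -/
theorem eq_or_eq_of_relIndex_prime {G : Type*} [Group G] {K M H : Subgroup G} {p : ℕ} (hp : p.Prime)
    (hKM : K ≤ M) (hMH : M ≤ H) (hidx : K.relIndex H = p) : M = K ∨ M = H := by
  have h := Subgroup.relIndex_mul_relIndex K M H hKM hMH
  rw [hidx] at h
  have h1 : K.relIndex M = 1 ∨ M.relIndex H = 1 := by
    rcases (Nat.dvd_prime hp).mp (Dvd.intro _ h) with h1 | h1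
    · exact Or.inl h1
    · right
      rw [h1] at h
      have hp0 : 0 < p := hp.pos
      nlinarith [Nat.eq_of_mul_eq_mul_left hp0 (by rw [h, mul_one] : p * M.relIndex H = p * 1)]
  rcases h1 with h1 | h1
  · left
    exact le_antisymm (Subgroup.relIndex_eq_one.mp h1) hKM
  · right
    exact le_antisymm hMH (Subgroup.relIndex_eq_one.mp h1)

end Cfsg.Agent.Lib.helper12.MC
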