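import Mathlib
import Cfsg.Agent.Lib.helper12.MCBase
import Cfsg.Agent.Lib.helper68.HallPet
import Cfsg.Agent.Lib.helper26.S3806_B
import Cfsg.Agent.Lib.helper39.S3806_C

set_option autoImplicit false

namespace Cfsg.Agent.Lib.helper12.MC

open Subgroup
open scoped commutatorElement

/-- A (helper12 copy): `γ_k(T)` is abelian when `γ_{2k+1}(T) = 1` and `|γ_k : γ_{k+1}| = p`. -/
theorem h12_lcs_comm_of_index (p : ℕ) [Fact p.Prime] {T : Type*} [Group T] [Finite T] (k : ℕ)
    (hk : 2 ≤ k)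
    (hidx : ∀ i, 1 ≤ i → i ≤ 2 * k → ((⊤ : Subgroup T).lowerCentralSeries i).index = p ^ (i + 1))
    (hbot : (⊤ : Subgroup T).lowerCentralSeries (2 * k) = ⊥) :
    ∀ x ∈ (⊤ : Subgroup T).lowerCentralSeries (k - 1),
      ∀ y ∈ (⊤ : Subgroup T).lowerCentralSeries (k - 1), x * y = y * x := by
  have hp := (Fact.out : p.Prime)
  have hanti := Subgroup.lowerCentralSeries_antitone (⊤ : Subgroup T)
  have hBA : (⊤ : Subgroup T).lowerCentralSeries k ≤ (⊤ : Subgroup T).lowerCentralSeries (k - 1) :=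
    hanti (by omega)
  have hrel : ((⊤ : Subgroup T).lowerCentralSeries k).relIndex
      ((⊤ : Subgroup T).lowerCentralSeries (k - 1)) = p := by
    have h1 := Subgroup.relIndex_mul_index hBA
    rw [hidx k (by omega) (by omega), hidx (k - 1) (by omega) (by omega)] at h1
    have h2 : p ^ (k + 1) = p * p ^ (k - 1 + 1) := by
      rw [← pow_succ']; congr 1; omega
    rw [h2] at h1
    exact Nat.eq_of_mul_eq_mul_right (pow_pos hp.pos _) h1
  have hcomm : ∀ a ∈ (⊤ : Subgroup T).lowerCentralSeries (k - 1),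
      ∀ b ∈ (⊤ : Subgroup T).lowerCentralSeries k, a * b = b * a := by
    intro a ha b hb
    have hmem : ⁅a, b⁆ ∈ ⁅(⊤ : Subgroup T).lowerCentralSeries (k - 1),
        (⊤ : Subgroup T).lowerCentralSeries k⁆ := Subgroup.commutator_mem_commutator ha hb
    have h3 := Cfsg.Agent.Lib.helper68.lcs_comm_le (H := T) k (k - 1) hmem
    have h2 : k - 1 + k + 1 = 2 * k := by omega
    rw [h2, hbot, Subgroup.mem_bot] at h3
    exact commutatorElement_eq_one_iff_mul_comm.mp h3
  let Z : Subgroup T := (⊤ : Subgroup T).lowerCentralSeries (k - 1) ⊓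
    Subgroup.centralizer (((⊤ : Subgroup T).lowerCentralSeries (k - 1) : Subgroup T) : Set T)
  have hBZ : (⊤ : Subgroup T).lowerCentralSeries k ≤ Z := by
    intro b hb
    exact Subgroup.mem_inf.mpr ⟨hBA hb, Subgroup.mem_centralizer_iff.mpr
      (fun a ha => hcomm a ha b hb)⟩
  rcases eq_or_eq_of_relIndex_prime hp hBZ inf_le_left hrel with hZ | hZ
  · exfalso
    have hne : ¬ (⊤ : Subgroup T).lowerCentralSeries (k - 1) ≤
        (⊤ : Subgroup T).lowerCentralSeries k := by
      intro hle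
      have h4 := Subgroup.relIndex_eq_one.mpr hle
      rw [hrel] at h4
      exact hp.one_lt.ne' h4
    obtain ⟨g, hgA, hgB⟩ := SetLike.not_le_iff_exists.mp hne
    let K : Subgroup T := (⊤ : Subgroup T).lowerCentralSeries (k - 1) ⊓
      Subgroup.centralizer ({g} : Set T)
    have hBK : (⊤ : Subgroup T).lowerCentralSeries k ≤ K := by
      intro b hb
      exact Subgroup.mem_inf.mpr ⟨hBA hb, Subgroup.mem_centralizer_singleton_iff.mpr
        (hcomm g hgA b hb).symm⟩
    have hgK : g ∈ K := Subgroup.mem_inf.mpr ⟨hgA, Subgroup.mem_centralizer_singleton_iff.mpr rfl⟩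
    rcases eq_or_eq_of_relIndex_prime hp hBK inf_le_left hrel with hK | hK
    · exact hgB (hK ▸ hgK)
    · have hgZ : g ∈ Z := by
        refine Subgroup.mem_inf.mpr ⟨hgA, Subgroup.mem_centralizer_iff.mpr ?_⟩
        intro a ha
        have haK : a ∈ K := hK ▸ ha
        exact Subgroup.mem_centralizer_singleton_iff.mp (Subgroup.mem_inf.mp haK).2
      exact hgB (hZ ▸ hgZ)
  · intro x hx y hy
    have hxZ : x ∈ Z := hZ ▸ hx
    have h6 := Subgroup.mem_centralizer_iff.mp (Subgroup.mem_inf.mp hxZ).2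
    exact (h6 y hy).symm

/-- iterated commutators with `s` descend the lower central series -/
theorem iterate_mem_lcs {T : Type*} [Group T] (s : T) (j : ℕ) (c : T)
    (hc : c ∈ (⊤ : Subgroup T).lowerCentralSeries j) (m : ℕ) :
    (fun v : T => v⁻¹ * (s⁻¹ * v * s))^[m] c ∈ (⊤ : Subgroup T).lowerCentralSeries (j + m) := by
  induction m with
  | zero => simpa using hc
  | succ m ih =>
    rw [Function.iterate_succ_apply', ← add_assoc, Subgroup.lowerCentralSeries_succ]
    set v := (fun v : T => v⁻¹ * (s⁻¹ * v * s))^[m] c with hv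
    have h1 : v⁻¹ * (s⁻¹ * v * s) = ⁅v⁻¹, s⁻¹⁆ := by
      simp [commutatorElement_def, mul_assoc]
    show v⁻¹ * (s⁻¹ * v * s) ∈ _
    rw [h1]
    exact Subgroup.commutator_mem_commutator (inv_mem ih) (Subgroup.mem_top _)

/-- one step of the downward induction -/
theorem core_step (p : ℕ) [Fact p.Prime] {T : Type*} [Group T] (k j' : ℕ) (hk : 2 ≤ k)
    (hpk : k + 2 ≤ p) (hj : k - 1 ≤ j' + 1)
    (hbot : (⊤ : Subgroup T).lowerCentralSeries (2 * k) = ⊥)
    (hcomm : ∀ x ∈ (⊤ : Subgroup T).lowerCentralSeries (k - 1),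
      ∀ y ∈ (⊤ : Subgroup T).lowerCentralSeries (k - 1), x * y = y * x)
    (U : Set T) (hUgen : Subgroup.closure U = ⊤)
    (hUp : ∀ s ∈ U, s ^ p ∈ (⊤ : Subgroup T).lowerCentralSeries (k + 1))
    (hIH : ∀ b ∈ (⊤ : Subgroup T).lowerCentralSeries (j' + 2), b ^ p = 1) :
    ∀ x ∈ (⊤ : Subgroup T).lowerCentralSeries (j' + 1), x ^ p = 1 := by
  have hanti := Subgroup.lowerCentralSeries_antitone (⊤ : Subgroup T)
  have hle1 : (⊤ : Subgroup T).lowerCentralSeries (j' + 1) ≤
      (⊤ : Subgroup T).lowerCentralSeries (k - 1) := hanti hj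
  have hle2 : (⊤ : Subgroup T).lowerCentralSeries (j' + 2) ≤
      (⊤ : Subgroup T).lowerCentralSeries (k - 1) := hanti (by omega)
  have hbot' : ∀ i, 2 * k ≤ i → ∀ x ∈ (⊤ : Subgroup T).lowerCentralSeries i, x = 1 := by
    intro i hi x hx
    have := hanti hi hx
    rw [hbot] at this
    exact Subgroup.mem_bot.mp this
  -- (1) generators with `s ∈ U`
  have h1 : ∀ s ∈ U, ∀ y ∈ (⊤ : Subgroup T).lowerCentralSeries j', ⁅y, s⁆ ^ p = 1 := by
    intro s hs y hy
    have hcmem : ⁅y, s⁆ ∈ (⊤ : Subgroup T).lowerCentralSeries (j' + 1) := by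
      rw [Subgroup.lowerCentralSeries_succ]
      exact Subgroup.commutator_mem_commutator hy (Subgroup.mem_top _)
    set c'' := s⁻¹ * ⁅y, s⁆ * s with hc''
    have hc''mem : c'' ∈ (⊤ : Subgroup T).lowerCentralSeries (j' + 1) := by
      have := (inferInstance : ((⊤ : Subgroup T).lowerCentralSeries (j' + 1)).Normal).conj_mem
        _ hcmem s⁻¹
      simpa [hc''] using this
    have hsc : s * c'' = y * s * y⁻¹ := by
      simp [hc'', commutatorElement_def, mul_assoc]
    have hC := h39_mul_pow_eq_of_abelian p ((⊤ : Subgroup T).lowerCentralSeries (k - 1))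
      ((⊤ : Subgroup T).lowerCentralSeries (j' + 2)) hcomm s
      (fun a ha => by
        have := (inferInstance : ((⊤ : Subgroup T).lowerCentralSeries (k - 1)).Normal).conj_mem
          _ ha s⁻¹
        simpa using this)
      hle2
      (fun b hb => by
        have := (inferInstance : ((⊤ : Subgroup T).lowerCentralSeries (j' + 2)).Normal).conj_mem
          _ hb s⁻¹
        simpa using this)
      hIH c'' (hle1 hc''mem)
      (by
        have := iterate_mem_lcs s (j' + 1) c'' hc''mem 1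
        simpa using this)
      (by
        have := iterate_mem_lcs s (j' + 1) c'' hc''mem (p - 1)
        exact hbot' _ (by omega) _ this)
    rw [hsc] at hC
    have h2 : (y * s * y⁻¹) ^ p = y * s ^ p * y⁻¹ := by
      rw [conj_pow]
    rw [h2] at hC
    -- c''^p = ⁅s^{-p}, y⁆
    have h3 : c'' ^ p = ⁅(s ^ p)⁻¹, y⁆ := by
      have : c'' ^ p = (s ^ p)⁻¹ * (y * s ^ p * y⁻¹) := by
        rw [hC]; group
      rw [this]
      simp [commutatorElement_def, mul_assoc]
    have h4 : ⁅(s ^ p)⁻¹, y⁆ = 1 := by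
      have hmem : ⁅(s ^ p)⁻¹, y⁆ ∈ ⁅(⊤ : Subgroup T).lowerCentralSeries (k + 1),
          (⊤ : Subgroup T).lowerCentralSeries j'⁆ :=
        Subgroup.commutator_mem_commutator (inv_mem (hUp s hs)) hy
      have := Cfsg.Agent.Lib.helper68.lcs_comm_le (H := T) j' (k + 1) hmem
      exact hbot' _ (by omega) _ this
    have h5 : c'' ^ p = 1 := by rw [h3, h4]
    have h6 : ⁅y, s⁆ = s * c'' * s⁻¹ := by
      simp [hc'', mul_assoc]
    rw [h6, conj_pow, h5]
    simp
  -- (2) all `t`
  let E : Subgroup T :=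
    { carrier := {t | ∀ y ∈ (⊤ : Subgroup T).lowerCentralSeries j', ⁅y, t⁆ ^ p = 1}
      one_mem' := by
        intro y _
        simp
      mul_mem' := by
        intro t₁ t₂ h₁ h₂ y hy
        have e : ⁅y, t₁ * t₂⁆ = ⁅y, t₁⁆ * (t₁ * ⁅y, t₂⁆ * t₁⁻¹) := by
          simp [commutatorElement_def, mul_assoc]
        have ha : ⁅y, t₁⁆ ∈ (⊤ : Subgroup T).lowerCentralSeries (j' + 1) := by
          rw [Subgroup.lowerCentralSeries_succ]
          exact Subgroup.commutator_mem_commutator hy (Subgroup.mem_top _)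
        have hb0 : ⁅y, t₂⁆ ∈ (⊤ : Subgroup T).lowerCentralSeries (j' + 1) := by
          rw [Subgroup.lowerCentralSeries_succ]
          exact Subgroup.commutator_mem_commutator hy (Subgroup.mem_top _)
        have hb : t₁ * ⁅y, t₂⁆ * t₁⁻¹ ∈ (⊤ : Subgroup T).lowerCentralSeries (j' + 1) :=
          (inferInstance : ((⊤ : Subgroup T).lowerCentralSeries (j' + 1)).Normal).conj_mem _ hb0 t₁
        have hcm : Commute ⁅y, t₁⁆ (t₁ * ⁅y, t₂⁆ * t₁⁻¹) := hcomm _ (hle1 ha) _ (hle1 hb)
        show ⁅y, t₁ * t₂⁆ ^ p = 1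
        rw [e, hcm.mul_pow, h₁ y hy, conj_pow, h₂ y hy]
        simp
      inv_mem' := by
        intro t h y hy
        have e : ⁅y, t⁻¹⁆ = t⁻¹ * ⁅y, t⁆⁻¹ * t := by
          simp [commutatorElement_def, mul_assoc]
        show ⁅y, t⁻¹⁆ ^ p = 1
        have e2 : t⁻¹ * ⁅y, t⁆⁻¹ * t = t⁻¹ * ⁅y, t⁆⁻¹ * t⁻¹⁻¹ := by simp
        rw [e, e2, conj_pow, inv_pow, h y hy]
        simp }
  have hE : E = ⊤ := by
    rw [eq_top_iff, ← hUgen, Subgroup.closure_le]
    intro s hs
    exact fun y hy => h1 s hs y hy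
  -- (3) the subgroup of elements of `L (k-1)` with trivial `p`-th power
  let P : Subgroup T :=
    { carrier := {x | x ∈ (⊤ : Subgroup T).lowerCentralSeries (k - 1) ∧ x ^ p = 1}
      one_mem' := ⟨one_mem _, one_pow _⟩
      mul_mem' := by
        intro a b ha hb
        refine ⟨mul_mem ha.1 hb.1, ?_⟩
        have hcm : Commute a b := hcomm _ ha.1 _ hb.1
        rw [hcm.mul_pow, ha.2, hb.2, one_mul]
      inv_mem' := by
        intro a ha
        exact ⟨inv_mem ha.1, by rw [inv_pow, ha.2, inv_one]⟩ }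
  have hP : (⊤ : Subgroup T).lowerCentralSeries (j' + 1) ≤ P := by
    rw [Subgroup.lowerCentralSeries_succ, Subgroup.commutator_le]
    intro y hy t _
    refine ⟨hle1 ?_, ?_⟩
    · rw [Subgroup.lowerCentralSeries_succ]
      exact Subgroup.commutator_mem_commutator hy (Subgroup.mem_top _)
    · have : t ∈ E := by rw [hE]; exact Subgroup.mem_top _
      exact this y hy
  intro x hx
  exact (hP hx).2

/-- CORE: `γ_k(T)` has exponent `p`. -/
theorem core (p : ℕ) [Fact p.Prime] {T : Type*} [Group T] [Finite T] (k : ℕ) (hk : 2 ≤ k)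
    (hpk : k + 2 ≤ p)
    (hidx : ∀ i, 1 ≤ i → i ≤ 2 * k → ((⊤ : Subgroup T).lowerCentralSeries i).index = p ^ (i + 1))
    (hbot : (⊤ : Subgroup T).lowerCentralSeries (2 * k) = ⊥) :
    ∀ x ∈ (⊤ : Subgroup T).lowerCentralSeries (k - 1), x ^ p = 1 := by
  have hanti := Subgroup.lowerCentralSeries_antitone (⊤ : Subgroup T)
  have hcomm := h12_lcs_comm_of_index p k hk hidx hbot
  obtain ⟨U, -, hUgen, hUp⟩ := exists_gen_set p k hk hpk hidx hbot
  have key : ∀ d j : ℕ, 2 * k ≤ j + d → k - 1 ≤ j →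
      ∀ x ∈ (⊤ : Subgroup T).lowerCentralSeries j, x ^ p = 1 := by
    intro d
    induction d with
    | zero =>
      intro j hj _ x hx
      have := hanti (show 2 * k ≤ j by omega) hx
      rw [hbot] at this
      rw [Subgroup.mem_bot.mp this, one_pow]
    | succ d ih =>
      intro j hj hkj x hx
      obtain ⟨j', rfl⟩ : ∃ j', j = j' + 1 := ⟨j - 1, by omega⟩
      exact core_step p k j' hk hpk hkj hbot hcomm U hUgen hUp
        (ih (j' + 2) (by omega) (by omega)) x hx
  exact key (2 * k) (k - 1) (by omega) le_rfl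

end Cfsg.Agent.Lib.helper12.MC
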