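import Mathlib
import Cfsg.Agent.Lib.helper36.BGX1
import Cfsg.Agent.Lib.helper67.Hughes
import Cfsg.Agent.Lib.helper12.Conj

/-!
# Fusion in nilpotent Hall subgroups of a minimal simple group of odd order (helper12)

Main part of the proof of statement S1384: assuming the fusion lemma for solvable groups of
`p`-length one (packaged as the hypothesis `NHFus`), the normalizer of a nilpotent Hall subgroup
`H` of a minimal simple group of odd order controls fusion of elements of `H`.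
-/

set_option autoImplicit false
set_option linter.style.haveILetI false
set_option linter.unusedSectionVars false

namespace Cfsg.Agent.Lib.helper12

open Cfsg

variable {G : Type*} [Group G]

/-- The fusion lemma for proper subgroups, as a hypothesis: in every proper subgroup `K`, the
normalizer of a nilpotent Hall subgroup `H` of `K` controls `K`-fusion of elements of `H`. -/
def NHFus (G : Type*) [Group G] : Prop :=
  ∀ (K : Subgroup G), K ≠ ⊤ → ∀ (H : Subgroup G), H ≤ K → Group.IsNilpotent H →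
    (Nat.card H).Coprime (H.relIndex K) → ∀ x ∈ H, ∀ k ∈ K, k * x * k⁻¹ ∈ H →
    ∃ n ∈ K, n ∈ Subgroup.normalizer (H : Set G) ∧ n * x * n⁻¹ = k * x * k⁻¹

/-- Elements of coprime orders of a nilpotent subgroup commute. -/
theorem nh_commute [Finite G] {H : Subgroup G} (hHn : Group.IsNilpotent H) {a b : G}
    (ha : a ∈ H) (hb : b ∈ H) (h : (orderOf a).Coprime (orderOf b)) : a * b = b * a := by
  haveI := hHn
  have h1 := Cfsg.Agent.Lib.helper67.commute_of_coprime_of_isNilpotent (⟨a, ha⟩ : H) ⟨b, hb⟩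
    (by rwa [Subgroup.orderOf_mk, Subgroup.orderOf_mk])
  exact congrArg Subtype.val h1

/-- The Sylow `p`-subgroup of a nilpotent Hall subgroup `H`, as a Sylow subgroup of `G`. -/
theorem nh_sylow [Finite G] {H : Subgroup G} (hHn : Group.IsNilpotent H)
    (hHall : (Nat.card H).Coprime H.index) {p : ℕ} [hp : Fact p.Prime] (hpH : p ∣ Nat.card H) :
    ∃ P : Sylow p G, (P : Subgroup G) ≤ H ∧
      H ≤ Subgroup.normalizer ((P : Subgroup G) : Set G) ∧
      ∀ y ∈ H, ∀ k : ℕ, orderOf y = p ^ k → y ∈ (P : Subgroup G) := by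
  haveI := hHn
  obtain ⟨P₀⟩ : Nonempty (Sylow p H) := inferInstance
  have hn : (P₀ : Subgroup H).Normal := inferInstance
  have hP' : IsPGroup p ((P₀ : Subgroup H).map H.subtype) := P₀.isPGroup'.map _
  have hidx : ¬ p ∣ ((P₀ : Subgroup H).map H.subtype).index := by
    rw [Subgroup.index_map_subtype]
    intro h
    rcases (Nat.Prime.dvd_mul hp.out).mp h with h | h
    · exact P₀.not_dvd_index h
    · exact (Nat.Prime.coprime_iff_not_dvd hp.out).mp (Nat.Coprime.coprime_dvd_left hpH hHall) h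
  refine ⟨hP'.toSylow hidx, ?_, ?_, ?_⟩
  · rw [IsPGroup.toSylow_coe]; exact Subgroup.map_subtype_le _
  · rw [IsPGroup.toSylow_coe]
    intro h hh
    rw [Subgroup.mem_normalizer_iff]
    intro y
    constructor
    · rintro ⟨y₀, hy₀, rfl⟩
      exact ⟨⟨h, hh⟩ * y₀ * ⟨h, hh⟩⁻¹, hn.conj_mem y₀ hy₀ ⟨h, hh⟩, rfl⟩
    · rintro ⟨z₀, hz₀, hz⟩
      refine ⟨⟨h, hh⟩⁻¹ * z₀ * ⟨h, hh⟩, ?_, ?_⟩
      · have h1 := hn.conj_mem z₀ hz₀ ⟨h, hh⟩⁻¹
        rwa [inv_inv] at h1
      · show h⁻¹ * (H.subtype z₀) * h = y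
        rw [hz]; group
  · intro y hy k hk
    rw [IsPGroup.toSylow_coe]
    have hQ : IsPGroup p (Subgroup.zpowers (⟨y, hy⟩ : H)) := by
      apply IsPGroup.of_card (n := k)
      rw [Nat.card_zpowers, Subgroup.orderOf_mk, hk]
    have h1 := Cfsg.Agent.Lib.helper36.bgu_le_of_normal_hall (P₀ : Subgroup H) P₀.isPGroup'
      P₀.not_dvd_index hQ
    exact ⟨⟨y, hy⟩, h1 (Subgroup.mem_zpowers _), rfl⟩

/-- Step 1: fusion of an element of prime power order of a nilpotent Hall subgroup. -/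
theorem nh_step1 [Finite G] (hG : IsMinSimpleOddOrder G) (hA : NHFus G) {H : Subgroup G}
    (hHn : Group.IsNilpotent H) (hHall : (Nat.card H).Coprime H.index) {p : ℕ}
    [hp : Fact p.Prime] {x : G} (hx : x ∈ H) (hx1 : x ≠ 1) {k : ℕ} (hk : orderOf x = p ^ k)
    {g : G} (hg : g * x * g⁻¹ ∈ H) :
    ∃ n ∈ Subgroup.normalizer (H : Set G), n * x * n⁻¹ = g * x * g⁻¹ := by
  obtain ⟨hodd, hsimple, hnc, hsolv⟩ := id hG
  haveI := hsimple
  have hk0 : k ≠ 0 := by
    rintro rfl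
    rw [pow_zero] at hk
    exact hx1 (orderOf_eq_one_iff.mp hk)
  have hpx : p ∣ orderOf x := by rw [hk]; exact dvd_pow_self p hk0
  have hpH : p ∣ Nat.card H := hpx.trans (Subgroup.orderOf_dvd_natCard H hx)
  obtain ⟨P, hPH, hHN, hPel⟩ := nh_sylow hHn hHall hpH
  have hxP : x ∈ (P : Subgroup G) := hPel x hx k hk
  have hP1 : (P : Subgroup G) ≠ ⊥ := by
    intro h
    rw [h, Subgroup.mem_bot] at hxP
    exact hx1 hxP
  have hNtop : Subgroup.normalizer ((P : Subgroup G) : Set G) ≠ ⊤ :=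
    Cfsg.Agent.Lib.helper29.normalizer_ne_top_of_simple hP1
      (Cfsg.Agent.Lib.helper36.bgu_sylow_ne_top hnc P)
  obtain ⟨M, hM, hNM⟩ := Cfsg.Agent.Lib.helper36.bgu_exists_coatom hNtop
  have hPM : (P : Subgroup G) ≤ M := Subgroup.le_normalizer.trans hNM
  have hHM : H ≤ M := hHN.trans hNM
  have hσ : p ∈ sigma M := by
    refine ⟨hp.out, hpH.trans (Subgroup.card_dvd_of_le hHM), P.subtype hPM, ?_⟩
    rw [Sylow.coe_subtype, Subgroup.map_subgroupOf_eq_of_le hPM]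
    exact hNM
  have hXP : Subgroup.zpowers x ≤ (P : Subgroup G) := (Subgroup.zpowers_le).mpr hxP
  have hXp : IsPGroup p (Subgroup.zpowers x) := P.isPGroup'.to_le hXP
  have hX1 : Subgroup.zpowers x ≠ ⊥ := by
    intro h
    exact hx1 (Subgroup.zpowers_eq_bot.mp h)
  have hXg : (Subgroup.zpowers x).map (MulAut.conj g).toMonoidHom ≤ M := by
    rw [Subgroup.map_le_iff_le_comap, Subgroup.zpowers_le]
    exact hHM hg
  obtain ⟨m, hm, c, hc, hgmc⟩ :=
    (Cfsg.Agent.S1404.result hG M hM p hσ _ hXp hX1 (hXP.trans hPM)).1 g hXg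
  have hcx : x * c = c * x := Subgroup.mem_centralizer_iff.mp hc x (Subgroup.mem_zpowers x)
  have hmx : m * x * m⁻¹ = g * x * g⁻¹ := by
    rw [hgmc]
    calc m * x * m⁻¹ = m * (x * c) * c⁻¹ * m⁻¹ := by group
      _ = m * (c * x) * c⁻¹ * m⁻¹ := by rw [hcx]
      _ = m * c * x * (m * c)⁻¹ := by group
  have hcop : (Nat.card H).Coprime (H.relIndex M) :=
    Nat.Coprime.coprime_dvd_right (Subgroup.relIndex_dvd_index_of_le hHM) hHall
  obtain ⟨n, -, hn, hnx⟩ := hA M hM.1 H hHM hHn hcop x hx m hm (by rw [hmx]; exact hg)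
  exact ⟨n, hn, hnx.trans hmx⟩

/-- For `x ≠ 1` in a Sylow `p`-subgroup `P`, `C_P(x)` is a Sylow `p`-subgroup of `C_G(x)`. -/
theorem nh_sylow_cent [Finite G] (hG : IsMinSimpleOddOrder G) (hA : NHFus G) {p : ℕ}
    [hp : Fact p.Prime] (P : Sylow p G) {x : G} (hx : x ∈ (P : Subgroup G)) (hx1 : x ≠ 1) :
    ¬ p ∣ ((P : Subgroup G) ⊓ Subgroup.centralizer ({x} : Set G)).relIndex
      (Subgroup.centralizer ({x} : Set G)) := by
  have hxC : x ∈ Subgroup.centralizer ({x} : Set G) :=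
    Subgroup.mem_centralizer_iff.mpr (fun h hh => by rw [Set.mem_singleton_iff.mp hh])
  have hZp : IsPGroup p ((Subgroup.zpowers x).subgroupOf (Subgroup.centralizer ({x} : Set G))) :=
    (P.isPGroup'.to_le ((Subgroup.zpowers_le).mpr hx)).comap_subtype
  obtain ⟨T₀, hT₀⟩ := hZp.exists_le_sylow
  have hTp : IsPGroup p ((T₀ : Subgroup ↥(Subgroup.centralizer ({x} : Set G))).map
      (Subgroup.centralizer ({x} : Set G)).subtype) := T₀.isPGroup'.map _
  have hxT : x ∈ (T₀ : Subgroup ↥(Subgroup.centralizer ({x} : Set G))).map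
      (Subgroup.centralizer ({x} : Set G)).subtype :=
    ⟨⟨x, hxC⟩, hT₀ (Subgroup.mem_subgroupOf.mpr (Subgroup.mem_zpowers x)), rfl⟩
  have hTC : (T₀ : Subgroup ↥(Subgroup.centralizer ({x} : Set G))).map
      (Subgroup.centralizer ({x} : Set G)).subtype ≤ Subgroup.centralizer ({x} : Set G) :=
    Subgroup.map_subtype_le _
  obtain ⟨a, ha⟩ := Cfsg.Agent.Lib.helper36.bgx_exists_conj_le P hTp
  have haxP : a * x * a⁻¹ ∈ (P : Subgroup G) :=
    ha (Cfsg.Agent.Lib.helper36.bgx_conj_mem_map hxT)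
  obtain ⟨k, hk⟩ := (IsPGroup.iff_orderOf.mp P.isPGroup') ⟨x, hx⟩
  have hk' : orderOf x = p ^ k := by rw [← hk, Subgroup.orderOf_mk]
  have hPn : Group.IsNilpotent (P : Subgroup G) := P.isPGroup'.isNilpotent
  have hPhall : (Nat.card (P : Subgroup G)).Coprime (P : Subgroup G).index := by
    obtain ⟨j, hj⟩ := IsPGroup.iff_card.mp P.isPGroup'
    rw [hj]
    exact Nat.Coprime.pow_left j ((Nat.Prime.coprime_iff_not_dvd hp.out).mpr P.not_dvd_index)
  obtain ⟨n, hn, hnx⟩ := nh_step1 hG hA hPn hPhall hx hx1 hk' haxP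
  have hcC : n⁻¹ * a ∈ Subgroup.centralizer ({x} : Set G) := by
    rw [Subgroup.mem_centralizer_iff]
    intro h hh
    rw [Set.mem_singleton_iff.mp hh]
    have h1 : n⁻¹ * (a * x * a⁻¹) * n = x := by rw [← hnx]; group
    calc x * (n⁻¹ * a) = (n⁻¹ * (a * x * a⁻¹) * n) * (n⁻¹ * a) := by rw [h1]
      _ = n⁻¹ * a * x := by group
  have hTn : ((T₀ : Subgroup ↥(Subgroup.centralizer ({x} : Set G))).map
      (Subgroup.centralizer ({x} : Set G)).subtype).map (MulAut.conj (n⁻¹ * a)).toMonoidHom ≤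
      (P : Subgroup G) ⊓ Subgroup.centralizer ({x} : Set G) := by
    rintro _ ⟨t, ht, rfl⟩
    refine ⟨?_, ?_⟩
    · have h1 : a * t * a⁻¹ ∈ (P : Subgroup G) :=
        ha (Cfsg.Agent.Lib.helper36.bgx_conj_mem_map ht)
      have h2 := (Subgroup.mem_normalizer_iff.mp (Subgroup.inv_mem _ hn) (a * t * a⁻¹)).mp h1
      have h3 : (MulAut.conj (n⁻¹ * a)).toMonoidHom t = n⁻¹ * (a * t * a⁻¹) * n⁻¹⁻¹ := by
        show n⁻¹ * a * t * (n⁻¹ * a)⁻¹ = _
        group
      rw [h3]; exact h2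
    · exact Subgroup.mul_mem _ (Subgroup.mul_mem _ hcC (hTC ht)) (Subgroup.inv_mem _ hcC)
  have hc1 : Nat.card (T₀ : Subgroup ↥(Subgroup.centralizer ({x} : Set G))) ≤
      Nat.card ↥(((P : Subgroup G) ⊓ Subgroup.centralizer ({x} : Set G)).subgroupOf
        (Subgroup.centralizer ({x} : Set G))) := by
    have e1 : Nat.card ↥(((T₀ : Subgroup ↥(Subgroup.centralizer ({x} : Set G))).map
        (Subgroup.centralizer ({x} : Set G)).subtype).map (MulAut.conj (n⁻¹ * a)).toMonoidHom) =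
        Nat.card (T₀ : Subgroup ↥(Subgroup.centralizer ({x} : Set G))) := by
      rw [Subgroup.card_map_of_injective (MulAut.conj (n⁻¹ * a)).injective,
        Subgroup.card_map_of_injective (Subgroup.subtype_injective _)]
    have e2 : Nat.card ↥(((P : Subgroup G) ⊓ Subgroup.centralizer ({x} : Set G)).subgroupOf
        (Subgroup.centralizer ({x} : Set G))) =
        Nat.card ↥((P : Subgroup G) ⊓ Subgroup.centralizer ({x} : Set G)) :=
      Nat.card_congr (Subgroup.subgroupOfEquivOfLe inf_le_right).toEquiv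
    rw [e2, ← e1]
    exact Subgroup.card_le_of_le hTn
  have hRp : IsPGroup p ↥(((P : Subgroup G) ⊓ Subgroup.centralizer ({x} : Set G)).subgroupOf
      (Subgroup.centralizer ({x} : Set G))) :=
    (P.isPGroup'.to_le inf_le_left).comap_subtype
  obtain ⟨a', ha'⟩ := T₀.isPGroup'.exists_card_eq
  obtain ⟨b, hb⟩ := hRp.exists_card_eq
  have hab : a' ≤ b := by
    rw [ha', hb] at hc1
    exact (Nat.pow_le_pow_iff_right hp.out.one_lt).mp hc1
  intro hdiv
  have h1 : p ^ (b + 1) ∣ Nat.card ↥(Subgroup.centralizer ({x} : Set G)) := by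
    rw [← Subgroup.card_mul_index (((P : Subgroup G) ⊓
      Subgroup.centralizer ({x} : Set G)).subgroupOf (Subgroup.centralizer ({x} : Set G))), hb,
      pow_succ]
    exact Nat.mul_dvd_mul_left _ hdiv
  have h2 := T₀.pow_dvd_card_of_pow_dvd_card h1
  rw [ha'] at h2
  have h3 := (Nat.pow_dvd_pow_iff_le_right hp.out.one_lt).mp h2
  omega

/-- For `x ≠ 1` of prime power order in a nilpotent Hall subgroup `H`, `C_H(x)` is a Hall
subgroup of `C_G(x)`. -/
theorem nh_hall_cent [Finite G] (hG : IsMinSimpleOddOrder G) (hA : NHFus G) {H : Subgroup G}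
    (hHn : Group.IsNilpotent H) (hHall : (Nat.card H).Coprime H.index) {p : ℕ}
    [hp : Fact p.Prime] {x : G} (hx : x ∈ H) (hx1 : x ≠ 1) {k : ℕ} (hk : orderOf x = p ^ k) :
    (Nat.card (H ⊓ Subgroup.centralizer ({x} : Set G) : Subgroup G)).Coprime
      ((H ⊓ Subgroup.centralizer ({x} : Set G)).relIndex
        (Subgroup.centralizer ({x} : Set G))) := by
  by_contra hnot
  obtain ⟨q, hq, hq1, hq2⟩ := Nat.Prime.not_coprime_iff_dvd.mp hnot
  haveI : Fact q.Prime := ⟨hq⟩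
  have hqH : q ∣ Nat.card H := hq1.trans (Subgroup.card_dvd_of_le inf_le_left)
  obtain ⟨Q, hQH, hHN, hQel⟩ := nh_sylow hHn hHall hqH
  by_cases hqp : q = p
  · subst hqp
    have hxQ : x ∈ (Q : Subgroup G) := hQel x hx k hk
    have h1 := nh_sylow_cent hG hA Q hxQ hx1
    exact h1 (hq2.trans (Subgroup.relIndex_dvd_of_le_left _ (inf_le_inf_right _ hQH)))
  · have hQC : (Q : Subgroup G) ≤ Subgroup.centralizer ({x} : Set G) := by
      intro y hy
      rw [Subgroup.mem_centralizer_iff]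
      intro h hh
      rw [Set.mem_singleton_iff.mp hh]
      obtain ⟨j, hj⟩ := (IsPGroup.iff_orderOf.mp Q.isPGroup') ⟨y, hy⟩
      have hj' : orderOf y = q ^ j := by rw [← hj, Subgroup.orderOf_mk]
      apply nh_commute hHn hx (hQH hy)
      rw [hk, hj']
      exact Nat.Coprime.pow _ _ ((Nat.coprime_primes hp.out hq).mpr (Ne.symm hqp))
    have h2 : ¬ q ∣ (Q : Subgroup G).relIndex (Subgroup.centralizer ({x} : Set G)) := fun h =>
      Q.not_dvd_index (h.trans (Subgroup.relIndex_dvd_index_of_le hQC))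
    exact h2 (hq2.trans (Subgroup.relIndex_dvd_of_le_left _ (le_inf hQH hQC)))

/-- Main theorem: in a minimal simple group of odd order, the normalizer of a nilpotent Hall
subgroup `H` controls fusion of elements of `H` (given the fusion lemma `NHFus` for proper
subgroups). -/
theorem nh_main [Finite G] (hG : IsMinSimpleOddOrder G) (hA : NHFus G) (H : Subgroup G)
    (hHn : Group.IsNilpotent H) (hHall : (Nat.card H).Coprime H.index) :
    ∀ x ∈ H, ∀ g : G, g * x * g⁻¹ ∈ H →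
      ∃ n ∈ Subgroup.normalizer (H : Set G), n * x * n⁻¹ = g * x * g⁻¹ := by
  intro x hx g hg
  obtain ⟨hodd, hsimple, hnc, hsolv⟩ := id hG
  haveI := hsimple
  by_cases hx1 : x = 1
  · subst hx1
    exact ⟨1, Subgroup.one_mem _, by group⟩
  have ho1 : orderOf x ≠ 1 := fun h => hx1 (orderOf_eq_one_iff.mp h)
  have ho0 : orderOf x ≠ 0 := (orderOf_pos x).ne'
  by_cases hpp : ∃ (p k : ℕ), p.Prime ∧ orderOf x = p ^ k
  · obtain ⟨p, k, hp, hk⟩ := hpp
    haveI : Fact p.Prime := ⟨hp⟩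
    exact nh_step1 hG hA hHn hHall hx hx1 hk hg
  obtain ⟨p, hp, hpx⟩ := Nat.exists_prime_and_dvd ho1
  haveI : Fact p.Prime := ⟨hp⟩
  have hq : ∃ q : ℕ, q.Prime ∧ q ∣ orderOf x ∧ q ≠ p := by
    by_contra hno
    push Not at hno
    exact hpp ⟨p, _, hp, Nat.eq_prime_pow_of_unique_prime_dvd ho0
      (fun {d} hd hdx => hno d hd hdx)⟩
  obtain ⟨q, hq, hqx, hqp⟩ := hq
  haveI : Fact q.Prime := ⟨hq⟩
  -- the element `x₁` of order `p`
  have hox₁ : orderOf (x ^ (orderOf x / p)) = p ^ 1 := by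
    rw [pow_one]; exact orderOf_pow_orderOf_div ho0 hpx
  have hx₁H : x ^ (orderOf x / p) ∈ H := H.pow_mem hx _
  have hx₁1 : x ^ (orderOf x / p) ≠ 1 := by
    intro h
    rw [h, orderOf_one, pow_one] at hox₁
    exact hp.one_lt.ne hox₁
  have hgx₁ : g * x ^ (orderOf x / p) * g⁻¹ ∈ H := by
    rw [← conj_pow]; exact H.pow_mem hg _
  obtain ⟨n₁, hn₁, hn₁x⟩ := nh_step1 hG hA hHn hHall hx₁H hx₁1 hox₁ hgx₁
  have hCtop : Subgroup.centralizer ({x ^ (orderOf x / p)} : Set G) ≠ ⊤ :=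
    Cfsg.Agent.Lib.helper29.centralizer_singleton_ne_top hnc hx₁1
  have hg'C : n₁⁻¹ * g ∈ Subgroup.centralizer ({x ^ (orderOf x / p)} : Set G) := by
    rw [Subgroup.mem_centralizer_iff]
    intro h hh
    rw [Set.mem_singleton_iff.mp hh]
    have h1 : n₁⁻¹ * (g * x ^ (orderOf x / p) * g⁻¹) * n₁ = x ^ (orderOf x / p) := by
      rw [← hn₁x]; group
    calc x ^ (orderOf x / p) * (n₁⁻¹ * g)
        = (n₁⁻¹ * (g * x ^ (orderOf x / p) * g⁻¹) * n₁) * (n₁⁻¹ * g) := by rw [h1]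
      _ = n₁⁻¹ * g * x ^ (orderOf x / p) := by group
  have hxC : x ∈ Subgroup.centralizer ({x ^ (orderOf x / p)} : Set G) := by
    rw [Subgroup.mem_centralizer_iff]
    intro h hh
    rw [Set.mem_singleton_iff.mp hh]
    exact pow_mul_comm' x _
  have hy'H : n₁⁻¹ * g * x * (n₁⁻¹ * g)⁻¹ ∈ H := by
    have h1 := (Subgroup.mem_normalizer_iff.mp (Subgroup.inv_mem _ hn₁) (g * x * g⁻¹)).mp hg
    have h2 : n₁⁻¹ * g * x * (n₁⁻¹ * g)⁻¹ = n₁⁻¹ * (g * x * g⁻¹) * n₁⁻¹⁻¹ := by group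
    rw [h2]; exact h1
  have hy'C : n₁⁻¹ * g * x * (n₁⁻¹ * g)⁻¹ ∈
      Subgroup.centralizer ({x ^ (orderOf x / p)} : Set G) :=
    Subgroup.mul_mem _ (Subgroup.mul_mem _ hg'C hxC) (Subgroup.inv_mem _ hg'C)
  have hH₀n : Group.IsNilpotent
      (H ⊓ Subgroup.centralizer ({x ^ (orderOf x / p)} : Set G) : Subgroup G) := by
    haveI := hHn
    refine Subgroup.isNilpotent_of_ker_le_center (Subgroup.inclusion
      (inf_le_left : H ⊓ Subgroup.centralizer ({x ^ (orderOf x / p)} : Set G) ≤ H)) ?_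
    rw [(MonoidHom.ker_eq_bot_iff _).mpr (Subgroup.inclusion_injective _)]
    exact bot_le
  have hH₀hall := nh_hall_cent hG hA hHn hHall hx₁H hx₁1 hox₁
  obtain ⟨m', hm'C, hm'N, hm'x⟩ := hA _ hCtop
    (H ⊓ Subgroup.centralizer ({x ^ (orderOf x / p)} : Set G)) inf_le_right hH₀n hH₀hall x
    ⟨hx, hxC⟩ (n₁⁻¹ * g) hg'C ⟨hy'H, hy'C⟩
  -- the Sylow `q`-subgroup `Q` of `H`
  have hqH : q ∣ Nat.card H := hqx.trans (Subgroup.orderOf_dvd_natCard H hx)
  obtain ⟨Q, hQH, hHNQ, hQel⟩ := nh_sylow hHn hHall hqH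
  have hQC : (Q : Subgroup G) ≤ Subgroup.centralizer ({x ^ (orderOf x / p)} : Set G) := by
    intro y hy
    rw [Subgroup.mem_centralizer_iff]
    intro h hh
    rw [Set.mem_singleton_iff.mp hh]
    obtain ⟨j, hj⟩ := (IsPGroup.iff_orderOf.mp Q.isPGroup') ⟨y, hy⟩
    have hj' : orderOf y = q ^ j := by rw [← hj, Subgroup.orderOf_mk]
    apply nh_commute hHn hx₁H (hQH hy)
    rw [hox₁, hj']
    exact Nat.Coprime.pow _ _ ((Nat.coprime_primes hp hq).mpr (Ne.symm hqp))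
  have hm'Q : m' ∈ Subgroup.normalizer ((Q : Subgroup G) : Set G) := by
    apply mem_normalizer_of_conj_smul_le
    intro z hz
    rw [mem_conj_smul_iff] at hz
    have hzw : z = m' * (m'⁻¹ * z * m') * m'⁻¹ := by group
    have h1 : m' * (m'⁻¹ * z * m') * m'⁻¹ ∈
        H ⊓ Subgroup.centralizer ({x ^ (orderOf x / p)} : Set G) :=
      (Subgroup.mem_normalizer_iff.mp hm'N (m'⁻¹ * z * m')).mp ⟨hQH hz, hQC hz⟩
    obtain ⟨j, hj⟩ := (IsPGroup.iff_orderOf.mp Q.isPGroup') ⟨m'⁻¹ * z * m', hz⟩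
    have hj' : orderOf (m'⁻¹ * z * m') = q ^ j := by rw [← hj, Subgroup.orderOf_mk]
    rw [hzw]
    refine hQel _ h1.1 j ?_
    rw [← hj']
    exact MulEquiv.orderOf_eq (MulAut.conj m') (m'⁻¹ * z * m')
  have hQ1 : (Q : Subgroup G) ≠ ⊥ := by
    intro h
    have hoq : orderOf (x ^ (orderOf x / q)) = q ^ 1 := by
      rw [pow_one]; exact orderOf_pow_orderOf_div ho0 hqx
    have h1 : x ^ (orderOf x / q) ∈ (Q : Subgroup G) := hQel _ (H.pow_mem hx _) 1 hoq
    rw [h, Subgroup.mem_bot] at h1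
    rw [h1, orderOf_one, pow_one] at hoq
    exact hq.one_lt.ne hoq
  have hN'top : Subgroup.normalizer ((Q : Subgroup G) : Set G) ≠ ⊤ :=
    Cfsg.Agent.Lib.helper29.normalizer_ne_top_of_simple hQ1
      (Cfsg.Agent.Lib.helper36.bgu_sylow_ne_top hnc Q)
  have hcop' : (Nat.card H).Coprime
      (H.relIndex (Subgroup.normalizer ((Q : Subgroup G) : Set G))) :=
    Nat.Coprime.coprime_dvd_right (Subgroup.relIndex_dvd_index_of_le hHNQ) hHall
  obtain ⟨n', -, hn'N, hn'x⟩ := hA _ hN'top H hHNQ hHn hcop' x hx m' hm'Q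
    (by rw [hm'x]; exact hy'H)
  refine ⟨n₁ * n', Subgroup.mul_mem _ hn₁ hn'N, ?_⟩
  calc n₁ * n' * x * (n₁ * n')⁻¹ = n₁ * (n' * x * n'⁻¹) * n₁⁻¹ := by group
    _ = n₁ * (n₁⁻¹ * g * x * (n₁⁻¹ * g)⁻¹) * n₁⁻¹ := by rw [hn'x, hm'x]
    _ = g * x * g⁻¹ := by group

end Cfsg.Agent.Lib.helper12
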