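import Mathlib

/-!
# S5239 piece EXP27 (racing copy): `h12_p3_exp27`
-/

set_option autoImplicit false

namespace Cfsg.Agent.Lib.helper79.P3

/-- EXP27 (L, standalone Mathlib). A nonabelian group of order 27 with an injective endomorphism inverting an
elementary abelian subgroup E of order 9 has exponent 3. -/
theorem h12_p3_exp27 {G : Type*} [Group G] [Finite G] (hG : Nat.card G = 27) (hna : ∃ a b : G, a * b ≠ b * a)
    (E : Subgroup G) (hE : Nat.card E = 9) (hEe : ∀ e ∈ E, e ^ 3 = 1) (ψ : G →* G)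
    (hψ : Function.Injective ψ) (hψE : ∀ e ∈ E, ψ e = e⁻¹) : ∀ g : G, g ^ 3 = 1 := by
  classical
  obtain ⟨a0, b0, hab⟩ := hna
  have hG' : Nat.card G = 3 ^ 3 := by rw [hG]; norm_num
  haveI : Fact (Nat.Prime 3) := ⟨Nat.prime_three⟩
  have hp : IsPGroup 3 G := IsPGroup.of_card hG'
  haveI : Nontrivial G := ⟨⟨a0 * b0, b0 * a0, hab⟩⟩
  -- class 2
  have hcl : ∀ a b c : G, (a⁻¹ * b⁻¹ * a * b) * c = c * (a⁻¹ * b⁻¹ * a * b) := by
    have hcomm : ∀ q r : G ⧸ Subgroup.center G, q * r = r * q := by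
      have hcard : Nat.card (G ⧸ Subgroup.center G) * Nat.card (Subgroup.center G) = 27 := by
        rw [← hG]; exact (Subgroup.card_eq_card_quotient_mul_card_subgroup _).symm
      haveI hZnt := hp.center_nontrivial
      have hZ1 : Nat.card (Subgroup.center G) ≠ 1 := by
        intro h
        haveI := (Nat.card_eq_one_iff_unique.mp h).1
        exact not_subsingleton (Subgroup.center G) inferInstance
      have hq : Nat.card (G ⧸ Subgroup.center G) ∣ 27 := Dvd.intro _ hcard
      have hq' : Nat.card (G ⧸ Subgroup.center G) = 1 ∨ Nat.card (G ⧸ Subgroup.center G) = 3 ∨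
          Nat.card (G ⧸ Subgroup.center G) = 9 ∨ Nat.card (G ⧸ Subgroup.center G) = 27 := by
        have h27 : (27 : ℕ) = 3 ^ 3 := by norm_num
        rw [h27] at hq
        obtain ⟨j, hj, hjq⟩ := (Nat.dvd_prime_pow Nat.prime_three).mp hq
        rw [hjq]
        interval_cases j <;> simp
      rcases hq' with h | h | h | h
      · intro q r
        haveI := (Nat.card_eq_one_iff_unique.mp h).1
        exact Subsingleton.elim _ _
      · haveI : IsCyclic (G ⧸ Subgroup.center G) := isCyclic_of_prime_card (p := 3) h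
        exact absurd (commutative_of_cyclic_center_quotient (QuotientGroup.mk' (Subgroup.center G))
          (by simp) a0 b0) hab
      · exact IsPGroup.commutative_of_card_eq_prime_sq (p := 3) (by rw [h]; norm_num)
      · rw [h] at hcard
        have : Nat.card (Subgroup.center G) = 1 := by omega
        exact absurd this hZ1
    intro a b c
    have h1 := hcomm (QuotientGroup.mk a) (QuotientGroup.mk b)
    have h2 : (b * a)⁻¹ * (a * b) ∈ Subgroup.center G := by
      rw [← QuotientGroup.eq]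
      exact h1.symm
    have h3 : a⁻¹ * b⁻¹ * a * b ∈ Subgroup.center G := by
      have : a⁻¹ * b⁻¹ * a * b = (b * a)⁻¹ * (a * b) := by group
      rw [this]; exact h2
    exact (Subgroup.mem_center_iff.mp h3 c).symm
  -- E is normal of index 3 and commutative
  have hEidx : E.index = 3 := by
    have := E.card_mul_index
    rw [hE, hG] at this
    omega
  have hEn : E.Normal := Subgroup.normal_of_index_eq_minFac_card (by rw [hEidx, hG]; norm_num)
  have hEc : ∀ a b : E, a * b = b * a :=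
    IsPGroup.commutative_of_card_eq_prime_sq (p := 3) (by rw [hE]; norm_num)
  have hEc' : ∀ a ∈ E, ∀ b ∈ E, a * b = b * a := by
    intro a ha b hb
    have := congrArg (Subtype.val) (hEc ⟨a, ha⟩ ⟨b, hb⟩)
    simpa using this
  have hqc : Nat.card (G ⧸ E) = 3 := hEidx
  have hcube : ∀ g : G, g ^ 3 ∈ E := by
    intro g
    have h := pow_card_eq_one' (G := G ⧸ E) (x := (QuotientGroup.mk g : G ⧸ E))
    rw [hqc] at h
    exact (QuotientGroup.eq_one_iff _).mp (by simpa using h)
  intro y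
  by_contra hy
  have hzE := hcube y
  have hz3 : (y ^ 3) ^ 3 = 1 := hEe _ hzE
  have hψz : ψ (y ^ 3) = (y ^ 3)⁻¹ := hψE _ hzE
  have hyE : y ∉ E := fun h => hy (hEe y h)
  have hmk : (QuotientGroup.mk y : G ⧸ E) ≠ 1 := by
    intro h
    exact hyE ((QuotientGroup.eq_one_iff _).mp h)
  -- decomposition of every element
  have hdec : ∀ g : G, ∃ j : ℕ, j < 3 ∧ ∃ e ∈ E, g = y ^ j * e := by
    intro g
    have hmem : (QuotientGroup.mk g : G ⧸ E) ∈ Submonoid.powers (QuotientGroup.mk y : G ⧸ E) :=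
      mem_powers_of_prime_card (p := 3) hqc hmk
    obtain ⟨k, hk⟩ := hmem
    have hk' : (QuotientGroup.mk y : G ⧸ E) ^ (k % 3) = QuotientGroup.mk g := by
      rw [← hk, ← hqc]
      exact pow_mod_natCard _ _
    refine ⟨k % 3, Nat.mod_lt _ (by norm_num), (y ^ (k % 3))⁻¹ * g, ?_, by group⟩
    rw [← QuotientGroup.eq]
    simpa using hk'
  obtain ⟨j, hj3, e, he, hψy⟩ := hdec (ψ y)
  have he3 : e ^ 3 = 1 := hEe e he
  have hψy3 : (ψ y) ^ 3 = (y ^ 3)⁻¹ := by rw [← map_pow]; exact hψz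
  interval_cases j
  · -- ψ y ∈ E
    rw [pow_zero, one_mul] at hψy
    rw [hψy, he3] at hψy3
    exact hy (by
      have : (y ^ 3)⁻¹ = 1 := hψy3.symm
      simpa using this)
  · -- ψ y = y * e
    rw [pow_one] at hψy
    have hcE : e⁻¹ * y⁻¹ * e * y ∈ E := by
      have h1 : y⁻¹ * e * y ∈ E := by
        have := hEn.conj_mem e he y⁻¹
        simpa using this
      have h2 := E.mul_mem (E.inv_mem he) h1
      have h3 : e⁻¹ * (y⁻¹ * e * y) = e⁻¹ * y⁻¹ * e * y := by group
      rw [h3] at h2; exact h2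
    have hc3 : (e⁻¹ * y⁻¹ * e * y) ^ 3 = 1 := hEe _ hcE
    have hcc : ∀ g : G, (e⁻¹ * y⁻¹ * e * y) * g = g * (e⁻¹ * y⁻¹ * e * y) := hcl e y
    have h1 : (y * e) ^ 3 = y ^ 3 * (y⁻¹ * (y⁻¹ * e * y) * y) * (y⁻¹ * e * y) * e := by
      rw [pow_three' (y * e)]
      group
    have h2 : y⁻¹ * e * y = e * (e⁻¹ * y⁻¹ * e * y) := by group
    have h3 : y⁻¹ * (e * (e⁻¹ * y⁻¹ * e * y)) * y =
        e * (e⁻¹ * y⁻¹ * e * y) * (e⁻¹ * y⁻¹ * e * y) := by
      have h4 : y⁻¹ * (e * (e⁻¹ * y⁻¹ * e * y)) * y =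
          (y⁻¹ * e * y) * (y⁻¹ * ((e⁻¹ * y⁻¹ * e * y) * y)) := by group
      rw [h4, hcc y, h2]
      group
    have h5 : (y * e) ^ 3 = y ^ 3 := by
      rw [h1, h2, h3]
      generalize e⁻¹ * y⁻¹ * e * y = c at hcc hc3
      have r1 : c * (e * c) = (e * c) * c := hcc (e * c)
      have r2 : c * e = e * c := hcc e
      have hpow : (e * c * c) * (e * c) * e = 1 := by
        calc (e * c * c) * (e * c) * e = (e * c) * (c * (e * c)) * e := by simp only [mul_assoc]
          _ = (e * c) * ((e * c) * c) * e := by rw [r1]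
          _ = (e * c) * (e * c) * (c * e) := by simp only [mul_assoc]
          _ = (e * c) * (e * c) * (e * c) := by rw [r2]
          _ = (e * c) ^ 3 := by rw [pow_three']
          _ = e ^ 3 * c ^ 3 := (show Commute e c from r2.symm).mul_pow 3
          _ = 1 := by rw [he3, hc3, one_mul]
      calc y ^ 3 * (e * c * c) * (e * c) * e = y ^ 3 * ((e * c * c) * (e * c) * e) := by
            simp only [mul_assoc]
        _ = y ^ 3 := by rw [hpow, mul_one]
    rw [hψy, h5] at hψy3
    -- y^3 = (y^3)⁻¹ and (y^3)^3 = 1 give y^3 = 1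
    apply hy
    have h6 : y ^ 3 * y ^ 3 = 1 := by
      nth_rewrite 2 [hψy3]
      exact mul_inv_cancel _
    have h7 : (y ^ 3) ^ 3 = y ^ 3 * y ^ 3 * y ^ 3 := pow_three' _
    rw [h6, one_mul] at h7
    rw [← h7]; exact hz3
  · -- ψ y = y^2 * e : then y centralizes E and G is commutative
    have hyc : ∀ a ∈ E, y * a = a * y := by
      intro a ha
      have ha' : y * a * y⁻¹ ∈ E := hEn.conj_mem a ha y
      have h1 : ψ (y * a * y⁻¹) = (y * a * y⁻¹)⁻¹ := hψE _ ha'
      rw [map_mul, map_mul, map_inv, hψE a ha, hψy] at h1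
      have h2 : e * a⁻¹ * e⁻¹ = a⁻¹ := by
        rw [hEc' e he a⁻¹ (E.inv_mem ha)]
        group
      have h3 : y ^ 2 * e * a⁻¹ * (y ^ 2 * e)⁻¹ = y ^ 2 * (e * a⁻¹ * e⁻¹) * (y ^ 2)⁻¹ := by group
      rw [h3, h2] at h1
      -- h1 : y^2 * a⁻¹ * (y^2)⁻¹ = (y * a * y⁻¹)⁻¹
      have h4 : y * a⁻¹ * y⁻¹ = a⁻¹ := by
        have h5 : y * a⁻¹ * y⁻¹ = y⁻¹ * (y ^ 2 * a⁻¹ * (y ^ 2)⁻¹) * y := by group
        rw [h5, h1]
        group
      have h6 : y * a⁻¹ = a⁻¹ * y := by
        calc y * a⁻¹ = (y * a⁻¹ * y⁻¹) * y := by group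
          _ = a⁻¹ * y := by rw [h4]
      calc y * a = a * (a⁻¹ * y) * a := by group
        _ = a * (y * a⁻¹) * a := by rw [h6]
        _ = a * y := by group
    apply hab
    obtain ⟨j1, -, e1, he1, h1⟩ := hdec a0
    obtain ⟨j2, -, e2, he2, h2⟩ := hdec b0
    have c1 : Commute y e1 := hyc e1 he1
    have c2 : Commute y e2 := hyc e2 he2
    have c3 : Commute e1 e2 := hEc' e1 he1 e2 he2
    rw [h1, h2]
    exact ((((Commute.pow_pow_self y j1 j2)).mul_right (c2.pow_left j1)).mul_left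
      (((c1.pow_left j2).symm).mul_right c3)).eq

end Cfsg.Agent.Lib.helper79.P3
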