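import Mathlib
import Cfsg.Agent.Lib.helper68.HallPet
import Cfsg.Agent.Lib.helper65.PearlDefs
import Cfsg.Agent.Lib.helper65.PearlBasic
import Cfsg.Agent.Lib.helper43.PearlD1

/-!
# S5238L piece A1 (racing copy): `h12_atom_remove`
-/

set_option autoImplicit false

namespace Cfsg.Agent.Lib.helper65.PearlPow

open Cfsg.Agent.Lib.helper68

variable {H : Type*} [Group H]

/-- A1 (M/L). Removing an atom does not change the high differences. -/
theorem h12_atom_remove {v : ℕ} (hv : 1 ≤ v) {s : ℕ → H} (hs : PolySeq v s) (k : ℕ) (hk : 1 ≤ k)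
    (a : H) (ha : a ∈ gam H (k + v)) (j : ℕ) (hj : k + 1 ≤ j) :
    Rel (v + j + 1) (dl^[j] s) (dl^[j] (fun n => (a ^ (n.choose k))⁻¹ * s n)) := by
  set s' : ℕ → H := fun n => (a ^ (n.choose k))⁻¹ * s n with hs'
  have hA : ∀ i, i ≤ k →
      Rel (v + i + 1) (fun n => (a ^ (n.choose (k - i)))⁻¹ * dl^[i] s n) (dl^[i] s') := by
    intro i
    induction i with
    | zero =>
      intro _
      exact rel_refl _ _
    | succ i ih =>
      intro hi
      have ih' := ih (by omega)
      have hr : PolySeq (v + i) (dl^[i] s) := polyseq_dl_iter hs i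
      have hBi : PolySeq (v + i) (fun n : ℕ => a ^ (n.choose (k - i))) :=
        PolySeq.atom (k - i) (v + i) a (by
          have : k - i + (v + i) = k + v := by omega
          rw [this]; exact ha)
      have hP : PolySeq (v + i) (fun n => (a ^ (n.choose (k - i)))⁻¹ * dl^[i] s n) :=
        PolySeq.mul (PolySeq.inv hBi) hr
      have h1 := rel_dl hP ih'
      rw [← Function.iterate_succ_apply' (f := dl)] at h1
      have hB : PolySeq (v + i + 1) (fun n : ℕ => a ^ (n.choose (k - (i + 1)))) :=
        PolySeq.atom (k - (i + 1)) (v + i + 1) a (by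
          have : k - (i + 1) + (v + i + 1) = k + v := by omega
          rw [this]; exact ha)
      have hcom : PolySeq (v + i + 1 + (v + i))
          (fun n => com ((a ^ (n.choose (k - (i + 1))))⁻¹) (dl^[i] s n)) :=
        PolySeq.comm (PolySeq.inv hB) hr
      have hD : PolySeq (v + i + 1) (fun n => (dl^[i] s n)⁻¹ * dl^[i] s (n + 1)) := PolySeq.diff hr
      have hconj := polyseq_conj
        (PolySeq.mono (by omega : v + (i + 1) + 1 ≤ v + i + 1 + (v + i)) hcom) hD
      have e : (fun n => ((a ^ (n.choose (k - (i + 1))))⁻¹ * dl^[i + 1] s n)⁻¹ *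
            dl (fun n => (a ^ (n.choose (k - i)))⁻¹ * dl^[i] s n) n)
          = fun n => ((dl^[i] s n)⁻¹ * dl^[i] s (n + 1))⁻¹ *
              com ((a ^ (n.choose (k - (i + 1))))⁻¹) (dl^[i] s n) *
              ((dl^[i] s n)⁻¹ * dl^[i] s (n + 1)) := by
        funext n
        rw [Function.iterate_succ_apply' (f := dl)]
        have hpas : (n + 1).choose (k - i) = n.choose (k - (i + 1)) + n.choose (k - i) := by
          have h' : k - i = (k - (i + 1)) + 1 := by omega
          rw [h', Nat.choose_succ_succ]
        simp only [dl]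
        rw [hpas, pow_add]
        unfold com
        group
      have h2 : Rel (v + (i + 1) + 1) (fun n => (a ^ (n.choose (k - (i + 1))))⁻¹ * dl^[i + 1] s n)
          (dl (fun n => (a ^ (n.choose (k - i)))⁻¹ * dl^[i] s n)) := by
        unfold Rel
        rw [e]
        exact hconj
      exact rel_trans h2 (rel_mono (by omega) h1)
  have hB : Rel (v + (k + 1) + 1) (dl^[k + 1] s) (dl^[k + 1] s') := by
    have h0 := hA k le_rfl
    have hP : PolySeq (v + k) (fun n => (a ^ (n.choose (k - k)))⁻¹ * dl^[k] s n) := by
      refine PolySeq.mul (PolySeq.inv (PolySeq.atom (k - k) (v + k) a ?_)) (polyseq_dl_iter hs k)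
      have : k - k + (v + k) = k + v := by omega
      rw [this]; exact ha
    have h1 := rel_dl hP h0
    rw [← Function.iterate_succ_apply' (f := dl)] at h1
    have e : dl (fun n => (a ^ (n.choose (k - k)))⁻¹ * dl^[k] s n) = dl^[k + 1] s := by
      rw [Function.iterate_succ_apply' (f := dl)]
      funext n
      simp only [dl, Nat.sub_self, Nat.choose_zero_right, pow_one]
      group
    rw [e] at h1
    exact rel_mono (by omega) h1
  obtain ⟨m, rfl⟩ := Nat.exists_eq_add_of_le hj
  clear hj
  induction m with
  | zero => exact hB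
  | succ m ih =>
    have h1 := rel_dl (polyseq_dl_iter hs (k + 1 + m)) ih
    rw [← Function.iterate_succ_apply' (f := dl), ← Function.iterate_succ_apply' (f := dl)] at h1
    exact rel_mono (by omega) h1

end Cfsg.Agent.Lib.helper65.PearlPow
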