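import Mathlib
import Cfsg.Agent.Lib.helper68.HallPet
import Cfsg.Agent.Lib.helper65.PearlDefs
import Cfsg.Agent.Lib.helper65.PearlBasic

/-!
# S5238L piece Q, core (racing copy): `h12_q_claim_core`

The statement of `q_claim` with the pieces D1 (`rel_dl`), I1 (`rel_dl_mul_const`), S (`s_claim`) and
U (`u_claim`) as hypotheses.
-/

set_option autoImplicit false

namespace Cfsg.Agent.Lib.helper65.PearlPow

open Cfsg.Agent.Lib.helper68

variable {H : Type*} [Group H]

/-- Q core: `q_claim` from D1, I1, S, U. -/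
theorem h12_q_claim_core
    (hD1 : ∀ {u v : ℕ} {s s' : ℕ → H}, PolySeq v s → Rel u s s' → Rel (u + 1) (dl s) (dl s'))
    (hI1 : ∀ {v j : ℕ} {s : ℕ → H} {y : H}, PolySeq v s → y ∈ gam H j →
      Rel (v + 1 + j) (dl s) (dl (fun n => s n * y)))
    (x g : H) {w : ℕ} (hw : 1 ≤ w) (hg : g ∈ gam H w)
    (hS : ∀ j : ℕ, Rel (w + j + 2) ((ph x)^[j] (dl (tt x g))) (dl ((ph x)^[j] (tt x g))))
    (hU : ∀ j : ℕ, Rel (w + j + 2) (fun n => (ph x)^[j + 1] (tt x g) n * yk x (com x g) j)
      ((ph x)^[j] (dl (tt x g))))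
    (k : ℕ) :
    Rel (w + k + 2) (fun n => (ph x)^[k + 1] (tt x g) n * yk x (com x g) k)
      (dl^[k + 1] (tt x g)) := by
  induction k with
  | zero =>
    apply rel_of_eq
    rw [zero_add, Function.iterate_one, Function.iterate_one, dl_tt]
    rfl
  | succ k ih =>
    have hP : PolySeq (w + (k + 1)) ((ph x)^[k + 1] (tt x g)) :=
      polyseq_ph_iter x (tt_polyseq x g hg) (k + 1)
    have hy : yk x (com x g) k ∈ gam H (w + 1 + k) := yk_mem x g hg k
    have hP2 : PolySeq (w + (k + 1)) (fun n => (ph x)^[k + 1] (tt x g) n * yk x (com x g) k) :=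
      PolySeq.mul hP (PolySeq.mono (by omega) (polyseq_const hy))
    have h1 := hD1 hP2 ih
    have h2 := hI1 hP hy
    have h3 := hS (k + 1)
    have h4 := hU (k + 1)
    rw [Function.iterate_succ_apply' (f := dl)]
    exact rel_trans (rel_mono (by omega) h4) (rel_trans (rel_mono (by omega) h3)
      (rel_trans (rel_mono (by omega) h2) (rel_mono (by omega) h1)))

end Cfsg.Agent.Lib.helper65.PearlPow
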