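import Mathlib

/-!
# S2279 piece E (racing copy, helper12): the Lucas lemma `¬ p ∣ C(p^e n' + p^e - 1, p^e)` for `p ∤ n'`.
-/

set_option autoImplicit false

namespace Cfsg.Agent.Lib.helper45.RU

/-- E (helper12 racing copy, verbatim statement, prefixed name) -/
theorem h12_choose_not_dvd (p : ℕ) (hp : p.Prime) (e n' : ℕ) (hn' : ¬ p ∣ n') :
    ¬ p ∣ (p ^ e * n' + p ^ e - 1).choose (p ^ e) := by
  haveI : Fact p.Prime := ⟨hp⟩
  induction e with
  | zero =>
    simpa using hn'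
  | succ e ih =>
    have hpos : 0 < p := hp.pos
    have hpe : 0 < p ^ e := pow_pos hpos e
    have hN : p ^ (e + 1) * n' + p ^ (e + 1) - 1 = p * (p ^ e * n' + p ^ e - 1) + (p - 1) := by
      have h1 : p ^ (e + 1) * n' + p ^ (e + 1) = p * (p ^ e * n' + p ^ e) := by ring
      rw [h1]
      have h2 : 1 ≤ p ^ e * n' + p ^ e := by omega
      obtain ⟨t, ht⟩ : ∃ t, p ^ e * n' + p ^ e = t + 1 := ⟨p ^ e * n' + p ^ e - 1, by omega⟩
      rw [ht]
      have h3 : t + 1 - 1 = t := by omega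
      rw [h3, Nat.mul_add, mul_one]
      omega
    have hmod : (p ^ (e + 1) * n' + p ^ (e + 1) - 1) % p = p - 1 := by
      rw [hN, Nat.mul_add_mod]
      exact Nat.mod_eq_of_lt (by omega)
    have hdiv : (p ^ (e + 1) * n' + p ^ (e + 1) - 1) / p = p ^ e * n' + p ^ e - 1 := by
      rw [hN, Nat.mul_add_div hpos]
      rw [Nat.div_eq_of_lt (by omega)]
      simp
    have hkmod : p ^ (e + 1) % p = 0 := by
      rw [pow_succ]; exact Nat.mul_mod_left _ _
    have hkdiv : p ^ (e + 1) / p = p ^ e := by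
      rw [pow_succ]; exact Nat.mul_div_cancel _ hpos
    have hl := @Choose.choose_modEq_choose_mod_mul_choose_div_nat
      (p ^ (e + 1) * n' + p ^ (e + 1) - 1) (p ^ (e + 1)) p _
    rw [hmod, hdiv, hkmod, hkdiv, Nat.choose_zero_right, one_mul] at hl
    intro hd
    apply ih
    exact (Nat.modEq_zero_iff_dvd.mp ((hl.symm.trans (Nat.modEq_zero_iff_dvd.mpr hd))))

end Cfsg.Agent.Lib.helper45.RU
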