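import Mathlib
import Cfsg.Agent.Lib.helper26.S4409Defs
import Cfsg.Agent.Lib.helper16.QuatAut

/-!
S4409 piece KFU (helper12): `kfu`, the unique-involution case of the key fact, from
`helper16.QuatAut.normalizer_odd` and `helper16.QuatAut.nonempty_equiv_q8`.
-/

set_option autoImplicit false

namespace Cfsg.Agent.Lib.helper26.S4409

variable {G : Type*} [Group G]

theorem kfu [Finite G] (Y : Subgroup G) (hY : IsPGroup 2 ↥Y)
    (hU : Cfsg.Agent.Lib.helper59.UniqueOrderP 2 ↥Y) (g : G)
    (hg : g ∈ Subgroup.normalizer (Y : Set G)) (hodd : Odd (orderOf g))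
    (hnc : g ∉ Subgroup.centralizer (Y : Set G)) : IsQ8 Y := by
  rcases Cfsg.Agent.Lib.helper16.QuatAut.normalizer_odd Y hY hU g hg (orderOf g) hodd
      (pow_orderOf_eq_one g) with h | ⟨h8, hncomm, -, -⟩
  · exact absurd h hnc
  · exact Cfsg.Agent.Lib.helper16.QuatAut.nonempty_equiv_q8 hU h8 hncomm

end Cfsg.Agent.Lib.helper26.S4409
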