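import Mathlib
import Cfsg.Agent.Lib.helper89.S60Defs

/-!
# S6000 piece ACEN (racing copy): `h12_s60_center`
-/

set_option autoImplicit false

namespace Cfsg.Agent.Lib.helper89.S60

open Matrix Cfsg Cfsg.Geo

/-- ACEN (M). Exponent 4 (hRs.exponent_eq : Monoid.exponent R = 2 * Nat.gcd 2 2) gives s^4 = 1, so a scalar c•1 in R has c^4 = 1.
Central elements of R commute with matrixSet R, so are scalar (second clause of ActsAbsolutelyIrreducibly). The centre has 4
elements c•1 with c^4 = 1; if all had c^2 = 1 there would be at most 2 (c = ±1); so some c has c^2 ≠ 1, (c^2)^2 = 1, c^2 = -1. -/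
theorem h12_s60_center {F : Type*} [Field F] [Fintype F] (h2 : (2 : F) ≠ 0) (R : Subgroup (GL (Fin 4) F))
    (hRs : IsSymplecticTypeGroup 2 R) (hRi : ActsAbsolutelyIrreducibly (matrixSet R))
    (hRZ : Nat.card (Subgroup.center R) = 4) :
    (∃ w : F, w * w = -1 ∧ ∃ z ∈ R, (z : Matrix (Fin 4) (Fin 4) F) = w • (1 : Matrix (Fin 4) (Fin 4) F)) ∧
    ∀ s ∈ R, ∀ c : F, (s : Matrix (Fin 4) (Fin 4) F) = c • (1 : Matrix (Fin 4) (Fin 4) F) → c ^ 4 = 1 := by
  classical
  have hexp : Monoid.exponent R = 4 := by
    rw [hRs.exponent_eq]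
    norm_num
  have hpow4 : ∀ s ∈ R, (s : Matrix (Fin 4) (Fin 4) F) ^ 4 = 1 := by
    intro s hs
    have h := Monoid.pow_exponent_eq_one (⟨s, hs⟩ : R)
    rw [hexp] at h
    have h' := congrArg (fun g : R => ((g : GL (Fin 4) F) : Matrix (Fin 4) (Fin 4) F)) h
    simpa using h'
  have hscal4 : ∀ s ∈ R, ∀ c : F,
      (s : Matrix (Fin 4) (Fin 4) F) = c • (1 : Matrix (Fin 4) (Fin 4) F) → c ^ 4 = 1 := by
    intro s hs c hc
    have h := hpow4 s hs
    rw [hc, smul_pow, one_pow] at h
    have h00 := congrFun (congrFun h 0) 0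
    simpa using h00
  refine ⟨?_, hscal4⟩
  have hcen : ∀ z : Subgroup.center R, ∃ c : F,
      (((z : R) : GL (Fin 4) F) : Matrix (Fin 4) (Fin 4) F) = c • (1 : Matrix (Fin 4) (Fin 4) F) := by
    intro z
    apply hRi.2
    rintro _ ⟨t, ht, rfl⟩
    have hz := Subgroup.mem_center_iff.mp z.2 ⟨t, ht⟩
    have h' := congrArg (fun g : R => ((g : GL (Fin 4) F) : Matrix (Fin 4) (Fin 4) F)) hz
    simpa using h'.symm
  choose f hf using hcen
  have hfinj : Function.Injective f := by
    intro z z' h
    apply Subtype.ext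
    apply Subtype.ext
    apply Units.ext
    rw [hf z, hf z', h]
  by_contra hcon
  have hpm : ∀ z, f z = 1 ∨ f z = -1 := by
    intro z
    have h4 : f z ^ 4 = 1 := hscal4 _ (z : R).2 _ (hf z)
    by_contra hne
    push_neg at hne
    apply hcon
    refine ⟨f z, ?_, ((z : R) : GL (Fin 4) F), (z : R).2, hf z⟩
    have h5 : (f z * f z - 1) * (f z * f z + 1) = 0 := by linear_combination h4
    rcases mul_eq_zero.mp h5 with h6 | h6
    · exfalso
      have h7 : (f z - 1) * (f z + 1) = 0 := by linear_combination h6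
      rcases mul_eq_zero.mp h7 with h8 | h8
      · exact hne.1 (by linear_combination h8)
      · exact hne.2 (by linear_combination h8)
    · linear_combination h6
  have hginj : Function.Injective (fun z : Subgroup.center R => decide (f z = 1)) := by
    intro z z' h
    apply hfinj
    simp only [decide_eq_decide] at h
    rcases hpm z with h1 | h1 <;> rcases hpm z' with h1' | h1'
    · rw [h1, h1']
    · exfalso
      have h3 := h.mp h1
      rw [h1'] at h3
      exact h2 (by linear_combination -h3)
    · exfalso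
      have h3 := h.mpr h1'
      rw [h1] at h3
      exact h2 (by linear_combination -h3)
    · rw [h1, h1']
  have hle := Nat.card_le_card_of_injective _ hginj
  rw [hRZ] at hle
  simp at hle

end Cfsg.Agent.Lib.helper89.S60
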