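import Mathlib
import Cfsg.Agent.Lib.helper24.S6eDefs
import Cfsg.Agent.Lib.helper46.S6eBINV
import Cfsg.Agent.Lib.helper46.S6eBQRT
import Cfsg.Agent.Lib.helper54.S6eBSC

/-!
# S6002 piece S2: `s6_suff_two` (r = 2)
-/

set_option autoImplicit false

namespace Cfsg.Agent.Lib.helper24

open Matrix Cfsg Cfsg.Geo

/-- S2 (M; uses BINV BQRT BSC). r = 2: x² = z•1 with z = ±1 (BSC). If z = 1, x is an involution ≠ ±1, conjugate (BINV) to t 0 of the frame (t 0 ∈ R ≤ spGL, t 0 ≠ ±1 since it anticommutes with t 1). If z = -1, x is conjugate (BQRT) to t 0 * t 1 ∈ R, whose square is -1. R ≤ its normalizer. -/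
theorem s6_suff_two {F : Type*} [Field F] [Fintype F] (h2 : (2 : F) ≠ 0) (R : Subgroup (GL S6I F)) (hG : S6Good R)
    (x : GL S6I F) (hx : x ∈ spGL 2 F) (z : F)
    (hz : (x : Matrix S6I S6I F) ^ 2 = z • (1 : Matrix S6I S6I F)) (hns : ∀ z : F, (x : Matrix S6I S6I F) ≠ z • (1 : Matrix S6I S6I F)) :
    ∃ g ∈ spGL 2 F, g⁻¹ * x * g ∈ subgroupNormalizer R := by
  obtain ⟨t, ht, ht2, hta, -⟩ := hG.frame
  have hRn : R ≤ subgroupNormalizer R := Subgroup.le_normalizer
  have h01 := hta 0 1 (by decide)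
  have h11 := ht2 1
  have h00 := ht2 0
  -- a matrix with `m = -m` is zero
  have hzero : ∀ m : Matrix S6I S6I F, m = -m → m = 0 := by
    intro m hm
    have h2m : (2 : F) • m = 0 := by
      rw [two_smul]
      nth_rewrite 2 [hm]
      exact add_neg_cancel m
    rcases smul_eq_zero.mp h2m with h | h
    · exact absurd h h2
    · exact h
  have h10ne : (1 : Matrix S6I S6I F) ≠ 0 := one_ne_zero
  rcases s6_scalar_pm x hx 2 z hz with rfl | rfl
  · have hx2 : (x : Matrix S6I S6I F) * (x : Matrix S6I S6I F) = 1 := by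
      rw [← pow_two, hz, one_smul]
    have hx1 : (x : Matrix S6I S6I F) ≠ 1 := fun h => hns 1 (by rw [h, one_smul])
    have hx1' : (x : Matrix S6I S6I F) ≠ -1 := fun h => hns (-1) (by rw [h, neg_smul, one_smul])
    have ht01 : (t 0 : Matrix S6I S6I F) ≠ 1 := by
      intro h
      rw [h, one_mul, mul_one] at h01
      have := hzero _ h01
      rw [this, mul_zero] at h11
      exact h10ne h11.symm
    have ht01' : (t 0 : Matrix S6I S6I F) ≠ -1 := by
      intro h
      rw [h, neg_one_mul, mul_neg_one, neg_neg] at h01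
      have := hzero _ h01.symm
      rw [this, mul_zero] at h11
      exact h10ne h11.symm
    obtain ⟨g, hg, hgx⟩ := s6_conj_invol h2 x (t 0) hx (hG.sp (ht 0)) hx2 h00 hx1 hx1' ht01 ht01'
    exact ⟨g, hg, hgx ▸ hRn (ht 0)⟩
  · have hx2 : (x : Matrix S6I S6I F) * (x : Matrix S6I S6I F) = -1 := by
      rw [← pow_two, hz, neg_smul, one_smul]
    have hy2 : ((t 0 * t 1 : GL S6I F) : Matrix S6I S6I F) * ((t 0 * t 1 : GL S6I F) : Matrix S6I S6I F) = -1 := by
      rw [Units.val_mul]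
      calc (t 0 : Matrix S6I S6I F) * (t 1 : Matrix S6I S6I F) * ((t 0 : Matrix S6I S6I F) * (t 1 : Matrix S6I S6I F))
          = (t 0 : Matrix S6I S6I F) * ((t 1 : Matrix S6I S6I F) * (t 0 : Matrix S6I S6I F)) * (t 1 : Matrix S6I S6I F) := by
            simp only [mul_assoc]
        _ = (t 0 : Matrix S6I S6I F) * (-((t 1 : Matrix S6I S6I F) * (t 0 : Matrix S6I S6I F)) * -1) * (t 1 : Matrix S6I S6I F) := by
            simp
        _ = -1 := by
            rw [← h01, mul_neg_one, mul_neg, neg_mul, ← mul_assoc, h00, one_mul, h11]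
    obtain ⟨g, hg, hgx⟩ := helper46_s6_conj_quart h2 x (t 0 * t 1) hx
      (hG.sp (R.mul_mem (ht 0) (ht 1))) hx2 hy2
    exact ⟨g, hg, hgx ▸ hRn (R.mul_mem (ht 0) (ht 1))⟩

end Cfsg.Agent.Lib.helper24
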