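import Mathlib

/-!
# S2287 piece FLDa (helper12): a generator `ω` of `Fˣ` with `ω ^ j = 1 + ω`.
-/

set_option autoImplicit false

namespace Cfsg.Agent.Lib.helper44.SL3

-- FLDa
theorem exists_prim {F : Type*} [Field F] [Fintype F] (hq : 4 ≤ Fintype.card F) :
    ∃ (ω : Fˣ) (j : ℕ), (∀ y : Fˣ, y ∈ Subgroup.zpowers ω) ∧ (ω : F) ^ j = 1 + ω := by
  classical
  obtain ⟨ω, hω⟩ := IsCyclic.exists_generator (α := Fˣ)
  have hcard : Fintype.card Fˣ = Fintype.card F - 1 := Fintype.card_units F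
  have hord : orderOf ω = Fintype.card Fˣ := by
    rw [← Nat.card_eq_fintype_card]
    exact orderOf_eq_card_of_forall_mem_zpowers hω
  have hne : (1 : F) + ω ≠ 0 := by
    intro h0
    have h1 : (ω : F) = -1 := by
      have : (ω : F) = -1 := by linear_combination h0
      exact this
    have h2 : ω ^ 2 = 1 := by
      apply Units.ext
      rw [Units.val_pow_eq_pow_val, h1]
      simp
    have h3 : orderOf ω ≤ 2 := orderOf_le_of_pow_eq_one (by norm_num) h2
    omega
  let u : Fˣ := Units.mk0 (1 + (ω : F)) hne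
  have hu : u ∈ Submonoid.powers ω := (mem_powers_iff_mem_zpowers).mpr (hω u)
  obtain ⟨j, hj⟩ := hu
  refine ⟨ω, j, hω, ?_⟩
  have := congrArg (fun t : Fˣ => (t : F)) hj
  simpa [u, Units.val_pow_eq_pow_val] using this

end Cfsg.Agent.Lib.helper44.SL3
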