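import Mathlib

/-!
# S2287 piece FLDc (racing copy, helper12): the field with four elements.
-/

set_option autoImplicit false

namespace Cfsg.Agent.Lib.helper44.SL3

theorem h12_four_charP {F : Type*} [Field F] [Fintype F] (hcard : Fintype.card F = 4) : CharP F 2 := by
  obtain ⟨p, hp⟩ := CharP.exists F
  haveI := hp
  obtain ⟨n, hprime, hn⟩ := FiniteField.card F p
  rw [hcard] at hn
  have h2 : p = 2 := by
    have hdvd : p ∣ 4 := by
      rw [hn]
      exact dvd_pow_self _ (by
        intro h0
        rw [h0] at hn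
        simp at hn)
    have : p ∣ 2 ^ 2 := by simpa using hdvd
    exact (Nat.prime_dvd_prime_iff_eq hprime Nat.prime_two).mp (hprime.dvd_of_dvd_pow this)
  subst h2
  exact hp

theorem h12_four_two {F : Type*} [Field F] [Fintype F] (hcard : Fintype.card F = 4) : (2 : F) = 0 := by
  haveI := h12_four_charP hcard
  exact_mod_cast CharP.cast_eq_zero F 2

-- FLDc
theorem h12_four_prim {F : Type*} [Field F] [Fintype F] (hcard : Fintype.card F = 4) :
    ∃ ω : Fˣ, (ω : F) ^ 2 = ω + 1 := by
  classical
  have h2 : (2 : F) = 0 := h12_four_two hcard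
  have hex : ∃ x : F, x ≠ 0 ∧ x ≠ 1 := by
    by_contra hno
    push Not at hno
    have : (Finset.univ : Finset F) ⊆ {0, 1} := by
      intro x _
      by_cases hx : x = 0
      · simp [hx]
      · simp [hno x hx]
    have hle := Finset.card_le_card this
    rw [Finset.card_univ, hcard] at hle
    have : ({0, 1} : Finset F).card ≤ 2 := Finset.card_insert_le _ _
    omega
  obtain ⟨x, hx0, hx1⟩ := hex
  have hx3 : x ^ 3 = 1 := by
    have := FiniteField.pow_card_sub_one_eq_one x hx0
    rw [hcard] at this
    simpa using this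
  have hq : x ^ 2 + x + 1 = 0 := by
    have hm : (x - 1) * (x ^ 2 + x + 1) = 0 := by
      have : (x - 1) * (x ^ 2 + x + 1) = x ^ 3 - 1 := by ring
      rw [this, hx3, sub_self]
    rcases mul_eq_zero.mp hm with h | h
    · exact absurd (sub_eq_zero.mp h) hx1
    · exact h
  refine ⟨Units.mk0 x hx0, ?_⟩
  simp only [Units.val_mk0]
  linear_combination hq - (x + 1) * h2

-- FLDc
theorem h12_four_adjoin {F : Type*} [Field F] [Fintype F] [Algebra (ZMod 2) F]
    (hcard : Fintype.card F = 4) (ω : F) (hω : ω ^ 2 = ω + 1) :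
    Algebra.adjoin (ZMod 2) {ω} = ⊤ ∧ ω ≠ 0 ∧ ω ^ 3 = 1 ∧ CharP F 2 ∧
      ∀ a : F, a = 0 ∨ a = 1 ∨ a = ω ∨ a = ω + 1 := by
  classical
  have h2 : (2 : F) = 0 := h12_four_two hcard
  have hω0 : ω ≠ 0 := by
    intro h
    rw [h] at hω
    simp at hω
  have hω1 : ω ≠ 1 := by
    intro h
    rw [h] at hω
    have : (1 : F) = 0 := by linear_combination hω + h2
    exact one_ne_zero this
  have hω3 : ω ^ 3 = 1 := by linear_combination (ω + 1) * hω + ω * h2
  have hall : ∀ a : F, a = 0 ∨ a = 1 ∨ a = ω ∨ a = ω + 1 := by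
    have hs : ({0, 1, ω, ω + 1} : Finset F) = Finset.univ := by
      apply Finset.eq_univ_of_card
      rw [hcard]
      have d1 : (0 : F) ∉ ({1, ω, ω + 1} : Finset F) := by
        simp only [Finset.mem_insert, Finset.mem_singleton, not_or]
        refine ⟨zero_ne_one, fun h => hω0 h.symm, fun h => ?_⟩
        apply hω1
        linear_combination -h - h2
      have d2 : (1 : F) ∉ ({ω, ω + 1} : Finset F) := by
        simp only [Finset.mem_insert, Finset.mem_singleton, not_or]
        refine ⟨fun h => hω1 h.symm, fun h => ?_⟩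
        apply hω0
        linear_combination -h
      have d3 : ω ∉ ({ω + 1} : Finset F) := by
        simp only [Finset.mem_singleton]
        intro h
        have : (1 : F) = 0 := by linear_combination -h
        exact one_ne_zero this
      rw [Finset.card_insert_of_notMem d1, Finset.card_insert_of_notMem d2,
        Finset.card_insert_of_notMem d3, Finset.card_singleton]
    intro a
    have ha : a ∈ ({0, 1, ω, ω + 1} : Finset F) := by rw [hs]; exact Finset.mem_univ a
    simpa using ha
  refine ⟨?_, hω0, hω3, h12_four_charP hcard, hall⟩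
  rw [eq_top_iff]
  intro a _
  have hωm : ω ∈ Algebra.adjoin (ZMod 2) ({ω} : Set F) := Algebra.subset_adjoin (Set.mem_singleton ω)
  rcases hall a with h | h | h | h
  · rw [h]; exact zero_mem _
  · rw [h]; exact one_mem _
  · rw [h]; exact hωm
  · rw [h]; exact add_mem hωm (one_mem _)

end Cfsg.Agent.Lib.helper44.SL3
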