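import Mathlib
import Cfsg.Agent.Lib.helper44.SUODefs

/-!
S2334 piece OQIND (racing copy by helper12): `h12_eig_indep` = verbatim Skel statement of
`eig_indep` under a prefixed name.
-/

set_option autoImplicit false
set_option linter.unusedVariables false
set_option linter.unusedSectionVars false

namespace Cfsg.Agent.Lib.helper44.SUW

/-- OQIND (racing copy): the joint eigenspaces for different characters are independent. -/
theorem h12_eig_indep {G : Type*} [Group G] {A : Type*} [AddCommGroup A] [Fintype A]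
    (e : A → A → ℂ) (he0 : ∀ y, e y 0 = 1) (he_add : ∀ y a b, e y (a + b) = e y a * e y b)
    (he_row : ∀ y y', y ≠ y' → ∑ a, e y a * (e y' a)⁻¹ = 0)
    (u : A → G) (hu : ∀ a b, u (a + b) = u a * u b)
    {k : ℕ} (ρ : Representation ℂ G (Fin k → ℂ)) :
    ∑ y : A, Module.finrank ℂ (eigS ρ u e y) ≤ k := by
  classical
  have hne : ∀ y a, e y a ≠ 0 := by
    intro y a h
    have h1 := he_add y a (-a)
    rw [add_neg_cancel, he0, h, zero_mul] at h1
    exact one_ne_zero h1
  have hcardA : (Fintype.card A : ℂ) ≠ 0 := by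
    have h0 : 0 < Fintype.card A := Fintype.card_pos_iff.mpr ⟨0⟩
    exact_mod_cast h0.ne'
  -- the sum map
  obtain ⟨Φ, hΦ⟩ : ∃ Φ : (∀ y : A, eigS ρ u e y) →ₗ[ℂ] (Fin k → ℂ),
      ∀ w, Φ w = ∑ y, (w y : Fin k → ℂ) :=
    ⟨∑ y : A, (eigS ρ u e y).subtype ∘ₗ LinearMap.proj y, fun w => by
      simp [LinearMap.sum_apply]⟩
  have hinj : Function.Injective Φ := by
    rw [← LinearMap.ker_eq_bot, LinearMap.ker_eq_bot']
    intro w hw
    rw [hΦ] at hw
    funext y'
    apply Subtype.ext
    have h1 : ∑ a : A, (e y' a)⁻¹ • ρ (u a) (∑ y, (w y : Fin k → ℂ)) = 0 := by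
      rw [hw]
      simp
    have h2 : ∀ a : A, ρ (u a) (∑ y, (w y : Fin k → ℂ)) = ∑ y, e y a • (w y : Fin k → ℂ) := by
      intro a
      rw [map_sum]
      apply Finset.sum_congr rfl
      intro y _
      exact (w y).2 a
    have h3 : ∑ a : A, (e y' a)⁻¹ • ρ (u a) (∑ y, (w y : Fin k → ℂ))
        = ∑ y, (∑ a : A, e y a * (e y' a)⁻¹) • (w y : Fin k → ℂ) := by
      simp_rw [h2, Finset.smul_sum, smul_smul]
      rw [Finset.sum_comm]
      apply Finset.sum_congr rfl
      intro y _
      rw [Finset.sum_smul]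
      apply Finset.sum_congr rfl
      intro a _
      rw [mul_comm]
    rw [h3] at h1
    rw [Finset.sum_eq_single y' (fun y _ hy => by rw [he_row y y' hy, zero_smul])
      (fun h => absurd (Finset.mem_univ _) h)] at h1
    have h4 : ∑ a : A, e y' a * (e y' a)⁻¹ = (Fintype.card A : ℂ) := by
      rw [Finset.sum_congr rfl (fun a _ => mul_inv_cancel₀ (hne y' a))]
      simp
    rw [h4] at h1
    have h5 := (smul_eq_zero.mp h1).resolve_left hcardA
    rw [h5]
    rfl
  have hle := LinearMap.finrank_le_finrank_of_injective hinj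
  rw [Module.finrank_pi_fintype] at hle
  simpa using hle

end Cfsg.Agent.Lib.helper44.SUW
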