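import Mathlib
import Cfsg.Agent.Lib.helper72.SUODefs

/-!
S2334 (helper72 architecture) piece UH0 (helper12): `uhMat_zero`.
-/

set_option autoImplicit false

namespace Cfsg.Agent.Lib.helper72.SUO

open Matrix Cfsg Cfsg.Agent.Lib.helper44.SUW

/-- UH0 (S) -/
theorem uhMat_zero {K : Type*} [Field K] (σ : K →+* K) (ε : K) {m : ℕ} :
    uhMat σ ε (0 : Matrix (Fin m) (Fin m) K) = 1 := by
  have h1 : uMat σ ε (0 : Matrix (Fin m) (Fin m) K) = 1 := by
    unfold uMat
    rw [add_zero, smul_zero, smul_zero, sub_zero, Matrix.fromBlocks_one,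
      Matrix.submatrix_one_equiv]
  unfold uhMat embMat
  rw [h1, one_smul, Matrix.fromBlocks_one, Matrix.submatrix_one_equiv]

end Cfsg.Agent.Lib.helper72.SUO
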