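import Mathlib
import Cfsg.Agent.Lib.helper44.SUWDefs

/-!
S2335 piece COLZ (racing copy by helper12), core: `h12_col_zero_core` = the statement of
`col_zero` for an arbitrary index `i0` in place of `0`, with SLTR (for `d = m`) as a hypothesis.
-/

set_option autoImplicit false
set_option linter.unusedVariables false
set_option linter.unusedSectionVars false

namespace Cfsg.Agent.Lib.helper44.SUW

open Matrix

/-- the fixed points of `x ↦ x ^ q` -/
theorem h12_cz_fixed_card {K : Type*} [Field K] [Fintype K] [DecidableEq K] {q : ℕ} (hq : 1 < q) :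
    (Finset.univ.filter (fun x : K => x ^ q = x)).card ≤ q := by
  have hne : (Polynomial.X ^ q - Polynomial.X : Polynomial K) ≠ 0 :=
    FiniteField.X_pow_card_sub_X_ne_zero K hq
  have hsub : Finset.univ.filter (fun x : K => x ^ q = x)
      ⊆ (Polynomial.X ^ q - Polynomial.X : Polynomial K).roots.toFinset := by
    intro x hx
    rw [Finset.mem_filter] at hx
    rw [Multiset.mem_toFinset, Polynomial.mem_roots hne]
    simp [Polynomial.IsRoot, hx.2]
  calc (Finset.univ.filter (fun x : K => x ^ q = x)).card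
      ≤ (Polynomial.X ^ q - Polynomial.X : Polynomial K).roots.toFinset.card :=
        Finset.card_le_card hsub
    _ ≤ Multiset.card (Polynomial.X ^ q - Polynomial.X : Polynomial K).roots :=
        Multiset.toFinset_card_le _
    _ ≤ (Polynomial.X ^ q - Polynomial.X : Polynomial K).natDegree := Polynomial.card_roots' _
    _ = q := FiniteField.X_pow_card_sub_X_natDegree_eq K hq

/-- the `i0`-th column of `D Y₁ D†` when the `i0`-th row of `D` is `σ α • e_{i0}` -/
theorem h12_cz_key {K : Type*} [Field K] [DecidableEq K] {m : ℕ} (σ : K →+* K)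
    (hσσ : ∀ x, σ (σ x) = x)
    (S : Set (Matrix (Fin m) (Fin m) K))
    (hstab : ∀ Y ∈ S, ∀ B : Matrix (Fin m) (Fin m) K, B.det = 1 → (B.map σ)ᵀ * Y * B ∈ S)
    (Y₁ : Matrix (Fin m) (Fin m) K) (hY₁ : Y₁ ∈ S) (i0 : Fin m)
    (D : Matrix (Fin m) (Fin m) K) (hD : D.det = 1) (α : K)
    (hrow : ∀ l, D i0 l = if l = i0 then σ α else 0) :
    ∃ Y' ∈ S, ∀ i, Y' i i0 = α * (D *ᵥ (fun k => Y₁ k i0)) i := by
  have hB : ((D.map σ)ᵀ.map σ)ᵀ = D := by
    ext i j
    simp [hσσ]
  have hdet : ((D.map σ)ᵀ).det = 1 := by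
    rw [Matrix.det_transpose]
    have := RingHom.map_det σ D
    rw [hD, map_one] at this
    exact this.symm
  have hmem := hstab Y₁ hY₁ ((D.map σ)ᵀ) hdet
  rw [hB] at hmem
  refine ⟨_, hmem, ?_⟩
  intro i
  rw [Matrix.mul_apply]
  rw [Finset.sum_eq_single i0 (fun l _ hl => by
    rw [Matrix.transpose_apply, Matrix.map_apply, hrow l, if_neg hl, map_zero, mul_zero])
    (fun h => absurd (Finset.mem_univ _) h)]
  rw [Matrix.transpose_apply, Matrix.map_apply, hrow i0, if_pos rfl, hσσ, Matrix.mul_apply,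
    mul_comm]
  rfl

/-- an element of `S` whose `i0`-th column is non-zero with zero `i0`-th entry -/
theorem h12_cz_setup {K : Type*} [Field K] [DecidableEq K] {m : ℕ} (σ : K →+* K)
    (hsltr : ∀ x y : Fin m → K, x ≠ 0 → y ≠ 0 →
      ∃ B : Matrix (Fin m) (Fin m) K, B.det = 1 ∧ B *ᵥ x = y)
    (S : Set (Matrix (Fin m) (Fin m) K))
    (hstab : ∀ Y ∈ S, ∀ B : Matrix (Fin m) (Fin m) K, B.det = 1 → (B.map σ)ᵀ * Y * B ∈ S)
    (Y : Matrix (Fin m) (Fin m) K) (hY : Y ∈ S) (x : Fin m → K) (hx : hval σ Y x = 0)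
    (hYx : Y *ᵥ x ≠ 0) (i0 : Fin m) :
    ∃ Y₁ ∈ S, Y₁ i0 i0 = 0 ∧ (fun k => Y₁ k i0) ≠ 0 := by
  have hx0 : x ≠ 0 := by
    rintro rfl
    exact hYx (Matrix.mulVec_zero Y)
  have he0 : (Pi.single i0 (1 : K) : Fin m → K) ≠ 0 := by
    intro h
    have := congrFun h i0
    simp at this
  obtain ⟨B₁, hB₁det, hB₁⟩ := hsltr _ x he0 hx0
  have hcol : ∀ k, B₁ k i0 = x k := by
    intro k
    have := congrFun hB₁ k
    rw [← this]
    simp [Matrix.mulVec, dotProduct, Pi.single_apply]
  refine ⟨_, hstab Y hY B₁ hB₁det, ?_, ?_⟩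
  · rw [← hx]
    unfold hval
    rw [Matrix.mul_apply]
    simp only [Matrix.mul_apply, Matrix.transpose_apply, Matrix.map_apply, hcol, Finset.sum_mul]
    rw [Finset.sum_comm]
  · intro hc
    have h1 : (fun k => ((B₁.map σ)ᵀ * Y * B₁) k i0) = (B₁.map σ)ᵀ *ᵥ (Y *ᵥ x) := by
      rw [Matrix.mulVec_mulVec, ← hB₁, Matrix.mulVec_mulVec]
      ext k
      simp [Matrix.mulVec, dotProduct, Pi.single_apply]
    rw [h1] at hc
    have hdet : ((B₁.map σ)ᵀ).det ≠ 0 := by
      rw [Matrix.det_transpose]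
      have := RingHom.map_det σ B₁
      rw [hB₁det, map_one] at this
      have h2 : (B₁.map σ).det = 1 := this.symm
      rw [h2]
      exact one_ne_zero
    exact hYx (Matrix.eq_zero_of_mulVec_eq_zero hdet hc)

/-- COLZ, core: arbitrary index `i0`; SLTR (for `d = m`) is the hypothesis `hsltr`. -/
theorem h12_col_zero_core {K : Type*} [Field K] [Fintype K] [DecidableEq K] {q m : ℕ}
    (hK : Fintype.card K = q ^ 2) (hm : 2 ≤ m) (σ : K →+* K) (hσ : ∀ x, σ x = x ^ q)
    (hsltr : ∀ x y : Fin m → K, x ≠ 0 → y ≠ 0 →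
      ∃ B : Matrix (Fin m) (Fin m) K, B.det = 1 ∧ B *ᵥ x = y)
    (S : Set (Matrix (Fin m) (Fin m) K))
    (hstab : ∀ Y ∈ S, ∀ B : Matrix (Fin m) (Fin m) K, B.det = 1 → (B.map σ)ᵀ * Y * B ∈ S)
    (Y : Matrix (Fin m) (Fin m) K) (hY : Y ∈ S) (x : Fin m → K) (hx : hval σ Y x = 0)
    (hYx : Y *ᵥ x ≠ 0) (i0 : Fin m) :
    (q ^ ((m - 1) + (m - 1)) - 1) / (q + 1) ≤
      Nat.card {b : Fin m → K // b i0 = 0 ∧ b ≠ 0 ∧ ∃ Y' ∈ S, ∀ i, Y' i i0 = b i} := by
  classical
  have hσσ : ∀ x, σ (σ x) = x := by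
    intro x
    rw [hσ, hσ, ← pow_mul, ← sq, ← hK, FiniteField.pow_card]
  have hq2 : 2 ≤ q := by
    have h1 : 1 < Fintype.card K := Fintype.one_lt_card
    rw [hK] at h1
    by_contra h
    have h' : q = 0 ∨ q = 1 := by omega
    rcases h' with rfl | rfl <;> simp at h1
  obtain ⟨Y₁, hY₁, hc0, hcne⟩ := h12_cz_setup σ hsltr S hstab Y hY x hx hYx i0
  obtain ⟨c, hcdef⟩ : ∃ c : Fin m → K, c = fun k => Y₁ k i0 := ⟨_, rfl⟩
  have hci0 : c i0 = 0 := by rw [hcdef]; exact hc0
  have hc : c ≠ 0 := by rw [hcdef]; exact hcne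
  -- key membership
  have hkey : ∀ (D : Matrix (Fin m) (Fin m) K) (α : K), D.det = 1 → α ≠ 0 →
      (∀ l, D i0 l = if l = i0 then σ α else 0) →
      (α • (D *ᵥ c)) i0 = 0 ∧ α • (D *ᵥ c) ≠ 0 ∧
        ∃ Y' ∈ S, ∀ i, Y' i i0 = (α • (D *ᵥ c)) i := by
    intro D α hD hα hrow
    refine ⟨?_, ?_, ?_⟩
    · rw [Pi.smul_apply, Matrix.mulVec, dotProduct,
        Finset.sum_eq_single i0 (fun l _ hl => by rw [hrow l, if_neg hl, zero_mul])
          (fun h => absurd (Finset.mem_univ _) h), hci0, mul_zero, smul_zero]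
    · intro h0
      have h1 : D *ᵥ c = 0 := by
        have := congrArg (fun v => α⁻¹ • v) h0
        simpa [smul_smul, inv_mul_cancel₀ hα] using this
      exact hc (Matrix.eq_zero_of_mulVec_eq_zero (by rw [hD]; exact one_ne_zero) h1)
    · obtain ⟨Y', hY', hcol⟩ := h12_cz_key σ hσσ S hstab Y₁ hY₁ i0 D hD α hrow
      refine ⟨Y', hY', fun i => ?_⟩
      rw [hcol i, hcdef]
      rfl
  -- the target finset
  obtain ⟨T, hT⟩ : ∃ T : Finset (Fin m → K), T = Finset.univ.filter
      (fun b => b i0 = 0 ∧ b ≠ 0 ∧ ∃ Y' ∈ S, ∀ i, Y' i i0 = b i) := ⟨_, rfl⟩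
  have hcardT : Nat.card {b : Fin m → K // b i0 = 0 ∧ b ≠ 0 ∧ ∃ Y' ∈ S, ∀ i, Y' i i0 = b i}
      = T.card := by
    rw [Nat.card_eq_fintype_card, Fintype.card_subtype, hT]
  rw [hcardT]
  have hmemT : ∀ b, b ∈ T ↔ (b i0 = 0 ∧ b ≠ 0 ∧ ∃ Y' ∈ S, ∀ i, Y' i i0 = b i) := by
    intro b
    rw [hT, Finset.mem_filter]
    simp
  by_cases hm3 : 3 ≤ m
  · -- `m ≥ 3`: transvections
    have hgood : ∀ b : Fin m → K, b i0 = 0 → (∀ lam : K, b ≠ lam • c) → b ∈ T := by
      intro b hb0 hbc
      obtain ⟨w, hw⟩ : ∃ w : Fin m → K, w = b - c := ⟨_, rfl⟩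
      have hbw : ∀ l, b l = w l + c l := by
        intro l
        rw [hw]
        simp
      have hw0 : w ≠ 0 := by
        intro h
        apply hbc 1
        rw [one_smul]
        rw [hw] at h
        exact sub_eq_zero.mp h
      obtain ⟨j, hj⟩ : ∃ j, w j ≠ 0 := by
        by_contra h
        exact hw0 (funext fun l => not_not.mp (not_exists.mp h l))
      obtain ⟨k, hk⟩ : ∃ k, w j * c k - w k * c j ≠ 0 := by
        by_contra h
        have h' : ∀ k, w j * c k - w k * c j = 0 := fun k => not_not.mp (not_exists.mp h k)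
        have hck : ∀ k, c k = (c j / w j) * w k := by
          intro k
          have := h' k
          field_simp
          linear_combination this
        have hcj : c j ≠ 0 := by
          intro h0
          apply hc
          funext k
          rw [hck k, h0, zero_div, zero_mul]
          rfl
        apply hbc (1 + w j / c j)
        funext k
        have h5 : (w j / c j) * c k = w k := by
          rw [hck k]
          field_simp
        rw [hbw k, Pi.smul_apply, smul_eq_mul, add_mul, one_mul, h5, add_comm]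
      obtain ⟨d, hd⟩ : ∃ d : K, d = w j * c k - w k * c j := ⟨_, rfl⟩
      have hd0 : d ≠ 0 := by rw [hd]; exact hk
      obtain ⟨t, ht⟩ : ∃ t : Fin m → K, t = fun l =>
          (if l = k then w j else 0) - (if l = j then w k else 0) := ⟨_, rfl⟩
      have htv : ∀ v : Fin m → K, t ⬝ᵥ v = w j * v k - w k * v j := by
        intro v
        rw [ht]
        simp only [dotProduct, sub_mul, Finset.sum_sub_distrib, ite_mul, zero_mul,
          Finset.sum_ite_eq', Finset.mem_univ, if_true]
      obtain ⟨sv, hsv⟩ : ∃ sv : Fin m → K, sv = d⁻¹ • w := ⟨_, rfl⟩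
      have hts : t ⬝ᵥ sv = 0 := by
        rw [htv, hsv]
        simp only [Pi.smul_apply, smul_eq_mul]
        ring
      have htc : t ⬝ᵥ c = d := by rw [htv, hd]
      have hDdet : (1 + Matrix.vecMulVec sv t).det = 1 := by
        rw [Matrix.vecMulVec_eq Unit, Matrix.det_one_add_replicateCol_mul_replicateRow, hts,
          add_zero]
      have hsv0 : sv i0 = 0 := by
        rw [hsv, hw]
        simp only [Pi.smul_apply, smul_eq_mul, Pi.sub_apply, hb0, hci0, sub_zero, mul_zero]
      have hDrow : ∀ l, (1 + Matrix.vecMulVec sv t) i0 l = if l = i0 then σ 1 else 0 := by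
        intro l
        rw [Matrix.add_apply, Matrix.vecMulVec_apply, hsv0, zero_mul, add_zero, map_one,
          Matrix.one_apply]
        by_cases h : l = i0
        · rw [if_pos h, if_pos h.symm]
        · rw [if_neg h, if_neg (fun h' => h h'.symm)]
      have hDc : (1 + Matrix.vecMulVec sv t) *ᵥ c = b := by
        rw [Matrix.add_mulVec, Matrix.one_mulVec, Matrix.vecMulVec_mulVec, htc]
        funext l
        rw [hbw l, hsv]
        simp only [Pi.add_apply, Pi.smul_apply, MulOpposite.smul_eq_mul_unop,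
          MulOpposite.unop_op, smul_eq_mul]
        field_simp
        ring
      have h6 := hkey _ 1 hDdet one_ne_zero hDrow
      rw [one_smul, hDc] at h6
      exact (hmemT b).mpr h6
    -- counting
    obtain ⟨g, hg⟩ : ∃ g : ({j : Fin m // j ≠ i0} → K) → (Fin m → K),
        g = fun f l => if h : l = i0 then 0 else f ⟨l, h⟩ := ⟨_, rfl⟩
    have hginj : Function.Injective g := by
      intro f f' h
      funext ⟨l, hl⟩
      have := congrFun h l
      rw [hg] at this
      simpa [hl] using this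
    have hg0 : ∀ f, g f i0 = 0 := by
      intro f
      rw [hg]
      simp
    obtain ⟨Bad, hBadDef⟩ : ∃ Bad : Finset (Fin m → K),
        Bad = Finset.univ.image (fun lam : K => lam • c) := ⟨_, rfl⟩
    obtain ⟨Q, hQ⟩ : ∃ Q : ℕ, Q = q ^ 2 := ⟨_, rfl⟩
    have hBad : Bad.card ≤ Q := by
      calc Bad.card ≤ (Finset.univ : Finset K).card := by
            rw [hBadDef]; exact Finset.card_image_le
        _ = Q := by rw [Finset.card_univ, hK, hQ]
    obtain ⟨N, hNdef⟩ : ∃ N : ℕ, N = Q ^ (m - 1) := ⟨_, rfl⟩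
    have hA : (Finset.univ : Finset ({j : Fin m // j ≠ i0} → K)).card = N := by
      rw [Finset.card_univ, Fintype.card_fun, hK, Fintype.card_subtype, Finset.filter_ne',
        Finset.card_erase_of_mem (Finset.mem_univ _), Finset.card_univ, Fintype.card_fin, hNdef,
        hQ]
    have hsplit : ((Finset.univ : Finset ({j : Fin m // j ≠ i0} → K)).filter
          (fun f => g f ∈ Bad)).card
        + ((Finset.univ : Finset ({j : Fin m // j ≠ i0} → K)).filter
          (fun f => ¬ g f ∈ Bad)).card = N := by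
      rw [← hA]
      exact Finset.card_filter_add_card_filter_not _
    have hbad2 : ((Finset.univ : Finset ({j : Fin m // j ≠ i0} → K)).filter
        (fun f => g f ∈ Bad)).card ≤ Bad.card := by
      apply Finset.card_le_card_of_injOn g
      · intro f hf
        exact (Finset.mem_filter.mp hf).2
      · exact fun a _ b _ h => hginj h
    have hgoodsub : ((Finset.univ : Finset ({j : Fin m // j ≠ i0} → K)).filter
        (fun f => ¬ g f ∈ Bad)).image g ⊆ T := by
      intro b hb
      obtain ⟨f, hf, rfl⟩ := Finset.mem_image.mp hb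
      have hnb := (Finset.mem_filter.mp hf).2
      apply hgood _ (hg0 f)
      intro lam hlam
      apply hnb
      rw [hBadDef]
      exact Finset.mem_image.mpr ⟨lam, Finset.mem_univ _, hlam.symm⟩
    have hcardgood : ((Finset.univ : Finset ({j : Fin m // j ≠ i0} → K)).filter
        (fun f => ¬ g f ∈ Bad)).card ≤ T.card := by
      rw [← Finset.card_image_of_injective _ hginj]
      exact Finset.card_le_card hgoodsub
    -- arithmetic
    have hpow : q ^ (m - 1 + (m - 1)) = N := by
      rw [hNdef, hQ, ← pow_mul]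
      congr 1
      omega
    rw [hpow]
    have hQ4 : 4 ≤ Q := by
      rw [hQ]
      nlinarith
    have hN : Q ^ 2 ≤ N := by
      rw [hNdef]
      exact Nat.pow_le_pow_right (by omega) (by omega)
    have hN4 : 4 * Q ≤ N := by nlinarith
    have h2 : N - Q ≤ T.card := by omega
    apply Nat.div_le_of_le_mul
    calc N - 1 ≤ 3 * (N - Q) := by omega
      _ ≤ (q + 1) * T.card := Nat.mul_le_mul (by omega) h2
  · -- `m = 2`: scalars `α / σ α`
    have hm2 : m - 1 + (m - 1) = 2 := by omega
    rw [hm2]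
    obtain ⟨i1, hi1⟩ : ∃ i1, c i1 ≠ 0 := by
      by_contra h
      exact hc (funext fun l => not_not.mp (not_exists.mp h l))
    have hi10 : i1 ≠ i0 := by
      rintro rfl
      exact hi1 hci0
    obtain ⟨δ, hδ⟩ : ∃ δ : K → Fin m → K, δ = fun α l =>
        if l = i0 then σ α else if l = i1 then (σ α)⁻¹ else 1 := ⟨_, rfl⟩
    have hσne : ∀ α : K, α ≠ 0 → σ α ≠ 0 := by
      intro α hα h
      apply hα
      rw [← hσσ α, h, map_zero]
    have hδdet : ∀ α : K, α ≠ 0 → (Matrix.diagonal (δ α)).det = 1 := by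
      intro α hα
      have hσα : σ α ≠ 0 := hσne α hα
      rw [Matrix.det_diagonal]
      have h1 : ∀ l, δ α l = (if l = i0 then σ α else 1) * (if l = i1 then (σ α)⁻¹ else 1) := by
        intro l
        rw [hδ]
        by_cases h0 : l = i0
        · have : l ≠ i1 := by rw [h0]; exact fun h => hi10 h.symm
          simp only [if_pos h0, if_neg this, mul_one]
        · simp only [if_neg h0, one_mul]
      rw [Finset.prod_congr rfl (fun l _ => h1 l), Finset.prod_mul_distrib,
        Finset.prod_ite_eq' Finset.univ i0, Finset.prod_ite_eq' Finset.univ i1,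
        if_pos (Finset.mem_univ _), if_pos (Finset.mem_univ _), mul_inv_cancel₀ hσα]
    have hδrow : ∀ α : K, ∀ l, Matrix.diagonal (δ α) i0 l = if l = i0 then σ α else 0 := by
      intro α l
      by_cases h : l = i0
      · rw [h, Matrix.diagonal_apply_eq, if_pos rfl, hδ]
        simp
      · rw [Matrix.diagonal_apply_ne _ (fun h' => h h'.symm), if_neg h]
    obtain ⟨f, hf⟩ : ∃ f : K → Fin m → K, f = fun α => α • (Matrix.diagonal (δ α) *ᵥ c) :=
      ⟨_, rfl⟩
    have hfi1 : ∀ α, f α i1 = α * ((σ α)⁻¹ * c i1) := by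
      intro α
      rw [hf]
      simp only [Pi.smul_apply, smul_eq_mul, Matrix.mulVec_diagonal]
      rw [hδ]
      simp only [if_neg hi10, if_true]
    obtain ⟨s, hs⟩ : ∃ s : Finset K, s = Finset.univ.filter (fun α => α ≠ 0) := ⟨_, rfl⟩
    have hscard : s.card = q ^ 2 - 1 := by
      rw [hs, Finset.filter_ne', Finset.card_erase_of_mem (Finset.mem_univ _), Finset.card_univ,
        hK]
    have hmems : ∀ α, α ∈ s ↔ α ≠ 0 := by
      intro α
      rw [hs, Finset.mem_filter]
      simp
    have himg : s.image f ⊆ T := by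
      intro b hb
      rw [Finset.mem_image] at hb
      obtain ⟨α, hα, rfl⟩ := hb
      have hα0 : α ≠ 0 := (hmems α).mp hα
      rw [hf]
      exact (hmemT _).mpr (hkey _ α (hδdet α hα0) hα0 (hδrow α))
    have hfib : ∀ b ∈ s.image f, (s.filter (fun a => f a = b)).card ≤ q + 1 := by
      intro b hb
      rw [Finset.mem_image] at hb
      obtain ⟨β, hβ, rfl⟩ := hb
      have hβ0 : β ≠ 0 := (hmems β).mp hβ
      have hσβ : σ β ≠ 0 := hσne β hβ0
      calc (s.filter (fun a => f a = f β)).card
          ≤ (Finset.univ.filter (fun x : K => x ^ q = x)).card := by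
            apply Finset.card_le_card_of_injOn (fun a => a * β⁻¹)
            · intro a ha
              rw [Finset.mem_coe, Finset.mem_filter] at ha
              obtain ⟨has, hab⟩ := ha
              have ha0 : a ≠ 0 := (hmems a).mp has
              have hσa : σ a ≠ 0 := hσne a ha0
              have h1 := congrFun hab i1
              rw [hfi1, hfi1] at h1
              have h3 : a * (σ a)⁻¹ = β * (σ β)⁻¹ := by
                apply mul_right_cancel₀ hi1
                rw [mul_assoc, h1, mul_assoc]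
              rw [Finset.mem_coe, Finset.mem_filter]
              refine ⟨Finset.mem_univ _, ?_⟩
              rw [← hσ, map_mul, map_inv₀]
              calc σ a * (σ β)⁻¹ = σ a * (β⁻¹ * (β * (σ β)⁻¹)) := by
                    rw [← mul_assoc β⁻¹, inv_mul_cancel₀ hβ0, one_mul]
                _ = σ a * (β⁻¹ * (a * (σ a)⁻¹)) := by rw [h3]
                _ = a * β⁻¹ * (σ a * (σ a)⁻¹) := by ring
                _ = a * β⁻¹ := by rw [mul_inv_cancel₀ hσa, mul_one]
            · intro a _ a' _ h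
              exact mul_right_cancel₀ (inv_ne_zero hβ0) h
        _ ≤ q := h12_cz_fixed_card (by omega)
        _ ≤ q + 1 := Nat.le_succ q
    have hmain := Finset.card_le_mul_card_image s (q + 1) hfib
    rw [hscard] at hmain
    calc (q ^ 2 - 1) / (q + 1) ≤ (s.image f).card := Nat.div_le_of_le_mul hmain
      _ ≤ T.card := Finset.card_le_card himg

end Cfsg.Agent.Lib.helper44.SUW
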