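import Mathlib
import Cfsg.Prelude.Def_Classical
import Cfsg.Prelude.Def_GeometricClasses
import Cfsg.Agent.Lib.helper49.WittIso

/-!
# S5977 / S5978 block [A], piece RHO1 (racing copy): `h12_sfk_rho_one`
-/

set_option autoImplicit false

namespace Cfsg.Agent.Lib.helper59.Sfk

open Matrix Cfsg.Geo
open Cfsg.Agent.Lib.helper49 (detHom spinorSign)

/-- RHO1 (M): the reflection in an eigenvector of `x`: commutes with `x`, determinant `-1`. -/
theorem h12_sfk_rho_one {F : Type*} [Field F] [Fintype F] {ι : Type} [Fintype ι] [DecidableEq ι]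
    (h2 : (2 : F) ≠ 0) (Q : QuadraticForm F (ι → F))
    (hQ : (QuadraticMap.polarBilin Q).Nondegenerate)
    (x : GL ι F) (hx : x ∈ Cfsg.isometryGroup F (⇑Q)) (u : ι → F) (c : F)
    (hu : (x : Matrix ι ι F) *ᵥ u = c • u) (hQu : Q u ≠ 0) :
    ∃ r : ↥(Cfsg.isometryGroup F (⇑Q)),
      ((r : GL ι F) : Matrix ι ι F) * (x : Matrix ι ι F) =
        (x : Matrix ι ι F) * ((r : GL ι F) : Matrix ι ι F) ∧
      detHom (⇑Q) r = -1 := by
  have hxQ : Q ((x : Matrix ι ι F) *ᵥ u) = Q u :=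
    (Cfsg.Agent.Lib.helper49.mem_isometryGroup_iff (⇑Q) x).mp hx u
  have hc : c ≠ 0 := by
    rintro rfl
    rw [hu, zero_smul, map_zero] at hxQ
    exact hQu hxQ.symm
  have hxu : Q ((x : Matrix ι ι F) *ᵥ u) ≠ 0 := by rw [hxQ]; exact hQu
  have hconj := Cfsg.Agent.Lib.helper49.refl_conj Q ⟨x, hx⟩ u hQu hxu
  refine ⟨Cfsg.Agent.Lib.helper49.reflG Q u hQu, ?_, ?_⟩
  · have h1 : (⟨x, hx⟩ : ↥(Cfsg.isometryGroup F (⇑Q))) * Cfsg.Agent.Lib.helper49.reflG Q u hQu *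
        (⟨x, hx⟩ : ↥(Cfsg.isometryGroup F (⇑Q)))⁻¹ = Cfsg.Agent.Lib.helper49.reflG Q u hQu := by
      rw [hconj]
      apply Subtype.ext
      apply Units.ext
      rw [Cfsg.Agent.Lib.helper49.reflG_val, Cfsg.Agent.Lib.helper49.reflG_val]
      show Cfsg.reflectionMatrix ⇑Q ((x : Matrix ι ι F) *ᵥ u) = _
      rw [hu, Cfsg.Agent.Lib.helper49.refl_smul Q u c hc]
    have h2 : (⟨x, hx⟩ : ↥(Cfsg.isometryGroup F (⇑Q))) * Cfsg.Agent.Lib.helper49.reflG Q u hQu =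
        Cfsg.Agent.Lib.helper49.reflG Q u hQu * (⟨x, hx⟩ : ↥(Cfsg.isometryGroup F (⇑Q))) :=
      mul_inv_eq_iff_eq_mul.mp h1
    have h3 := congrArg (fun g : ↥(Cfsg.isometryGroup F (⇑Q)) => ((g : GL ι F) : Matrix ι ι F)) h2
    simpa using h3.symm
  · rw [← Cfsg.Agent.Lib.helper49.reflG'_eq Q u hQu]
    exact Cfsg.Agent.Lib.helper49.detHom_refl Q u hQu

end Cfsg.Agent.Lib.helper59.Sfk
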