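import Mathlib
import Cfsg.Prelude.Def_Classical
import Cfsg.Prelude.Def_GeometricClasses
import Cfsg.Agent.Lib.helper49.WittIso
import Cfsg.Agent.Lib.helper53.SfoBINREP

/-!
# S5977 / S5978 block [A], piece ROTJ (racing copy): `h12_sfk_rot_neg`
-/

set_option autoImplicit false

namespace Cfsg.Agent.Lib.helper59.Sfk

open Matrix Cfsg.Geo
open Cfsg.Agent.Lib.helper49 (detHom spinorSign)

/-- ROTJ (L): a rotation of the plane `<e, x e>`: commutes with `x`, determinant `1`, spinor sign `-1`. -/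
theorem h12_sfk_rot_neg {F : Type*} [Field F] [Fintype F] {ι : Type} [Fintype ι] [DecidableEq ι]
    (h2 : (2 : F) ≠ 0) (Q : QuadraticForm F (ι → F))
    (hQ : (QuadraticMap.polarBilin Q).Nondegenerate)
    (x : GL ι F) (hx : x ∈ Cfsg.isometryGroup F (⇑Q))
    (hxx : (x : Matrix ι ι F) * (x : Matrix ι ι F) = -1) (e : ι → F) (he : Q e ≠ 0) :
    ∃ r : ↥(Cfsg.isometryGroup F (⇑Q)),
      ((r : GL ι F) : Matrix ι ι F) * (x : Matrix ι ι F) =
        (x : Matrix ι ι F) * ((r : GL ι F) : Matrix ι ι F) ∧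
      detHom (⇑Q) r = 1 ∧ spinorSign (⇑Q) r = -1 := by
  classical
  have hchar : ringChar F ≠ 2 := by
    intro h
    apply h2
    have := CharP.cast_eq_zero F (ringChar F)
    rw [h] at this
    exact_mod_cast this
  obtain ⟨ν, hν⟩ := FiniteField.exists_nonsquare hchar
  have hν0 : ν ≠ 0 := fun h => hν (h ▸ IsSquare.zero)
  obtain ⟨s, t, hst0⟩ := Cfsg.Agent.Lib.helper24.sfo_bin_rep h2 1 1 ν one_ne_zero one_ne_zero
  have hst : ν = s ^ 2 + t ^ 2 := by rw [← hst0]; ring
  have hiso : ∀ v : ι → F, Q ((x : Matrix ι ι F) *ᵥ v) = Q v :=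
    (Cfsg.Agent.Lib.helper49.mem_isometryGroup_iff (⇑Q) x).mp hx
  have hpol : ∀ v w : ι → F, QuadraticMap.polar Q ((x : Matrix ι ι F) *ᵥ v) ((x : Matrix ι ι F) *ᵥ w) =
      QuadraticMap.polar Q v w := Cfsg.Agent.Lib.helper49.isometry_polar Q ⟨x, hx⟩
  have hXX : ∀ v : ι → F, (x : Matrix ι ι F) *ᵥ ((x : Matrix ι ι F) *ᵥ v) = -v := by
    intro v
    rw [Matrix.mulVec_mulVec, hxx, Matrix.neg_mulVec, Matrix.one_mulVec]
  -- polar e (X w) = - polar (X e) w
  have hskew : ∀ v w : ι → F, QuadraticMap.polar Q v ((x : Matrix ι ι F) *ᵥ w) =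
      -QuadraticMap.polar Q ((x : Matrix ι ι F) *ᵥ v) w := by
    intro v w
    have h := hpol ((x : Matrix ι ι F) *ᵥ v) w
    rw [hXX, QuadraticMap.polar_neg_left] at h
    rw [← h, neg_neg]
  have hef : QuadraticMap.polar Q e ((x : Matrix ι ι F) *ᵥ e) = 0 := by
    have h := hskew e e
    rw [QuadraticMap.polar_comm Q ((x : Matrix ι ι F) *ᵥ e) e] at h
    have h' : (2 : F) * QuadraticMap.polar Q e ((x : Matrix ι ι F) *ᵥ e) = 0 := by linear_combination h
    rcases mul_eq_zero.mp h' with h'' | h''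
    · exact absurd h'' h2
    · exact h''
  have hfe : QuadraticMap.polar Q ((x : Matrix ι ι F) *ᵥ e) e = 0 := by
    rw [QuadraticMap.polar_comm]; exact hef
  have hQf : Q ((x : Matrix ι ι F) *ᵥ e) = Q e := hiso e
  have hee : QuadraticMap.polar Q e e = 2 * Q e := by
    rw [QuadraticMap.polar_self]; simp
  have hff : QuadraticMap.polar Q ((x : Matrix ι ι F) *ᵥ e) ((x : Matrix ι ι F) *ᵥ e) = 2 * Q e := by
    rw [hpol, hee]
  have hQu' : Q (s • e + t • ((x : Matrix ι ι F) *ᵥ e)) = ν * Q e := by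
    rw [QuadraticMap.map_add Q, QuadraticMap.map_smul, QuadraticMap.map_smul,
      QuadraticMap.polar_smul_left, QuadraticMap.polar_smul_right, hef, hQf, hst]
    simp only [smul_eq_mul]
    ring
  have hu'0 : Q (s • e + t • ((x : Matrix ι ι F) *ᵥ e)) ≠ 0 := by
    rw [hQu']; exact mul_ne_zero hν0 he
  refine ⟨Cfsg.Agent.Lib.helper49.reflG Q e he *
    Cfsg.Agent.Lib.helper49.reflG Q (s • e + t • ((x : Matrix ι ι F) *ᵥ e)) hu'0, ?_, ?_, ?_⟩
  · apply Matrix.toLin'.injective
    apply LinearMap.ext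
    intro w
    simp only [Matrix.toLin'_mul, LinearMap.comp_apply, Matrix.toLin'_apply, Subgroup.coe_mul,
      Units.val_mul, Cfsg.Agent.Lib.helper49.reflG_val]
    have hA : QuadraticMap.polar Q (s • e + t • ((x : Matrix ι ι F) *ᵥ e)) w =
        s * QuadraticMap.polar Q e w + t * QuadraticMap.polar Q ((x : Matrix ι ι F) *ᵥ e) w := by
      rw [QuadraticMap.polar_add_left, QuadraticMap.polar_smul_left, QuadraticMap.polar_smul_left]
      simp only [smul_eq_mul]
    have hB : QuadraticMap.polar Q (s • e + t • ((x : Matrix ι ι F) *ᵥ e)) ((x : Matrix ι ι F) *ᵥ w) =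
        -s * QuadraticMap.polar Q ((x : Matrix ι ι F) *ᵥ e) w + t * QuadraticMap.polar Q e w := by
      rw [QuadraticMap.polar_add_left, QuadraticMap.polar_smul_left, QuadraticMap.polar_smul_left,
        hskew e w, hpol e w]
      simp only [smul_eq_mul]
      ring
    have hC : QuadraticMap.polar Q e (s • e + t • ((x : Matrix ι ι F) *ᵥ e)) = 2 * s * Q e := by
      rw [QuadraticMap.polar_add_right, QuadraticMap.polar_smul_right, QuadraticMap.polar_smul_right,
        hee, hef]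
      simp only [smul_eq_mul]
      ring
    have hD : (x : Matrix ι ι F) *ᵥ (s • e + t • ((x : Matrix ι ι F) *ᵥ e)) =
        s • ((x : Matrix ι ι F) *ᵥ e) - t • e := by
      rw [Matrix.mulVec_add, Matrix.mulVec_smul, Matrix.mulVec_smul, hXX]
      simp [sub_eq_add_neg]
    rw [Cfsg.Agent.Lib.helper49.refl_mulVec, Cfsg.Agent.Lib.helper49.refl_mulVec,
      Cfsg.Agent.Lib.helper49.refl_mulVec, Cfsg.Agent.Lib.helper49.refl_mulVec]
    simp only [QuadraticMap.polar_sub_right, QuadraticMap.polar_smul_right, Matrix.mulVec_sub,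
      Matrix.mulVec_smul, hA, hB, hC, hD, hQu', hskew e w, smul_eq_mul]
    ext i
    simp only [Pi.sub_apply, Pi.smul_apply, Pi.add_apply, smul_eq_mul]
    subst hst
    field_simp
    ring
  · rw [map_mul, ← Cfsg.Agent.Lib.helper49.reflG'_eq Q e he,
      ← Cfsg.Agent.Lib.helper49.reflG'_eq Q _ hu'0,
      Cfsg.Agent.Lib.helper49.detHom_refl Q e he, Cfsg.Agent.Lib.helper49.detHom_refl Q _ hu'0]
    simp
  · rw [map_mul]
    by_cases hsq : IsSquare (Q e)
    · have hn : ¬ IsSquare (Q (s • e + t • ((x : Matrix ι ι F) *ᵥ e))) := by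
        rw [hQu']
        intro h
        rw [Cfsg.Agent.Lib.helper49.isSquare_mul_iff h2 hν0 he] at h
        exact hν (h.mpr hsq)
      rw [(Cfsg.Agent.Lib.helper49.spinorSign_refl h2 Q e he).1 hsq,
        (Cfsg.Agent.Lib.helper49.spinorSign_refl h2 Q _ hu'0).2 hn]
      simp
    · have hy : IsSquare (Q (s • e + t • ((x : Matrix ι ι F) *ᵥ e))) := by
        rw [hQu', Cfsg.Agent.Lib.helper49.isSquare_mul_iff h2 hν0 he]
        exact ⟨fun h => absurd h hν, fun h => absurd h hsq⟩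
      rw [(Cfsg.Agent.Lib.helper49.spinorSign_refl h2 Q e he).2 hsq,
        (Cfsg.Agent.Lib.helper49.spinorSign_refl h2 Q _ hu'0).1 hy]
      simp

end Cfsg.Agent.Lib.helper59.Sfk
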