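import Mathlib
import Cfsg.Agent.Lib.helper24.SfoDefs
import Cfsg.Agent.Lib.helper63.Elusive1
import Cfsg.Agent.Lib.helper71.SffDG
import Cfsg.Agent.Lib.helper15.SffBC
import Cfsg.Agent.Lib.helper98.SffB

/-!
# S5981 piece O35 (helper12), core version: `sfo_suff_three_five` with the OPAIR statement
(`sfo_pair_conj`, specialised to `n = r`) as a hypothesis.
-/

set_option autoImplicit false

namespace Cfsg.Agent.Lib.helper24

open Module Matrix Polynomial Cfsg.Geo

/-- O35, core: `hpair` is the statement of `sfo_pair_conj` for `n = r`. -/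
theorem h12_sfo_suff_three_five_core {F : Type*} [Field F] [Fintype F] [DecidableEq F] (r : ℕ)
    [Fact r.Prime]
    (hr : r = 3 ∨ r = 5) (Q : (Fin r → F) → F)
    (hpair : ∀ (x K : Matrix (Fin r) (Fin r) F) (μ : Fin r → F), K.det ≠ 0 →
      x * K = K * Matrix.diagonal μ → ∀ σ : F, σ ≠ 0 → (∀ j, μ j ≠ 0) →
      (∀ c : F, (Finset.univ.filter (fun j => μ j = σ * c)).card =
        (Finset.univ.filter (fun j => μ j = σ * c⁻¹)).card) →
      ∀ j₀ : Fin r, μ j₀ = σ → SfoConj Q x)
    (hv : padicValNat r (Fintype.card F - 1) = 1)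
    (x : Matrix (Fin r) (Fin r) F) (hdet : x.det = 1) (z : F)
    (hx : x ^ r = z • (1 : Matrix (Fin r) (Fin r) F)) : SfoConj Q x := by
  have hrp : r.Prime := Fact.out
  have hne0 : NeZero r := ⟨hrp.ne_zero⟩
  have hr2 : r ≠ 2 := by rcases hr with h | h <;> omega
  have hrodd : Odd r := hrp.odd_of_ne_two hr2
  -- arithmetic
  have hd : r ∣ Fintype.card F - 1 := dvd_of_one_le_padicValNat (by rw [hv])
  have hnd2 : ¬ r ^ 2 ∣ Fintype.card F - 1 := by
    intro h
    have hpos : Fintype.card F - 1 ≠ 0 := by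
      intro h0
      rw [h0] at hv
      simp at hv
    have h3 := (padicValNat_dvd_iff_le (p := r) (a := Fintype.card F - 1) (n := 2) hpos).mp h
    omega
  -- `z ^ r = 1`
  have hzr : z ^ r = 1 := by
    have h1 := congrArg Matrix.det hx
    rw [Matrix.det_pow, hdet, one_pow, Matrix.det_smul, Matrix.det_one, Fintype.card_fin,
      mul_one] at h1
    exact h1.symm
  have hz0 : z ≠ 0 := by
    rintro rfl
    rw [zero_pow hrp.ne_zero] at hzr
    exact zero_ne_one hzr
  -- `z = 1`
  have hz1 : z = 1 := by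
    by_contra hz1
    have hnp : ∀ d : F, d ^ r ≠ z := by
      intro d hd'
      have hd0 : d ≠ 0 := by
        rintro rfl
        rw [zero_pow hrp.ne_zero] at hd'
        exact hz0 hd'.symm
      have h1 : d ^ (r ^ 2) = 1 := by rw [pow_two, pow_mul, hd', hzr]
      have h2 : d ^ (Fintype.card F - 1) = 1 := FiniteField.pow_card_sub_one_eq_one d hd0
      have h3 : orderOf d ∣ r ^ 2 := orderOf_dvd_of_pow_eq_one h1
      have h4 : orderOf d ∣ Fintype.card F - 1 := orderOf_dvd_of_pow_eq_one h2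
      obtain ⟨i, hi, hio⟩ := (Nat.dvd_prime_pow hrp).mp h3
      have hi1 : i ≤ 1 := by
        by_contra hi1
        have hi2 : i = 2 := by omega
        rw [hi2] at hio
        rw [hio] at h4
        exact hnd2 h4
      have h5 : d ^ r = 1 := by
        have h6 : orderOf d ∣ r := by
          rw [hio]
          have h7 := pow_dvd_pow r hi1
          rwa [pow_one] at h7
        exact orderOf_dvd_iff_pow_eq_one.mp h6
      exact hz1 (hd'.symm.trans h5)
    have hirr : Irreducible (X ^ r - C z : F[X]) := X_pow_sub_C_irreducible_of_prime hrp hnp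
    obtain ⟨k, hk1, hk2⟩ :=
      Cfsg.Agent.Lib.helper63.Elusive.det_of_pow_eq r hrp.ne_zero z hirr x hx
    rw [Fintype.card_fin] at hk1 hk2
    have hk : k = 1 := by
      have h8 : r * k = r * 1 := by rw [mul_one]; exact hk1.symm
      exact Nat.eq_of_mul_eq_mul_left hrp.pos h8
    rw [hk, pow_one, hrodd.neg_one_pow, hdet] at hk2
    apply hz1
    have h9 : (1 : F) = z := by rw [hk2]; ring
    exact h9.symm
  rw [hz1, one_smul] at hx
  -- diagonalise
  obtain ⟨K, ε, hK, hε, hxK⟩ := sff_diag_of_pow r hd x hx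
  -- a primitive `r`-th root of unity
  obtain ⟨ζu, hζu⟩ : ∃ u : Fˣ, orderOf u = r := by
    apply exists_prime_orderOf_dvd_card r
    rw [Fintype.card_units]
    exact hd
  obtain ⟨ζ, hζdef⟩ : ∃ ζ : F, ζ = (ζu : F) := ⟨_, rfl⟩
  have hord : orderOf ζ = r := by rw [hζdef, orderOf_units]; exact hζu
  have hζ0 : ζ ≠ 0 := by rw [hζdef]; exact Units.ne_zero ζu
  have hprim : IsPrimitiveRoot ζ r := by
    have h1 := IsPrimitiveRoot.orderOf ζ
    rwa [hord] at h1
  have hζr : ζ ^ r = 1 := by
    have h1 := pow_orderOf_eq_one ζ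
    rwa [hord] at h1
  have hmod : ∀ m : ℕ, ζ ^ (m % r) = ζ ^ m := by
    intro m
    have h := pow_mod_orderOf ζ m
    rwa [hord] at h
  have hEadd : ∀ c d : ZMod r, ζ ^ (c + d).val = ζ ^ c.val * ζ ^ d.val := by
    intro c d
    rw [ZMod.val_add, hmod, pow_add]
  have hEinj : ∀ c d : ZMod r, ζ ^ c.val = ζ ^ d.val → c = d := by
    intro c d h
    exact ZMod.val_injective r (hprim.pow_inj (ZMod.val_lt c) (ZMod.val_lt d) h)
  have hEsurj : ∀ e : F, e ^ r = 1 → ∃ c : ZMod r, ζ ^ c.val = e := by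
    intro e he
    obtain ⟨i, _, hi⟩ := hprim.eq_pow_of_pow_eq_one he
    exact ⟨(i : ZMod r), by rw [ZMod.val_natCast, hmod, hi]⟩
  have hEpow : ∀ c : ZMod r, (ζ ^ c.val) ^ r = 1 := by
    intro c
    rw [← pow_mul, mul_comm, pow_mul, hζr, one_pow]
  choose a ha using fun j => hEsurj (ε j) (hε j)
  -- the product of the eigenvalues is `1`
  have hprod : ∏ j, ε j = 1 := by
    have h1 := congrArg Matrix.det hxK
    rw [Matrix.det_mul, Matrix.det_mul, Matrix.det_diagonal, hdet, one_mul] at h1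
    have h2 : K.det * 1 = K.det * ∏ j, ε j := by rw [mul_one]; exact h1
    exact (mul_left_cancel₀ hK h2).symm
  have hsum : ∑ j, a j = 0 := by
    apply hEinj
    rw [ZMod.val_zero, pow_zero]
    have hgen : ∀ s : Finset (Fin r), ζ ^ (∑ j ∈ s, a j).val = ∏ j ∈ s, ε j := by
      intro s
      induction s using Finset.induction_on with
      | empty => simp
      | insert j s hj ih =>
        rw [Finset.sum_insert hj, Finset.prod_insert hj, hEadd, ih, ha]
    rw [hgen, hprod]
  obtain ⟨b, hb⟩ := sff_sym_comb r hr a hsum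
  obtain ⟨j₀, hj₀⟩ := h98_exists_center hr2 a b hb
  have hσ0 : ζ ^ b.val ≠ 0 := pow_ne_zero _ hζ0
  have hε0 : ∀ j, ε j ≠ 0 := by
    intro j h0
    have h1 := hε j
    rw [h0, zero_pow hrp.ne_zero] at h1
    exact zero_ne_one h1
  refine hpair x K ε hK hxK (ζ ^ b.val) hσ0 hε0 ?_ j₀ (by rw [← ha j₀, hj₀])
  intro c
  by_cases hc : c ^ r = 1
  · obtain ⟨c', hc'⟩ := hEsurj c hc
    have e1 : ∀ j, ε j = ζ ^ b.val * c ↔ a j = b + c' := by
      intro j
      rw [← ha j, ← hc', ← hEadd]
      exact ⟨fun h => hEinj _ _ h, fun h => by rw [h]⟩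
    have e2 : ∀ j, ε j = ζ ^ b.val * c⁻¹ ↔ a j = b - c' := by
      intro j
      rw [← ha j, ← hc']
      constructor
      · intro h
        have h2 : ζ ^ (a j + c').val = ζ ^ b.val := by
          rw [hEadd, h, mul_assoc, inv_mul_cancel₀ (pow_ne_zero _ hζ0), mul_one]
        have h3 := hEinj _ _ h2
        rw [← h3]
        ring
      · intro h
        have h2 : ζ ^ (a j + c').val = ζ ^ b.val := by
          rw [h, sub_add_cancel]
        rw [hEadd] at h2
        rw [← h2, mul_assoc, mul_inv_cancel₀ (pow_ne_zero _ hζ0), mul_one]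
    convert hb c' using 2
    · ext j
      simp only [Finset.mem_filter, Finset.mem_univ, true_and]
      exact e1 j
    · ext j
      simp only [Finset.mem_filter, Finset.mem_univ, true_and]
      exact e2 j
  · have e1 : (Finset.univ.filter (fun j => ε j = ζ ^ b.val * c)) = ∅ := by
      rw [Finset.filter_eq_empty_iff]
      intro j _ h
      apply hc
      have h2 : c = ε j / ζ ^ b.val := by
        rw [h, mul_div_cancel_left₀ _ hσ0]
      rw [h2, div_pow, hε j, hEpow b, div_one]
    have e2 : (Finset.univ.filter (fun j => ε j = ζ ^ b.val * c⁻¹)) = ∅ := by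
      rw [Finset.filter_eq_empty_iff]
      intro j _ h
      apply hc
      have h2 : c⁻¹ = ε j / ζ ^ b.val := by
        rw [h, mul_div_cancel_left₀ _ hσ0]
      have h3 : (c⁻¹) ^ r = 1 := by rw [h2, div_pow, hε j, hEpow b, div_one]
      rw [inv_pow] at h3
      exact inv_eq_one.mp h3
    rw [e1, e2]

end Cfsg.Agent.Lib.helper24
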