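import Mathlib
import Cfsg.Agent.Lib.helper24.SfoDefs

/-!
# S5981 piece OPAIR (helper12), core version: `sfo_pair_conj` with the OBAS statement
(`sfo_basis_pi`) as a hypothesis.
-/

set_option autoImplicit false

namespace Cfsg.Agent.Lib.helper24

open Module Matrix Cfsg.Geo

/-- An involution of the index set realising a symmetry of the fibre sizes; it fixes every index
whose value is fixed by the symmetry. -/
theorem h12_exists_invol_fix {n : ℕ} {α : Type*} [DecidableEq α] (ℓ : Fin n → α) (θ : α → α)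
    (hθ : ∀ c, θ (θ c) = c)
    (h : ∀ c, (Finset.univ.filter (fun j => ℓ j = c)).card =
      (Finset.univ.filter (fun j => ℓ j = θ c)).card) :
    ∃ π : Fin n → Fin n, (∀ i, π (π i) = i) ∧ (∀ i, ℓ (π i) = θ (ℓ i)) ∧
      ∀ i, θ (ℓ i) = ℓ i → π i = i := by
  classical
  obtain ⟨S, hS⟩ : ∃ S : α → Finset (Fin n), ∀ c, S c = Finset.univ.filter (fun j => ℓ j = c) :=
    ⟨_, fun _ => rfl⟩
  have hSmem : ∀ c j, j ∈ S c ↔ ℓ j = c := by
    intro c j; rw [hS]; simp
  have hScard : ∀ c, (S c).card = (S (θ c)).card := by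
    intro c; rw [hS, hS]; exact h c
  obtain ⟨m, hm1, hm2, hm3⟩ : ∃ m : ∀ (c d : α), (S c).card = (S d).card →
      ∀ i : Fin n, i ∈ S c → Fin n,
      (∀ c d hcd i hi, m c d hcd i hi ∈ S d) ∧
      (∀ c d hcd i hi hi', m d c (Eq.symm hcd) (m c d hcd i hi) hi' = i) ∧
      (∀ c hcc i hi, m c c hcc i hi = i) := by
    refine ⟨fun c d hcd i hi => (((S d).orderIsoOfFin rfl)
      (Fin.cast hcd (((S c).orderIsoOfFin rfl).symm ⟨i, hi⟩))).1, ?_, ?_, ?_⟩
    · intro c d hcd i hi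
      exact (((S d).orderIsoOfFin rfl)
        (Fin.cast hcd (((S c).orderIsoOfFin rfl).symm ⟨i, hi⟩))).2
    · intro c d hcd i hi hi'
      have e1 : (⟨(((S d).orderIsoOfFin rfl)
          (Fin.cast hcd (((S c).orderIsoOfFin rfl).symm ⟨i, hi⟩))).1, hi'⟩ : {x // x ∈ S d}) =
          ((S d).orderIsoOfFin rfl) (Fin.cast hcd (((S c).orderIsoOfFin rfl).symm ⟨i, hi⟩)) :=
        Subtype.ext rfl
      show (((S c).orderIsoOfFin rfl) (Fin.cast (Eq.symm hcd) (((S d).orderIsoOfFin rfl).symm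
        ⟨(((S d).orderIsoOfFin rfl)
          (Fin.cast hcd (((S c).orderIsoOfFin rfl).symm ⟨i, hi⟩))).1, hi'⟩))).1 = i
      rw [e1, OrderIso.symm_apply_apply]
      simp
    · intro c hcc i hi
      show (((S c).orderIsoOfFin rfl)
        (Fin.cast hcc (((S c).orderIsoOfFin rfl).symm ⟨i, hi⟩))).1 = i
      simp
  have hcongr : ∀ (c d c' d' : α) (hcd : (S c).card = (S d).card)
      (hcd' : (S c').card = (S d').card) (j j' : Fin n) (hj : j ∈ S c) (hj' : j' ∈ S c'),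
      c = c' → d = d' → j = j' → m c d hcd j hj = m c' d' hcd' j' hj' := by
    intro c d c' d' hcd hcd' j j' hj hj' h1 h2 h3
    subst h1; subst h2; subst h3; rfl
  have hmem : ∀ i, i ∈ S (ℓ i) := fun i => (hSmem _ _).mpr rfl
  obtain ⟨π, hπdef⟩ : ∃ π : Fin n → Fin n,
      ∀ i, π i = m (ℓ i) (θ (ℓ i)) (hScard (ℓ i)) i (hmem i) := ⟨_, fun _ => rfl⟩
  have hπmem : ∀ i, π i ∈ S (θ (ℓ i)) := by
    intro i; rw [hπdef i]; exact hm1 _ _ _ _ _
  have hℓ : ∀ i, ℓ (π i) = θ (ℓ i) := fun i => (hSmem _ _).mp (hπmem i)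
  refine ⟨π, ?_, hℓ, ?_⟩
  · intro i
    have h1 := hm2 (ℓ i) (θ (ℓ i)) (hScard (ℓ i)) i (hmem i) (hm1 _ _ _ _ _)
    rw [hπdef (π i)]
    rw [hcongr (ℓ (π i)) (θ (ℓ (π i))) (θ (ℓ i)) (ℓ i) (hScard (ℓ (π i)))
      (Eq.symm (hScard (ℓ i))) (π i) (m (ℓ i) (θ (ℓ i)) (hScard (ℓ i)) i (hmem i))
      (hmem (π i)) (hm1 _ _ _ _ _) (hℓ i) (by rw [hℓ i, hθ]) (hπdef i)]
    exact h1
  · intro i hi
    rw [hπdef i]
    rw [hcongr (ℓ i) (θ (ℓ i)) (ℓ i) (ℓ i) (hScard (ℓ i)) rfl i i (hmem i) (hmem i) rfl hi rfl]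
    exact hm3 _ _ _ _

/-- OPAIR, core: `hbas` is the statement of `sfo_basis_pi` (OBAS) for this `Q`. -/
theorem h12_sfo_pair_conj_core {F : Type*} [Field F] [Fintype F] [DecidableEq F] {n : ℕ}
    (h2 : (2 : F) ≠ 0) (Q : (Fin n → F) → F) (hQ : IsNondegenerateQuadraticForm Q)
    (hbas : ∀ (π : Fin n → Fin n), (∀ i, π (π i) = i) → (∃ i, π i = i) →
      ∃ v : Fin n → (Fin n → F), LinearIndependent F v ∧
        (∀ i j, j ≠ π i → QuadraticMap.polar Q (v i) (v j) = 0) ∧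
        (∀ i, π i ≠ i → Q (v i) = 0 ∧ QuadraticMap.polar Q (v i) (v (π i)) = 1) ∧
        (∀ i, π i = i → Q (v i) ≠ 0))
    (x K : Matrix (Fin n) (Fin n) F) (μ : Fin n → F) (hK : K.det ≠ 0)
    (hx : x * K = K * Matrix.diagonal μ) (σ : F) (hσ : σ ≠ 0) (hμ0 : ∀ j, μ j ≠ 0)
    (hsym : ∀ c : F, (Finset.univ.filter (fun j => μ j = σ * c)).card =
      (Finset.univ.filter (fun j => μ j = σ * c⁻¹)).card)
    (j₀ : Fin n) (hj₀ : μ j₀ = σ) : SfoConj Q x := by
  -- the bilinear form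
  obtain ⟨B, hBdef⟩ : ∃ B : (Fin n → F) → (Fin n → F) → F, B = QuadraticMap.polar Q := ⟨_, rfl⟩
  have hBaddl : ∀ x y v, B (x + y) v = B x v + B y v := by
    rw [hBdef]; exact hQ.polar_bilinear.add_left
  have hBsmull : ∀ (c : F) (x v : Fin n → F), B (c • x) v = c * B x v := by
    rw [hBdef]; exact hQ.polar_bilinear.smul_left
  have hBcomm : ∀ u v, B u v = B v u := by
    intro u v; rw [hBdef]; exact QuadraticMap.polar_comm Q u v
  have hBaddr : ∀ v x y, B v (x + y) = B v x + B v y := by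
    intro v x y; rw [hBcomm v, hBaddl, hBcomm x, hBcomm y]
  have hBsmulr : ∀ (c : F) (v x : Fin n → F), B v (c • x) = c * B v x := by
    intro c v x; rw [hBcomm v, hBsmull, hBcomm x]
  have hBself : ∀ v, B v v = 2 * Q v := by
    intro v
    rw [hBdef]
    unfold QuadraticMap.polar
    have h1 : v + v = (2 : F) • v := (two_smul F v).symm
    rw [h1, hQ.smul]
    ring
  have hQB : ∀ v, Q v = B v v / 2 := by
    intro v; rw [hBself]; field_simp
  -- the involution
  obtain ⟨π, hπ, hπℓ, hπfix⟩ := h12_exists_invol_fix (fun j => μ j / σ) (fun c : F => c⁻¹)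
    (fun c => inv_inv c) (by
    intro c
    have e1 : (Finset.univ.filter (fun j => μ j / σ = c))
        = Finset.univ.filter (fun j => μ j = σ * c) := by
      apply Finset.filter_congr
      intro j _
      rw [div_eq_iff hσ, mul_comm]
    have e2 : (Finset.univ.filter (fun j => μ j / σ = c⁻¹))
        = Finset.univ.filter (fun j => μ j = σ * c⁻¹) := by
      apply Finset.filter_congr
      intro j _
      rw [div_eq_iff hσ, mul_comm]
    rw [e1, e2]
    exact hsym c)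
  have hfix : ∃ i, π i = i := by
    refine ⟨j₀, hπfix j₀ ?_⟩
    show (μ j₀ / σ)⁻¹ = μ j₀ / σ
    rw [hj₀, div_self hσ, inv_one]
  -- `μ i * μ (π i) = σ * σ`
  have hkey : ∀ i, μ i * μ (π i) = σ * σ := by
    intro i
    have h1 : μ (π i) = σ * (μ i / σ)⁻¹ := by
      have h3 := hπℓ i
      rw [div_eq_iff hσ] at h3
      rw [h3, mul_comm]
    have hμi : μ i ≠ 0 := hμ0 i
    rw [h1]
    field_simp
  -- the basis
  obtain ⟨v, hv, hgram, -, -⟩ := hbas π hπ hfix
  rw [← hBdef] at hgram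
  obtain ⟨V, hVdef⟩ : ∃ V : Matrix (Fin n) (Fin n) F, ∀ i j, V i j = v j i :=
    ⟨Matrix.of (fun i j => v j i), fun _ _ => rfl⟩
  have hVcol : V.col = v := by
    funext j i
    exact hVdef i j
  have hVunit : IsUnit V := by
    rw [← Matrix.linearIndependent_cols_iff_isUnit, hVcol]
    exact hv
  have hVdetU : IsUnit V.det := (Matrix.isUnit_iff_isUnit_det V).mp hVunit
  have hVdet : V.det ≠ 0 := hVdetU.ne_zero
  have hVV : V⁻¹ * V = 1 := Matrix.nonsing_inv_mul V hVdetU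
  have hVV' : V * V⁻¹ = 1 := Matrix.mul_nonsing_inv V hVdetU
  have hVmul : ∀ a : Fin n → F, V *ᵥ a = ∑ j, a j • v j := by
    intro a
    funext i
    simp only [Matrix.mulVec, dotProduct, Finset.sum_apply, Pi.smul_apply, smul_eq_mul, hVdef]
    exact Finset.sum_congr rfl (fun j _ => mul_comm _ _)
  -- additivity over sums
  have hf0l : ∀ w, B 0 w = 0 := by
    intro w
    have h1 := hBaddl 0 0 w
    rw [add_zero] at h1
    exact left_eq_add.mp h1
  have hf0r : ∀ u, B u 0 = 0 := by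
    intro u; rw [hBcomm]; exact hf0l u
  have hsuml : ∀ (s : Finset (Fin n)) (a : Fin n → F) (w : Fin n → F),
      B (∑ j ∈ s, a j • v j) w = ∑ j ∈ s, a j * B (v j) w := by
    intro s a w
    induction s using Finset.induction_on with
    | empty => simp [hf0l]
    | insert j s hj ih =>
      rw [Finset.sum_insert hj, Finset.sum_insert hj, hBaddl, hBsmull, ih]
  have hsumr : ∀ (s : Finset (Fin n)) (b : Fin n → F) (u : Fin n → F),
      B u (∑ j ∈ s, b j • v j) = ∑ j ∈ s, b j * B u (v j) := by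
    intro s b u
    induction s using Finset.induction_on with
    | empty => simp [hf0r]
    | insert j s hj ih =>
      rw [Finset.sum_insert hj, Finset.sum_insert hj, hBaddr, hBsmulr, ih]
  have hG : ∀ a b : Fin n → F,
      B (V *ᵥ a) (V *ᵥ b) = ∑ i, a i * (b (π i) * B (v i) (v (π i))) := by
    intro a b
    rw [hVmul a, hVmul b, hsuml]
    apply Finset.sum_congr rfl
    intro i _
    rw [hsumr]
    congr 1
    rw [Finset.sum_eq_single (π i)]
    · intro j _ hj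
      rw [hgram i j hj, mul_zero]
    · intro h; exact absurd (Finset.mem_univ _) h
  -- the similarity
  obtain ⟨M, hMdef⟩ : ∃ M : Matrix (Fin n) (Fin n) F, M = V * Matrix.diagonal μ * V⁻¹ :=
    ⟨_, rfl⟩
  have hMV : M * V = V * Matrix.diagonal μ := by
    rw [hMdef, Matrix.mul_assoc, hVV, Matrix.mul_one]
  have hMdet : M.det ≠ 0 := by
    intro h0
    have h1 := congrArg Matrix.det hMV
    rw [Matrix.det_mul, Matrix.det_mul, h0, zero_mul, Matrix.det_diagonal] at h1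
    have h3 : ∏ i, μ i ≠ 0 := Finset.prod_ne_zero_iff.mpr (fun i _ => hμ0 i)
    exact (mul_ne_zero hVdet h3) h1.symm
  have hMvec : ∀ a : Fin n → F, M *ᵥ (V *ᵥ a) = V *ᵥ (fun i => μ i * a i) := by
    intro a
    rw [Matrix.mulVec_mulVec, hMV, ← Matrix.mulVec_mulVec]
    congr 1
    funext i
    rw [Matrix.mulVec_diagonal]
  have hsimB : ∀ u w : Fin n → F, B (M *ᵥ u) (M *ᵥ w) = (σ * σ) * B u w := by
    intro u w
    have hu : u = V *ᵥ (V⁻¹ *ᵥ u) := by
      rw [Matrix.mulVec_mulVec, hVV', Matrix.one_mulVec]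
    have hw : w = V *ᵥ (V⁻¹ *ᵥ w) := by
      rw [Matrix.mulVec_mulVec, hVV', Matrix.one_mulVec]
    rw [hu, hw, hMvec, hMvec, hG, hG, Finset.mul_sum]
    apply Finset.sum_congr rfl
    intro i _
    have := hkey i
    linear_combination ((V⁻¹ *ᵥ u) i * (V⁻¹ *ᵥ w) (π i) * B (v i) (v (π i))) * this
  have hsim : ∀ u : Fin n → F, Q (M *ᵥ u) = (σ * σ) * Q u := by
    intro u
    rw [hQB, hQB u, hsimB]
    ring
  have hc0 : σ * σ ≠ 0 := mul_ne_zero hσ hσ
  -- the conjugating matrix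
  obtain ⟨D, hDdef⟩ : ∃ D : Matrix (Fin n) (Fin n) F,
      D = Matrix.diagonal (fun j => if j = j₀ then (K.det * (V⁻¹).det)⁻¹ else 1) := ⟨_, rfl⟩
  have hVinvdet : (V⁻¹).det ≠ 0 := by
    intro h0
    have h1 := congrArg Matrix.det hVV
    rw [Matrix.det_mul, h0, zero_mul, Matrix.det_one] at h1
    exact zero_ne_one h1
  have hDdet : D.det = (K.det * (V⁻¹).det)⁻¹ := by
    rw [hDdef, Matrix.det_diagonal,
      Finset.prod_ite_eq' Finset.univ j₀ (fun _ => (K.det * (V⁻¹).det)⁻¹),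
      if_pos (Finset.mem_univ _)]
  have hDcomm : Matrix.diagonal μ * D = D * Matrix.diagonal μ := by
    rw [hDdef, Matrix.diagonal_mul_diagonal, Matrix.diagonal_mul_diagonal]
    congr 1
    funext j
    ring
  refine ⟨K * D * V⁻¹, Matrix.GeneralLinearGroup.mkOfDetNeZero M hMdet, ?_, ?_, ?_⟩
  · rw [Matrix.det_mul, Matrix.det_mul, hDdet]
    field_simp
  · exact ⟨Units.mk0 (σ * σ) hc0, fun u => hsim u⟩
  · show x * (K * D * V⁻¹) = K * D * V⁻¹ * M
    calc x * (K * D * V⁻¹) = (x * K) * D * V⁻¹ := by simp only [Matrix.mul_assoc]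
      _ = K * (Matrix.diagonal μ * D) * V⁻¹ := by rw [hx]; simp only [Matrix.mul_assoc]
      _ = K * D * (Matrix.diagonal μ * V⁻¹) := by rw [hDcomm]; simp only [Matrix.mul_assoc]
      _ = K * D * V⁻¹ * (V * Matrix.diagonal μ * V⁻¹) := by
          have e : V⁻¹ * (V * Matrix.diagonal μ * V⁻¹) = Matrix.diagonal μ * V⁻¹ := by
            rw [Matrix.mul_assoc, ← Matrix.mul_assoc V⁻¹ V, hVV, Matrix.one_mul]
          rw [Matrix.mul_assoc (K * D), e]
      _ = K * D * V⁻¹ * M := by rw [hMdef]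

end Cfsg.Agent.Lib.helper24
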