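import Mathlib
import Cfsg.Agent.Lib.helper24.SfoDefs
import Cfsg.Agent.Lib.helper32.SfoOBAS
import Cfsg.Agent.Lib.helper12.SfoOPAIRcore

/-!
S5981 piece OPAIR (final): `sfo_pair_conj`, from the core `h12_sfo_pair_conj_core`
and OBAS (`sfo_basis_pi`).
-/

set_option linter.unusedVariables false
set_option linter.unusedSectionVars false

namespace Cfsg.Agent.Lib.helper24

open Module Matrix Cfsg.Geo

/-- OPAIR -/
theorem sfo_pair_conj {F : Type*} [Field F] [Fintype F] [DecidableEq F] {n : ℕ}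
    (h2 : (2 : F) ≠ 0) (Q : (Fin n → F) → F) (hQ : IsNondegenerateQuadraticForm Q)
    (x K : Matrix (Fin n) (Fin n) F) (μ : Fin n → F) (hK : K.det ≠ 0)
    (hx : x * K = K * Matrix.diagonal μ) (σ : F) (hσ : σ ≠ 0) (hμ0 : ∀ j, μ j ≠ 0)
    (hsym : ∀ c : F, (Finset.univ.filter (fun j => μ j = σ * c)).card =
      (Finset.univ.filter (fun j => μ j = σ * c⁻¹)).card)
    (j₀ : Fin n) (hj₀ : μ j₀ = σ) : SfoConj Q x :=
  h12_sfo_pair_conj_core h2 Q hQ (fun π hπ hfix => sfo_basis_pi h2 Q hQ π hπ hfix)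
    x K μ hK hx σ hσ hμ0 hsym j₀ hj₀

end Cfsg.Agent.Lib.helper24
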