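import Mathlib
import Cfsg.Agent.Lib.helper24.SfoDefs
import Cfsg.Agent.Lib.helper12.SfoO35core
import Cfsg.Agent.Lib.helper12.SfoOPAIR

/-!
S5981 piece O35 (final): `sfo_suff_three_five`, from the core
`h12_sfo_suff_three_five_core` and OPAIR (`sfo_pair_conj`).
-/

set_option linter.unusedVariables false
set_option linter.unusedSectionVars false

namespace Cfsg.Agent.Lib.helper24

open Module Matrix Cfsg.Geo

/-- O35 -/
theorem sfo_suff_three_five {F : Type*} [Field F] [Fintype F] (r : ℕ) [Fact r.Prime]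
    (hr : r = 3 ∨ r = 5) (h2 : (2 : F) ≠ 0) (Q : (Fin r → F) → F)
    (hQ : IsNondegenerateQuadraticForm Q) (hv : padicValNat r (Fintype.card F - 1) = 1)
    (x : Matrix (Fin r) (Fin r) F) (hdet : x.det = 1) (z : F)
    (hx : x ^ r = z • (1 : Matrix (Fin r) (Fin r) F)) : SfoConj Q x := by
  classical
  exact h12_sfo_suff_three_five_core r hr Q
    (fun x K μ hK hxK σ hσ hμ0 hsym j₀ hj₀ =>
      sfo_pair_conj h2 Q hQ x K μ hK hxK σ hσ hμ0 hsym j₀ hj₀) hv x hdet z hx

end Cfsg.Agent.Lib.helper24
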