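import Mathlib
import Cfsg.Agent.Lib.helper24.SfuDefs
import Cfsg.Agent.Lib.helper9.SfuSESQ
import Cfsg.Agent.Lib.helper13.SfuUBAS

/-!
# S5982 piece UPAIR (racing copy, helper12): `sfu_pair_conj`.
-/

set_option autoImplicit false

namespace Cfsg.Agent.Lib.helper24

open Module Matrix Cfsg.Geo

/-- An involution of the index set realising a symmetry of the fibre sizes. -/
theorem h12_exists_invol {n : ℕ} {α : Type*} [DecidableEq α] (ℓ : Fin n → α) (θ : α → α)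
    (hθ : ∀ c, θ (θ c) = c)
    (h : ∀ c, (Finset.univ.filter (fun j => ℓ j = c)).card =
      (Finset.univ.filter (fun j => ℓ j = θ c)).card) :
    ∃ π : Fin n → Fin n, (∀ i, π (π i) = i) ∧ ∀ i, ℓ (π i) = θ (ℓ i) := by
  classical
  obtain ⟨S, hS⟩ : ∃ S : α → Finset (Fin n), ∀ c, S c = Finset.univ.filter (fun j => ℓ j = c) :=
    ⟨_, fun _ => rfl⟩
  have hSmem : ∀ c j, j ∈ S c ↔ ℓ j = c := by
    intro c j; rw [hS]; simp
  have hScard : ∀ c, (S c).card = (S (θ c)).card := by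
    intro c; rw [hS, hS]; exact h c
  obtain ⟨m, hm1, hm2⟩ : ∃ m : ∀ (c d : α), (S c).card = (S d).card → ∀ i : Fin n, i ∈ S c → Fin n,
      (∀ c d hcd i hi, m c d hcd i hi ∈ S d) ∧
      (∀ c d hcd i hi hi', m d c (Eq.symm hcd) (m c d hcd i hi) hi' = i) := by
    refine ⟨fun c d hcd i hi => (((S d).orderIsoOfFin rfl)
      (Fin.cast hcd (((S c).orderIsoOfFin rfl).symm ⟨i, hi⟩))).1, ?_, ?_⟩
    · intro c d hcd i hi
      exact (((S d).orderIsoOfFin rfl)
        (Fin.cast hcd (((S c).orderIsoOfFin rfl).symm ⟨i, hi⟩))).2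
    · intro c d hcd i hi hi'
      have e1 : (⟨(((S d).orderIsoOfFin rfl)
          (Fin.cast hcd (((S c).orderIsoOfFin rfl).symm ⟨i, hi⟩))).1, hi'⟩ : {x // x ∈ S d}) =
          ((S d).orderIsoOfFin rfl) (Fin.cast hcd (((S c).orderIsoOfFin rfl).symm ⟨i, hi⟩)) :=
        Subtype.ext rfl
      show (((S c).orderIsoOfFin rfl) (Fin.cast (Eq.symm hcd) (((S d).orderIsoOfFin rfl).symm
        ⟨(((S d).orderIsoOfFin rfl)
          (Fin.cast hcd (((S c).orderIsoOfFin rfl).symm ⟨i, hi⟩))).1, hi'⟩))).1 = i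
      rw [e1, OrderIso.symm_apply_apply]
      simp
  have hcongr : ∀ (c d c' d' : α) (hcd : (S c).card = (S d).card)
      (hcd' : (S c').card = (S d').card) (j j' : Fin n) (hj : j ∈ S c) (hj' : j' ∈ S c'),
      c = c' → d = d' → j = j' → m c d hcd j hj = m c' d' hcd' j' hj' := by
    intro c d c' d' hcd hcd' j j' hj hj' h1 h2 h3
    subst h1; subst h2; subst h3; rfl
  have hmem : ∀ i, i ∈ S (ℓ i) := fun i => (hSmem _ _).mpr rfl
  obtain ⟨π, hπdef⟩ : ∃ π : Fin n → Fin n,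
      ∀ i, π i = m (ℓ i) (θ (ℓ i)) (hScard (ℓ i)) i (hmem i) := ⟨_, fun _ => rfl⟩
  have hπmem : ∀ i, π i ∈ S (θ (ℓ i)) := by
    intro i; rw [hπdef i]; exact hm1 _ _ _ _ _
  have hℓ : ∀ i, ℓ (π i) = θ (ℓ i) := fun i => (hSmem _ _).mp (hπmem i)
  refine ⟨π, ?_, hℓ⟩
  intro i
  have h1 := hm2 (ℓ i) (θ (ℓ i)) (hScard (ℓ i)) i (hmem i) (hm1 _ _ _ _ _)
  rw [hπdef (π i)]
  rw [hcongr (ℓ (π i)) (θ (ℓ (π i))) (θ (ℓ i)) (ℓ i) (hScard (ℓ (π i)))
    (Eq.symm (hScard (ℓ i))) (π i) (m (ℓ i) (θ (ℓ i)) (hScard (ℓ i)) i (hmem i))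
    (hmem (π i)) (hm1 _ _ _ _ _) (hℓ i) (by rw [hℓ i, hθ]) (hπdef i)]
  exact h1

/-- UPAIR (helper12 racing copy, verbatim statement, prefixed name) -/
theorem h12_sfu_pair_conj {F : Type*} [Field F] [Fintype F] [DecidableEq F] {n : ℕ} (q₀ : ℕ)
    (hcard : Fintype.card F = q₀ ^ 2) (f : (Fin n → F) → (Fin n → F) → F)
    (hf : IsUnitaryFormPow q₀ f)
    (x K : Matrix (Fin n) (Fin n) F) (μ : Fin n → F) (hK : K.det ≠ 0)
    (hx : x * K = K * Matrix.diagonal μ) (σ : F) (hσ : σ ≠ 0) (hμ0 : ∀ j, μ j ≠ 0)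
    (hsym : ∀ c : F, (Finset.univ.filter (fun j => μ j = σ * c)).card =
      (Finset.univ.filter (fun j => μ j = σ * (c ^ q₀)⁻¹)).card) : SfuConj f x := by
  rcases Nat.eq_zero_or_pos n with hn0 | hnpos
  · subst hn0
    refine ⟨1, 1, Matrix.det_one, Subgroup.one_mem _, ?_⟩
    exact Subsingleton.elim _ _
  obtain ⟨hadd2, hsmul2, -, hinv, -⟩ := sfu_sesq q₀ hcard f hf
  -- the involution
  have hθ : ∀ c : F, ((c ^ q₀)⁻¹ ^ q₀)⁻¹ = c := by
    intro c
    rw [inv_pow, inv_inv, hinv]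
  obtain ⟨π, hπ, hπℓ⟩ := h12_exists_invol (fun j => μ j / σ) (fun c : F => (c ^ q₀)⁻¹) hθ (by
    intro c
    have e1 : (Finset.univ.filter (fun j => μ j / σ = c))
        = Finset.univ.filter (fun j => μ j = σ * c) := by
      apply Finset.filter_congr
      intro j _
      rw [div_eq_iff hσ, mul_comm]
    have e2 : (Finset.univ.filter (fun j => μ j / σ = (c ^ q₀)⁻¹))
        = Finset.univ.filter (fun j => μ j = σ * (c ^ q₀)⁻¹) := by
      apply Finset.filter_congr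
      intro j _
      rw [div_eq_iff hσ, mul_comm]
    rw [e1, e2]
    exact hsym c)
  -- `μ i * μ (π i) ^ q₀ = σ * σ ^ q₀`
  have hkey : ∀ i, μ i * μ (π i) ^ q₀ = σ * σ ^ q₀ := by
    intro i
    have h1 : μ (π i) = σ * ((μ i / σ) ^ q₀)⁻¹ := by
      have h2 := hπℓ i
      rw [div_eq_iff hσ] at h2
      rw [h2, mul_comm]
    have hμi : μ i ≠ 0 := hμ0 i
    have h3 : μ (π i) ^ q₀ = σ ^ q₀ * σ / μ i := by
      rw [h1, mul_pow, inv_pow, hinv]
      field_simp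
    rw [h3]
    field_simp
  -- the basis
  obtain ⟨v, hv, hgram⟩ := h13_sfu_basis_pi q₀ hcard f hf π hπ
  obtain ⟨V, hVdef⟩ : ∃ V : Matrix (Fin n) (Fin n) F, ∀ i j, V i j = v j i :=
    ⟨Matrix.of (fun i j => v j i), fun _ _ => rfl⟩
  have hVcol : V.col = v := by
    funext j i
    exact hVdef i j
  have hVunit : IsUnit V := by
    rw [← Matrix.linearIndependent_cols_iff_isUnit, hVcol]
    exact hv
  have hVdetU : IsUnit V.det := (Matrix.isUnit_iff_isUnit_det V).mp hVunit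
  have hVdet : V.det ≠ 0 := hVdetU.ne_zero
  have hVV : V⁻¹ * V = 1 := Matrix.nonsing_inv_mul V hVdetU
  have hVV' : V * V⁻¹ = 1 := Matrix.mul_nonsing_inv V hVdetU
  have hVmul : ∀ a : Fin n → F, V *ᵥ a = ∑ j, a j • v j := by
    intro a
    funext i
    simp only [Matrix.mulVec, dotProduct, Finset.sum_apply, Pi.smul_apply, smul_eq_mul, hVdef]
    exact Finset.sum_congr rfl (fun j _ => mul_comm _ _)
  -- additivity over sums
  have hf0l : ∀ w, f 0 w = 0 := by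
    intro w
    have h1 := hf.add_left 0 0 w
    rw [add_zero] at h1
    exact left_eq_add.mp h1
  have hf0r : ∀ u, f u 0 = 0 := by
    intro u
    have h1 := hadd2 u 0 0
    rw [add_zero] at h1
    exact left_eq_add.mp h1
  have hsuml : ∀ (s : Finset (Fin n)) (a : Fin n → F) (w : Fin n → F),
      f (∑ j ∈ s, a j • v j) w = ∑ j ∈ s, a j * f (v j) w := by
    intro s a w
    induction s using Finset.induction_on with
    | empty => simp [hf0l]
    | insert j s hj ih =>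
      rw [Finset.sum_insert hj, Finset.sum_insert hj, hf.add_left, hf.smul_left, ih]
  have hsumr : ∀ (s : Finset (Fin n)) (b : Fin n → F) (u : Fin n → F),
      f u (∑ j ∈ s, b j • v j) = ∑ j ∈ s, b j ^ q₀ * f u (v j) := by
    intro s b u
    induction s using Finset.induction_on with
    | empty => simp [hf0r]
    | insert j s hj ih =>
      rw [Finset.sum_insert hj, Finset.sum_insert hj, hadd2, hsmul2, ih]
  have hG : ∀ a b : Fin n → F, f (V *ᵥ a) (V *ᵥ b) = ∑ i, a i * b (π i) ^ q₀ := by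
    intro a b
    rw [hVmul a, hVmul b, hsuml]
    apply Finset.sum_congr rfl
    intro i _
    rw [hsumr]
    congr 1
    rw [Finset.sum_eq_single (π i)]
    · rw [hgram, if_pos rfl, mul_one]
    · intro j _ hj
      rw [hgram, if_neg hj, mul_zero]
    · intro h; exact absurd (Finset.mem_univ _) h
  -- the similarity
  obtain ⟨M, hMdef⟩ : ∃ M : Matrix (Fin n) (Fin n) F, M = V * Matrix.diagonal μ * V⁻¹ :=
    ⟨_, rfl⟩
  have hMV : M * V = V * Matrix.diagonal μ := by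
    rw [hMdef, Matrix.mul_assoc, hVV, Matrix.mul_one]
  have hMdet : M.det ≠ 0 := by
    intro h0
    have h1 := congrArg Matrix.det hMV
    rw [Matrix.det_mul, Matrix.det_mul, h0, zero_mul, Matrix.det_diagonal] at h1
    have h2 : ∏ i, μ i ≠ 0 := Finset.prod_ne_zero_iff.mpr (fun i _ => hμ0 i)
    exact (mul_ne_zero hVdet h2) h1.symm
  have hMvec : ∀ a : Fin n → F, M *ᵥ (V *ᵥ a) = V *ᵥ (fun i => μ i * a i) := by
    intro a
    rw [Matrix.mulVec_mulVec, hMV, ← Matrix.mulVec_mulVec]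
    congr 1
    funext i
    rw [Matrix.mulVec_diagonal]
  have hsim : ∀ u w : Fin n → F, f (M *ᵥ u) (M *ᵥ w) = (σ * σ ^ q₀) * f u w := by
    intro u w
    have hu : u = V *ᵥ (V⁻¹ *ᵥ u) := by
      rw [Matrix.mulVec_mulVec, hVV', Matrix.one_mulVec]
    have hw : w = V *ᵥ (V⁻¹ *ᵥ w) := by
      rw [Matrix.mulVec_mulVec, hVV', Matrix.one_mulVec]
    rw [hu, hw, hMvec, hMvec, hG, hG, Finset.mul_sum]
    apply Finset.sum_congr rfl
    intro i _
    rw [mul_pow]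
    have := hkey i
    linear_combination ((V⁻¹ *ᵥ u) i * (V⁻¹ *ᵥ w) (π i) ^ q₀) * this
  have hc0 : σ * σ ^ q₀ ≠ 0 := mul_ne_zero hσ (pow_ne_zero _ hσ)
  -- the conjugating matrix
  obtain ⟨j₀⟩ : Nonempty (Fin n) := ⟨⟨0, hnpos⟩⟩
  obtain ⟨D, hDdef⟩ : ∃ D : Matrix (Fin n) (Fin n) F,
      D = Matrix.diagonal (fun j => if j = j₀ then (K.det * (V⁻¹).det)⁻¹ else 1) := ⟨_, rfl⟩
  have hVinvdet : (V⁻¹).det ≠ 0 := by
    intro h0
    have h1 := congrArg Matrix.det hVV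
    rw [Matrix.det_mul, h0, zero_mul, Matrix.det_one] at h1
    exact zero_ne_one h1
  have hDdet : D.det = (K.det * (V⁻¹).det)⁻¹ := by
    rw [hDdef, Matrix.det_diagonal,
      Finset.prod_ite_eq' Finset.univ j₀ (fun _ => (K.det * (V⁻¹).det)⁻¹),
      if_pos (Finset.mem_univ _)]
  have hDcomm : Matrix.diagonal μ * D = D * Matrix.diagonal μ := by
    rw [hDdef, Matrix.diagonal_mul_diagonal, Matrix.diagonal_mul_diagonal]
    congr 1
    funext j
    ring
  refine ⟨K * D * V⁻¹, Matrix.GeneralLinearGroup.mkOfDetNeZero M hMdet, ?_, ?_, ?_⟩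
  · rw [Matrix.det_mul, Matrix.det_mul, hDdet]
    field_simp
  · exact ⟨Units.mk0 (σ * σ ^ q₀) hc0, fun u w => hsim u w⟩
  · show x * (K * D * V⁻¹) = K * D * V⁻¹ * M
    calc x * (K * D * V⁻¹) = (x * K) * D * V⁻¹ := by simp only [Matrix.mul_assoc]
      _ = K * (Matrix.diagonal μ * D) * V⁻¹ := by rw [hx]; simp only [Matrix.mul_assoc]
      _ = K * D * (Matrix.diagonal μ * V⁻¹) := by rw [hDcomm]; simp only [Matrix.mul_assoc]
      _ = K * D * V⁻¹ * (V * Matrix.diagonal μ * V⁻¹) := by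
          have e : V⁻¹ * (V * Matrix.diagonal μ * V⁻¹) = Matrix.diagonal μ * V⁻¹ := by
            rw [Matrix.mul_assoc, ← Matrix.mul_assoc V⁻¹ V, hVV, Matrix.one_mul]
          rw [Matrix.mul_assoc (K * D), e]
      _ = K * D * V⁻¹ * M := by rw [hMdef]

end Cfsg.Agent.Lib.helper24
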