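import Mathlib
import Cfsg.Agent.Lib.helper12.SfuU35core
import Cfsg.Agent.Lib.helper12.SfuUPAIR

/-!
# S5982 piece U35 (helper12): `sfu_suff_three_five` (core + the racing copy of UPAIR).
-/

set_option autoImplicit false

namespace Cfsg.Agent.Lib.helper24

open Module Matrix Cfsg.Geo

/-- U35 -/
theorem sfu_suff_three_five {F : Type*} [Field F] [Fintype F] (r : ℕ) [Fact r.Prime]
    (hr : r = 3 ∨ r = 5) (q₀ : ℕ) (hcard : Fintype.card F = q₀ ^ 2)
    (f : (Fin r → F) → (Fin r → F) → F) (hf : IsUnitaryFormPow q₀ f)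
    (hv : padicValNat r (q₀ - 1) = 1)
    (x : Matrix (Fin r) (Fin r) F) (hdet : x.det = 1) (z : F)
    (hx : x ^ r = z • (1 : Matrix (Fin r) (Fin r) F)) : SfuConj f x := by
  classical
  exact h12_sfu_suff_three_five_core r hr q₀ hcard f hf
    (fun x K μ hK hxK σ hσ hμ0 hsym =>
      h12_sfu_pair_conj q₀ hcard f hf x K μ hK hxK σ hσ hμ0 hsym)
    hv x hdet z hx

end Cfsg.Agent.Lib.helper24
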